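import Mathlib
import Cfsg.Agent.H957.NoFix
import Cfsg.Agent.ClassicalGeometry.WittQuad
set_option linter.all false
/-!
# Isometries of odd prime order without fixed vectors: quadratic forms in characteristic two
-/

set_option autoImplicit false

namespace Cfsg.Agent.H957

open Module Cfsg.Agent.H951 QuadraticMap

section

variable {F V : Type*} [Field F] [AddCommGroup V] [Module F V]

/-- The isometry group of a quadratic form, inside `V ≃ₗ[F] V`. -/
def isoQ (Q : QuadraticForm F V) : Subgroup (V ≃ₗ[F] V) where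
  carrier := {g | ∀ v, Q (g v) = Q v}
  mul_mem' := by
    intro a b ha hb v
    rw [LinearEquiv.mul_apply, ha, hb]
  one_mem' := fun v => rfl
  inv_mem' := by
    intro a ha v
    have h := ha (a⁻¹ v)
    rw [← LinearEquiv.mul_apply, mul_inv_cancel] at h
    exact h.symm

theorem mem_isoQ {Q : QuadraticForm F V} {g : V ≃ₗ[F] V} : g ∈ isoQ Q ↔ ∀ v, Q (g v) = Q v := Iff.rfl

theorem polar_iso {Q : QuadraticForm F V} {g : V ≃ₗ[F] V} (hg : g ∈ isoQ Q) (u v : V) :
    polarBilin Q (g u) (g v) = polarBilin Q u v := by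
  simp only [polarBilin_apply_apply, polar, ← map_add, hg _]

theorem polarBilin_isRefl (Q : QuadraticForm F V) : (polarBilin Q).IsRefl := by
  intro x y h
  simp only [polarBilin_apply_apply] at h ⊢
  rw [polar_comm]; exact h

/-- Witt transitivity, relative to a subspace `U` fixed pointwise. -/
theorem witt_fix [Finite F] [FiniteDimensional F V] (Q : QuadraticForm F V) (hQ : (polarBilin Q).Nondegenerate)
    (U : Submodule F V) (w₁ w₂ : V) (hw : Q w₁ = Q w₂) (h₁ : ∀ u ∈ U, polarBilin Q u w₁ = 0)
    (h₂ : ∀ u ∈ U, polarBilin Q u w₂ = 0) (hn₁ : w₁ ∉ U) (hn₂ : w₂ ∉ U) :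
    ∃ g ∈ isoQ Q, (∀ u ∈ U, g u = u) ∧ g w₁ = w₂ := by
  let b := Module.finBasis F U
  let c : Fin (finrank F U) → V := fun i => (b i : V)
  have hspan : Submodule.span F (Set.range c) = U := by
    have : Set.range c = U.subtype '' Set.range b := by
      rw [← Set.range_comp]; rfl
    rw [this, Submodule.span_image, b.span_eq, Submodule.map_top, Submodule.range_subtype]
  have hli : LinearIndependent F c := b.linearIndependent.map' U.subtype (Submodule.ker_subtype U)
  have hc : ∀ i, c i ∈ U := fun i => (b i).2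
  obtain ⟨g, hg, hg'⟩ := ClassicalGeometry.WittQuad.extend_family Q hQ (finrank F U + 1)
    (Fin.cons w₁ c) (Fin.cons w₂ c)
    (linearIndependent_finCons.2 ⟨hli, by rwa [hspan]⟩)
    (linearIndependent_finCons.2 ⟨hli, by rwa [hspan]⟩)
    (by
      intro i
      refine Fin.cases ?_ (fun i => ?_) i
      · exact hw
      · rfl)
    (by
      intro i j
      have hr := polarBilin_isRefl Q
      refine Fin.cases ?_ (fun i => ?_) i
      · refine Fin.cases ?_ (fun j => ?_) j
        · simp only [Fin.cons_zero, polarBilin_apply_apply]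
          rw [polar_self, polar_self, hw]
        · simp only [Fin.cons_zero, Fin.cons_succ]
          rw [hr _ _ (h₁ _ (hc j)), hr _ _ (h₂ _ (hc j))]
      · refine Fin.cases ?_ (fun j => ?_) j
        · simp only [Fin.cons_zero, Fin.cons_succ]
          rw [h₁ _ (hc i), h₂ _ (hc i)]
        · rfl)
  refine ⟨g, hg, ?_, by simpa using hg' 0⟩
  have hfix : ∀ i, g (c i) = c i := fun i => by simpa using hg' i.succ
  intro u hu
  rw [← hspan] at hu
  induction hu using Submodule.span_induction with
  | mem x hx => obtain ⟨i, rfl⟩ := hx; exact hfix i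
  | zero => exact map_zero g
  | add x y _ _ hx hy => rw [map_add, hx, hy]
  | smul a x _ hx => rw [map_smul, hx]

/-- In characteristic two, if `r` (odd prime) divides the number of vectors with `Q v = 1` then some
isometry `g` with `g ^ r = 1` has no non-zero fixed vector. -/
theorem exists_no_fix_quad [Finite F] [FiniteDimensional F V] (h2 : (2 : F) = 0) (Q : QuadraticForm F V)
    (hQ : (polarBilin Q).Nondegenerate) {r : ℕ} [Fact r.Prime] (hr : (r : F) ≠ 0)
    (hcard : r ∣ Nat.card {v : V // Q v = 1}) :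
    ∃ g ∈ isoQ Q, g ^ r = 1 ∧ ∀ v, g v = v → v = 0 := by
  refine exists_no_fix hr (polarBilin Q) hQ (polarBilin_isRefl Q) (isoQ Q) (fun g hg => polar_iso hg)
    (fun v => Q v = 1) (fun g hg v hv => by rw [hg v]; exact hv) (by simp) ?_ ?_ hcard
  · intro U w₁ w₂ hw₁ hw₂ h₁ h₂ hn₁ hn₂
    exact witt_fix Q hQ U w₁ w₂ (by rw [hw₁, hw₂]) h₁ h₂ hn₁ hn₂
  · intro W hW hWnd
    obtain ⟨w, hw, hw0⟩ := Submodule.exists_mem_ne_zero_of_ne_bot hW
    have : ∃ w ∈ W, Q w ≠ 0 := by
      by_contra hcon
      push Not at hcon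
      apply hw0
      apply hWnd w hw
      intro w' hw'
      rw [polarBilin_apply_apply, polar, hcon _ (W.add_mem hw hw'), hcon _ hw, hcon _ hw']
      simp
    obtain ⟨v, hv, hv0⟩ := this
    have hchar : CharP F 2 := CharTwo.of_one_ne_zero_of_two_eq_zero one_ne_zero h2
    have hperf : Function.Surjective (fun c : F => c ^ 2) := by
      have : Function.Injective (fun c : F => c ^ 2) := by
        intro a b hab
        have h : (a - b) ^ 2 = 0 := by
          have : a ^ 2 = b ^ 2 := hab
          calc (a - b) ^ 2 = a ^ 2 - b ^ 2 + 2 * (b ^ 2 - a * b) := by ring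
            _ = 0 := by rw [this, h2]; ring
        exact sub_eq_zero.1 (pow_eq_zero_iff (two_ne_zero)|>.1 h)
      exact Finite.surjective_of_injective this
    obtain ⟨c, hc⟩ := hperf (Q v)⁻¹
    refine ⟨c • v, W.smul_mem c hv, ?_⟩
    rw [QuadraticMap.map_smul]
    have hc' : c * c = (Q v)⁻¹ := by rw [← hc]; ring
    rw [hc', smul_eq_mul, inv_mul_cancel₀ hv0]

end

end Cfsg.Agent.H957
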