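import Mathlib
import Cfsg.Prelude.Def_GeometricClasses
import Cfsg.Agent.H957.Bridge
import Cfsg.Agent.ClassicalGeometry.HermFrame
import Cfsg.Agent.ClassicalGeometry.HermOrtho
import Cfsg.Agent.ClassicalGeometry.GUBasic
set_option linter.all false
/-!
# Hyperbolic frames for the standard Hermitian form

A frame is a pair of families `e, f` with `h(e_i, e_j) = h(f_i, f_j) = 0`, `h(e_i, f_j) = δ_ij`. When it has
`n / 2` members it is the same as a basis adapted to a pair of complementary totally singular subspaces.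
-/

set_option autoImplicit false

namespace Cfsg.Agent.H957.Uni

open Module Matrix
open scoped MatrixGroups
open Cfsg Cfsg.Agent.LieClassical.HermBasic Cfsg.Agent.H957

variable {F : Type*} [Field F] {q n : ℕ}

/-- Hyperbolic frames. -/
structure IsFrame (q : ℕ) {ι : Type*} [DecidableEq ι] (e f : ι → (Fin n → F)) : Prop where
  ee : ∀ i j, hermForm n F q (e i) (e j) = 0
  ff : ∀ i j, hermForm n F q (f i) (f j) = 0
  ef : ∀ i j, hermForm n F q (e i) (f j) = if i = j then 1 else 0

variable [Fintype F]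

theorem IsFrame.fe (hF : Fintype.card F = q ^ 2) {ι : Type*} [DecidableEq ι] {e f : ι → (Fin n → F)}
    (h : IsFrame q e f) (i j : ι) : hermForm n F q (f i) (e j) = if i = j then 1 else 0 := by
  rw [herm_swap hF (e j) (f i), h.ef]
  split_ifs with h1 h2 h2
  · exact one_pow q
  · exact absurd h1.symm h2
  · exact absurd h2.symm h1
  · exact zero_pow_q hF

theorem IsFrame.symm (hF : Fintype.card F = q ^ 2) {ι : Type*} [DecidableEq ι] {e f : ι → (Fin n → F)}
    (h : IsFrame q e f) : IsFrame q f e := ⟨h.ff, h.ee, h.fe hF⟩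

theorem IsFrame.linearIndependent (hF : Fintype.card F = q ^ 2) {ι : Type*} [Fintype ι] [DecidableEq ι]
    {e f : ι → (Fin n → F)} (h : IsFrame q e f) : LinearIndependent F (Sum.elim e f) := by
  rw [Fintype.linearIndependent_iff]
  intro c hc
  rw [Fintype.sum_sum_type] at hc
  simp only [Sum.elim_inl, Sum.elim_inr] at hc
  have h1 : ∀ j, c (Sum.inl j) = 0 := by
    intro j
    have := congrArg (fun v => hermForm n F q v (f j)) hc
    simp only [herm_add_left, herm_sum_left, herm_smul_left, h.ef, h.ff, herm_zero_left, mul_zero,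
      Finset.sum_const_zero, add_zero, mul_ite, mul_one, Finset.sum_ite_eq', Finset.mem_univ, if_true] at this
    exact this
  have h2 : ∀ j, c (Sum.inr j) = 0 := by
    intro j
    have := congrArg (fun v => hermForm n F q v (e j)) hc
    simp only [herm_add_left, herm_sum_left, herm_smul_left, h.ee, h.fe hF, herm_zero_left, mul_zero,
      Finset.sum_const_zero, zero_add, mul_ite, mul_one, Finset.sum_ite_eq', Finset.mem_univ, if_true] at this
    exact this
  intro i
  rcases i with i | i
  · exact h1 i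
  · exact h2 i

/-- The basis given by a frame of maximal size. -/
noncomputable def IsFrame.basis (hF : Fintype.card F = q ^ 2) {ι : Type*} [Fintype ι] [DecidableEq ι]
    {e f : ι → (Fin n → F)} (h : IsFrame q e f) (hn : n = 2 * Fintype.card ι) [Nonempty ι] :
    Module.Basis (ι ⊕ ι) F (Fin n → F) :=
  basisOfLinearIndependentOfCardEqFinrank (h.linearIndependent hF) (by
    rw [Module.finrank_fintype_fun_eq_card, Fintype.card_fin, Fintype.card_sum]; omega)

theorem IsFrame.basis_inl (hF : Fintype.card F = q ^ 2) {ι : Type*} [Fintype ι] [DecidableEq ι]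
    {e f : ι → (Fin n → F)} (h : IsFrame q e f) (hn : n = 2 * Fintype.card ι) [Nonempty ι] (i : ι) :
    h.basis hF hn (Sum.inl i) = e i := by
  simp [IsFrame.basis]

theorem IsFrame.basis_inr (hF : Fintype.card F = q ^ 2) {ι : Type*} [Fintype ι] [DecidableEq ι]
    {e f : ι → (Fin n → F)} (h : IsFrame q e f) (hn : n = 2 * Fintype.card ι) [Nonempty ι] (i : ι) :
    h.basis hF hn (Sum.inr i) = f i := by
  simp [IsFrame.basis]

/-- The linear functional `u ↦ h(u, v)`. -/
noncomputable def lf (q : ℕ) (v : Fin n → F) : (Fin n → F) →ₗ[F] F := ClassicalGeometry.HermFrame.leftFun q v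

omit [Fintype F] in
theorem lf_apply (v u : Fin n → F) : lf q v u = hermForm n F q u v := rfl

/-- A linear map preserving the form on a basis is an isometry. -/
theorem isometry_of_basis (hF : Fintype.card F = q ^ 2) {κ : Type*} (b : Module.Basis κ F (Fin n → F))
    (g : (Fin n → F) →ₗ[F] (Fin n → F))
    (h : ∀ i j, hermForm n F q (g (b i)) (g (b j)) = hermForm n F q (b i) (b j)) (u v : Fin n → F) :
    hermForm n F q (g u) (g v) = hermForm n F q u v := by
  have h1 : ∀ j, ∀ u, hermForm n F q (g u) (g (b j)) = hermForm n F q u (b j) := by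
    intro j
    have : (lf q (g (b j))).comp g = lf q (b j) := b.ext fun i => h i j
    exact fun u => LinearMap.congr_fun this u
  have h2 : (lf q (g u)).comp g = lf q u := b.ext fun j => by
    rw [LinearMap.comp_apply, lf_apply, lf_apply, herm_swap hF (g u) (g (b j)), herm_swap hF u (b j), h1]
  have h3 := LinearMap.congr_fun h2 v
  rw [LinearMap.comp_apply, lf_apply, lf_apply] at h3
  rw [herm_swap hF (g v) (g u), h3, ← herm_swap hF v u]

/-- Two maximal frames are conjugate under the unitary group. -/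
theorem exists_map_frame (hF : Fintype.card F = q ^ 2) {ι : Type*} [Fintype ι] [DecidableEq ι] [Nonempty ι]
    (hn : n = 2 * Fintype.card ι) {e f e' f' : ι → (Fin n → F)} (h : IsFrame q e f) (h' : IsFrame q e' f') :
    ∃ g ∈ GU n F q, (∀ i, (g : Matrix (Fin n) (Fin n) F) *ᵥ e i = e' i) ∧
      ∀ i, (g : Matrix (Fin n) (Fin n) F) *ᵥ f i = f' i := by
  set b := h.basis hF hn with hb
  let T : (Fin n → F) →ₗ[F] (Fin n → F) := b.constr F (Sum.elim e' f')
  have hTe : ∀ i, T (e i) = e' i := fun i => by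
    have := b.constr_basis F (Sum.elim e' f') (Sum.inl i)
    rw [hb, h.basis_inl hF hn] at this
    exact this
  have hTf : ∀ i, T (f i) = f' i := fun i => by
    have := b.constr_basis F (Sum.elim e' f') (Sum.inr i)
    rw [hb, h.basis_inr hF hn] at this
    exact this
  have hT : ∀ u v, hermForm n F q (T u) (T v) = hermForm n F q u v := by
    apply isometry_of_basis hF b
    rintro (i | i) (j | j) <;> rw [hb]
    · rw [h.basis_inl hF hn, h.basis_inl hF hn, hTe, hTe, h.ee, h'.ee]
    · rw [h.basis_inl hF hn, h.basis_inr hF hn, hTe, hTf, h.ef, h'.ef]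
    · rw [h.basis_inl hF hn, h.basis_inr hF hn, hTe, hTf, h.fe hF, h'.fe hF]
    · rw [h.basis_inr hF hn, h.basis_inr hF hn, hTf, hTf, h.ff, h'.ff]
  obtain ⟨g, hg, hgM⟩ := ClassicalGeometry.HermOrtho.exists_GU_of_isometry hF (M := LinearMap.toMatrix' T) (by
    intro u v
    rw [LinearMap.toMatrix'_mulVec, LinearMap.toMatrix'_mulVec]
    exact hT u v)
  refine ⟨g, hg, fun i => ?_, fun i => ?_⟩
  · rw [hgM, LinearMap.toMatrix'_mulVec, hTe]
  · rw [hgM, LinearMap.toMatrix'_mulVec, hTf]

/-- A frame adapted to a pair of complementary totally singular subspaces, extending a basis of the first. -/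
theorem exists_frame_of_basis (hF : Fintype.card F = q ^ 2) {m : ℕ} {E₀ E₁ : Submodule F (Fin n → F)}
    (hs₀ : ∀ u ∈ E₀, ∀ v ∈ E₀, hermForm n F q u v = 0) (hs₁ : ∀ u ∈ E₁, ∀ v ∈ E₁, hermForm n F q u v = 0)
    (hsup : E₀ ⊔ E₁ = ⊤) (e : Fin m → (Fin n → F)) (he : ∀ i, e i ∈ E₀) (hli : LinearIndependent F e) :
    ∃ f : Fin m → (Fin n → F), (∀ i, f i ∈ E₁) ∧ IsFrame q e f := by
  obtain ⟨f', hf'⟩ := ClassicalGeometry.HermFrame.exists_dual hF hli
  have hdec : ∀ j, ∃ a ∈ E₀, ∃ b ∈ E₁, a + b = f' j := fun j => by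
    have : f' j ∈ E₀ ⊔ E₁ := by rw [hsup]; trivial
    exact Submodule.mem_sup.1 this
  choose a ha b hb hab using hdec
  refine ⟨b, hb, fun i j => hs₀ _ (he i) _ (he j), fun i j => hs₁ _ (hb i) _ (hb j), fun i j => ?_⟩
  rw [← hf' i j, ← hab, herm_add_right hF, hs₀ _ (he i) _ (ha j), zero_add]

/-- A frame adapted to a pair of complementary totally singular subspaces. -/
theorem exists_frame_of_pair (hF : Fintype.card F = q ^ 2) {m : ℕ} {E₀ E₁ : Submodule F (Fin n → F)}
    (hs₀ : ∀ u ∈ E₀, ∀ v ∈ E₀, hermForm n F q u v = 0) (hs₁ : ∀ u ∈ E₁, ∀ v ∈ E₁, hermForm n F q u v = 0)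
    (hsup : E₀ ⊔ E₁ = ⊤) (hfr : finrank F E₀ = m) :
    ∃ e f : Fin m → (Fin n → F), (∀ i, e i ∈ E₀) ∧ (∀ i, f i ∈ E₁) ∧ IsFrame q e f := by
  subst hfr
  let b := Module.finBasis F E₀
  obtain ⟨f, hf, h⟩ := exists_frame_of_basis hF hs₀ hs₁ hsup (fun i => (b i : Fin n → F)) (fun i => (b i).2)
    (b.linearIndependent.map' E₀.subtype (Submodule.ker_subtype E₀))
  exact ⟨_, f, fun i => (b i).2, hf, h⟩

/-- Totally singular subspaces have dimension at most `n / 2`. -/
theorem two_mul_finrank_le (hF : Fintype.card F = q ^ 2) {W : Submodule F (Fin n → F)}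
    (hW : ∀ u ∈ W, ∀ v ∈ W, hermForm n F q u v = 0) : 2 * finrank F W ≤ n := by
  let b := Module.finBasis F W
  obtain ⟨f, hf, hff⟩ := ClassicalGeometry.HermFrame.exists_hyperbolic hF
    (e := fun i => (b i : Fin n → F))
    (b.linearIndependent.map' W.subtype (Submodule.ker_subtype W)) (fun i j => hW _ (b i).2 _ (b j).2)
  have h : IsFrame q (fun i => (b i : Fin n → F)) f := ⟨fun i j => hW _ (b i).2 _ (b j).2, hff, hf⟩
  have := (h.linearIndependent hF).fintype_card_le_finrank
  rw [Fintype.card_sum, Fintype.card_fin, Module.finrank_fintype_fun_eq_card, Fintype.card_fin] at this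
  omega

/-- Hilbert 90 for the quadratic extension: an element of norm one is a `(q-1)`-st power. -/
theorem exists_pow_eq (hF : Fintype.card F = q ^ 2) {δ : F} (hδ : δ ^ (q + 1) = 1) :
    ∃ α : F, α ≠ 0 ∧ α * (α⁻¹) ^ q = δ := by
  have hq := LieClassical.HermBasic.two_le hF
  have hδ0 : δ ≠ 0 := by
    rintro rfl
    rw [zero_pow (by omega)] at hδ
    exact zero_ne_one hδ
  obtain ⟨γ, hγ⟩ := IsCyclic.exists_generator (α := Fˣ)
  obtain ⟨k, hk⟩ := (Subgroup.mem_zpowers_iff).1 (hγ (Units.mk0 δ hδ0))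
  have hord : orderOf γ = (q + 1) * (q - 1) := by
    rw [orderOf_eq_card_of_forall_mem_zpowers hγ, LieClassical.HermBasic.card_units_eq hF]
  have h1 : γ ^ (k * ((q : ℤ) + 1)) = 1 := by
    rw [_root_.zpow_mul, hk]
    have : (Units.mk0 δ hδ0) ^ (q + 1) = 1 := Units.ext (by simpa using hδ)
    exact_mod_cast this
  rw [← orderOf_dvd_iff_zpow_eq_one, hord] at h1
  have h2 : ((q : ℤ) - 1) ∣ k := by
    have h3 : ((q : ℤ) + 1) * ((q : ℤ) - 1) ∣ k * ((q : ℤ) + 1) := by
      have e : (((q + 1) * (q - 1) : ℕ) : ℤ) = ((q : ℤ) + 1) * ((q : ℤ) - 1) := by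
        push_cast [Nat.cast_sub (show 1 ≤ q by omega)]; ring
      rwa [e] at h1
    rw [mul_comm k] at h3
    exact Int.dvd_of_mul_dvd_mul_left (by positivity) h3
  obtain ⟨l, hl⟩ := h2
  refine ⟨((γ ^ (-l) : Fˣ) : F), Units.ne_zero _, ?_⟩
  have h4 : (γ ^ (-l)) * ((γ ^ (-l))⁻¹) ^ q = Units.mk0 δ hδ0 := by
    rw [← hk, hl, ← _root_.zpow_neg, neg_neg, ← zpow_natCast, ← _root_.zpow_mul, ← _root_.zpow_add]
    congr 1; ring
  have h5 := congrArg (Units.val) h4
  simpa using h5

/-- Scaling the first members of a frame. -/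
theorem IsFrame.update (hF : Fintype.card F = q ^ 2) {ι : Type*} [DecidableEq ι] {e f : ι → (Fin n → F)}
    (h : IsFrame q e f) (i₀ : ι) {α : F} (hα : α ≠ 0) :
    IsFrame q (Function.update e i₀ (α • e i₀)) (Function.update f i₀ ((α⁻¹) ^ q • f i₀)) := by
  have hα2 : α * (((α⁻¹) ^ q) ^ q) = 1 := by
    rw [pow_q_pow_q hF, mul_inv_cancel₀ hα]
  refine ⟨fun i j => ?_, fun i j => ?_, fun i j => ?_⟩
  · by_cases hi : i = i₀ <;> by_cases hj : j = i₀ <;>
      simp [hi, hj, Function.update_of_ne, herm_smul_left, herm_smul_right, h.ee]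
  · by_cases hi : i = i₀ <;> by_cases hj : j = i₀ <;>
      simp [hi, hj, Function.update_of_ne, herm_smul_left, herm_smul_right, h.ff]
  · by_cases hi : i = i₀
    · subst hi
      by_cases hj : j = i
      · subst hj
        rw [Function.update_self, Function.update_self, herm_smul_left, herm_smul_right, h.ef, if_pos rfl,
          mul_one, hα2]
      · have hj' : ¬ i = j := fun h => hj h.symm
        rw [Function.update_self, Function.update_of_ne hj, herm_smul_left, h.ef, if_neg hj', mul_zero]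
    · rw [Function.update_of_ne hi]
      by_cases hj : j = i₀
      · subst hj
        rw [Function.update_self, herm_smul_right, h.ef, if_neg hi, mul_zero]
      · rw [Function.update_of_ne hj, h.ef]

end Cfsg.Agent.H957.Uni
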