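import Cfsg.Agent.H957.T5Main_m3
import Cfsg.Agent.H897.MeetPSL
import Cfsg.Prelude.Def_Classical
import Cfsg.Agent.H862.T5.OBlock
import Cfsg.Agent.H885.FC.Main
import Cfsg.Agent.S0126
import Cfsg.Agent.H106.MTools2
import Cfsg.Agent.LieClassical.OrthFourMinus
import Cfsg.Agent.CpAut.OrthRow
import Cfsg.Agent.H353.TwoOrthSyl_mg
import Cfsg.Agent.H126.S74.OmInv
import Cfsg.Agent.H28.T5RankOne
import Cfsg.Agent.H28.T5Ok
import Cfsg.Agent.H28.T5Fus
import Cfsg.Agent.H628.ZTwF4Out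
import Cfsg.Agent.H378.SmallTor_m3
import Cfsg.Agent.H270.StrP.TwFFF
import Cfsg.Agent.H533.T5.SporDefs_m3
import Cfsg.Agent.FastGrp
import Cfsg.Agent.Prune
set_option linter.all false

section
prune_inst 0x7ffefcf8aab8b9dedfff7e77a698cffc3b911fffa6dff94bffe061ef0bdf230209c1abad89e090fe1ee2621410b87853fbfffeffe26bf87ffffd1df41ffbee0ff5f7b508511688340fbc0fff03f0778e7f3fffffffffffffffffffffffffffbeffbfffffffff

-- part: H957/T5RowPSL
section
set_option linter.all false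
open scoped Cfsg.Agent.FastGrp

/-!
# The row `PSL_n(q)`, `p ≥ 5` not dividing `q` (T5)
-/

set_option autoImplicit false

namespace Cfsg.Agent.H957.T5RowPSL

open Matrix
open Cfsg.Agent.H957.T5V Cfsg.Agent.H957.T5M Cfsg.Agent.H957.T5Tr
open Cfsg.Agent.H199.PslAut
open Cfsg.Agent.ClassicalGeometry.AutPSL.Root
open Cfsg.Agent.ClassicalGeometry.AutPSL.Auto
open Cfsg.Agent.H897.MeetPSL
open Cfsg.Agent.H903.SylSemi (Ind scal scal_apply)

theorem mrow_PSL {F : Type} [Field F] [Fintype F] {n p : ℕ} (hn : 2 ≤ n) (hp : p.Prime)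
    (hp5 : 5 ≤ p) (hpF : (p : F) ≠ 0) :
    MRow p (Matrix.ProjectiveSpecialLinearGroup (Fin n) F) := by
  have : Fact p.Prime := ⟨hp⟩
  have : Nonempty (Fin n) := ⟨⟨0, by omega⟩⟩
  have : Nontrivial (Fin n → F) := Function.nontrivial
  refine mrow_of (F := F) hp (π := (pr : Matrix.SpecialLinearGroup (Fin n) F →*
      Matrix.ProjectiveSpecialLinearGroup (Fin n) F)) pr_surjective (ρ := rho n F) rho_injective
    ?_ (W := fun y => ∃ θ : F ≃+* F, Semi θ y) ?_ ?_ ?_ ?_ ?_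
  · intro s
    refine ⟨fun u v => ?_, fun b v => ?_⟩
    · rw [rho_apply, rho_apply, rho_apply, mulVec_add]
    · rw [rho_apply, rho_apply, mulVec_smul]
      rfl
  · rintro y y' ⟨θ, h⟩ ⟨θ', h'⟩
    exact ⟨θ * θ', h.mul h'⟩
  · intro s
    refine ⟨1, fun u v => ?_, fun b v => ?_⟩
    · rw [rho_apply, rho_apply, rho_apply, mulVec_add]
    · rw [rho_apply, rho_apply, mulVec_smul]
      rfl
  · intro β hβ
    have hP : IsPGroup p ↥(Subgroup.zpowers β) :=
      IsPGroup.of_card (n := 1) (by rw [Nat.card_zpowers, hβ, pow_one])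
    obtain ⟨g, σ, rfl⟩ := form_of_pgroup hn (by omega) hP (Subgroup.mem_zpowers β)
    exact ⟨smap g σ, ⟨σ, (semi_smap g σ).1, (semi_smap g σ).2⟩, ind_smap g σ⟩
  · rintro y ⟨θ, hθ⟩ hy
    obtain ⟨A, rfl⟩ := exists_smap (show Cfsg.Agent.H903.SylSemi.Semi F y θ from ⟨hθ.add, hθ.smul⟩)
    have h1 : Psi n F A * phi n F θ = 1 :=
      Ind.unique pr_surjective rho_injective (ind_smap A θ) hy
    obtain ⟨⟨u, rfl⟩, h2⟩ := Psi_phi_eq hn (g := A) (σ := θ) (τ := 1) (by rw [h1, map_one])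
    refine ⟨u, ?_⟩
    ext v : 1
    rw [smap_apply, h2, scal_apply, Cfsg.Agent.H199.PslAut.coe_scal]
    change (scalar (Fin n) (u : F)) *ᵥ v = (u : F) • v
    rw [Matrix.scalar_apply, Matrix.diagonal_const_mulVec]
  · rintro y z ⟨θ, hy⟩ ⟨θ', hz⟩ hyp hyn hzp hzn
    obtain ⟨g, hg, i, j, h⟩ := Cfsg.Agent.H957.T5Main.mp_main (V := Fin n → F) hp hp5
      (by rw [Module.finrank_fintype_fun_eq_card, Fintype.card_fin]; exact hn) hpF hy hyp hyn
      hz hzp hzn
    have hd : (LinearMap.toMatrix' (g : (Fin n → F) →ₗ[F] (Fin n → F))).det = 1 := by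
      rw [LinearMap.det_toMatrix', ← LinearEquiv.coe_det, hg, Units.val_one]
    refine ⟨⟨LinearMap.toMatrix' (g : (Fin n → F) →ₗ[F] (Fin n → F)), hd⟩, i, j, ?_⟩
    have hs : rho n F ⟨LinearMap.toMatrix' (g : (Fin n → F) →ₗ[F] (Fin n → F)), hd⟩ = toA g := by
      ext v : 1
      refine (rho_apply _ v).trans ?_
      change (LinearMap.toMatrix' (g : (Fin n → F) →ₗ[F] (Fin n → F))) *ᵥ v = g v
      rw [LinearMap.toMatrix'_mulVec]
      rfl
    rw [hs]
    exact h

/-- Transport of the row along an isomorphism. -/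
theorem MRow.congr {S T : Type*} [Group S] [Group T] {p : ℕ} (e : S ≃* T) (h : MRow p T) :
    MRow p S := by
  intro c d hc hd
  let φ : MulAut S ≃* MulAut T := MulAut.congr e
  have h1 := h (φ c) (φ d) (by rw [MulEquiv.orderOf_eq, hc]) (by rw [MulEquiv.orderOf_eq, hd])
  refine MPair.of_hom φ.toMonoidHom ?_ h1
  rintro _ ⟨t, rfl⟩
  refine ⟨MulAut.conj (e.symm t), ⟨e.symm t, rfl⟩, ?_⟩
  ext x
  change e (e.symm t * e.symm x * (e.symm t)⁻¹) = t * x * t⁻¹
  simp

/-- **The row PSL in cross characteristic.** -/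
theorem row_PSL_cross {S : Type*} [Group S] {F : Type} [Field F] [Fintype F] {n p : ℕ}
    (hn : 2 ≤ n) (hp : p.Prime) (hp5 : 5 ≤ p) (hpF : ¬ p ∣ Fintype.card F)
    (e : S ≃* Matrix.ProjectiveSpecialLinearGroup (Fin n) F) : MRow p S := by
  refine MRow.congr e (mrow_PSL hn hp hp5 ?_)
  intro h0
  apply hpF
  have h1 : ringChar F ∣ p := (ringChar.spec F p).1 h0
  have h2 : ringChar F = p := ((Nat.dvd_prime hp).1 h1).resolve_left (CharP.ringChar_ne_one)
  rw [← h2]
  obtain ⟨n, -, hn⟩ := FiniteField.card F (ringChar F)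
  rw [hn]
  exact dvd_pow_self _ n.ne_zero

end Cfsg.Agent.H957.T5RowPSL
end

-- part: H862/T5/ONonlin
section
set_option linter.all false
open scoped Cfsg.Agent.FastGrp

/-!
# Frames of nonlinear semisimilitudes (T5)
-/

set_option autoImplicit false
set_option linter.unusedSectionVars false

namespace Cfsg.Agent.H862.T5.ONonlin

open QuadraticMap Module Cfsg.Agent.LieClassical.OrthCore Cfsg.Agent.LieClassical.OrthTrans
open Cfsg.Agent.ClassicalGeometry.OrthSemi Cfsg.Agent.H966.Frob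
open Cfsg.Agent.H208.Ext Cfsg.Agent.H208.Frame
open Cfsg.Agent.H862.T5.OBase Cfsg.Agent.H862.T5.OFrame
open Cfsg.Agent.H957.T5V

variable {F V : Type*} [Field F] [AddCommGroup V] [Module F V] {Q : QuadraticForm F V}

/-- extension of a linear map from the fixed field -/
theorem exists_extend_map {σ : F ≃+* F} {κ κ' : Type} [Fintype κ] [DecidableEq κ] [Fintype κ'] [DecidableEq κ']
    (k : (κ' → fix σ) →ₗ[fix σ] (κ → fix σ)) :
    ∃ k' : (κ' → F) →ₗ[F] (κ → F), (∀ v, k' (inc (fix σ) v) = inc (fix σ) (k v)) ∧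
      ∀ v, k' (frob κ' σ v) = frob κ σ (k' v) := by
  let M : Matrix κ κ' F := (LinearMap.toMatrix' k).map (fun a => (a : F))
  refine ⟨Matrix.toLin' M, fun v => ?_, fun v => ?_⟩
  · ext i
    rw [Matrix.toLin'_apply, Matrix.mulVec, dotProduct]
    have h1 : k v = Matrix.mulVec (LinearMap.toMatrix' k) v := by
      rw [LinearMap.toMatrix'_mulVec]
    show _ = ((k v i : fix σ) : F)
    rw [h1, Matrix.mulVec, dotProduct]
    push_cast
    rfl
  · ext i
    rw [frob_apply, Matrix.toLin'_apply, Matrix.toLin'_apply, Matrix.mulVec, Matrix.mulVec, dotProduct, dotProduct,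
      map_sum]
    refine Finset.sum_congr rfl fun l _ => ?_
    rw [map_mul, frob_apply]
    congr 1
    exact ((LinearMap.toMatrix' k i l).2).symm

/-- **Frames of nonlinear semisimilitudes.** -/
theorem exists_frame_nl [Finite F] [FiniteDimensional F V] [Nontrivial V] (hQ : Nondeg Q) {σ : F ≃+* F} {c : F}
    {M : Equiv.Perm V} (hM : IsSS Q σ c M) {l : ℕ} (hσ : orderOf σ = l) (hl : 0 < l) (hMl : M ^ l = 1)
    {κ' : Type} [Fintype κ'] [DecidableEq κ'] {k : ℕ} (hk : Fintype.card κ' = 2 * k)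
    (hd : 2 * k + 1 ≤ finrank F V) {P₀ : QuadraticForm (fix σ) (κ' → fix σ)} (hP₀ : Nondeg P₀)
    {P : QuadraticForm F (κ' → F)} (hP : ∀ x, P (inc _ x) = (P₀ x : F)) :
    ∃ (j : (κ' → F) →ₗ[F] V) (e : F), e ≠ 0 ∧ (∀ x, Q (j x) = e * P x) ∧ ∀ x, M (j x) = j (frob κ' σ x) := by
  have hκ : Fintype.card (Fin (finrank F V)) = finrank F V := Fintype.card_fin _
  obtain ⟨h, e, Q₀, he, hh, hQ₀⟩ := exists_descent (exists_ne_zero hQ) hM hσ hl hMl hκ
  have hn := nondeg_descent hQ hQ₀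
  have hd' : finrank (fix σ) (Fin (finrank F V) → fix σ) = finrank F V := by
    rw [Module.finrank_fintype_fun_eq_card, hκ]
  obtain ⟨j₀, hj₀⟩ := H193.QuadEmb.exists_emb k hP₀ hn (by rw [Module.finrank_fintype_fun_eq_card, hk])
    (by rw [hd']; exact hd)
  obtain ⟨j₁, hj₁, hf⟩ := exists_extend_map j₀
  refine ⟨h.toLinearMap ∘ₗ j₁, e, he, fun x => ?_, fun x => ?_⟩
  · have h1 := quad_ext (fix σ) (Q.comp (h.toLinearMap ∘ₗ j₁)) (e • P) (fun x => ?_) x
    · exact h1
    · change Q (h (j₁ (inc _ x))) = e * P (inc _ x)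
      rw [hj₁, hQ₀, hj₀, hP]
  · rw [LinearMap.comp_apply, LinearEquiv.coe_coe, hh, LinearMap.comp_apply, LinearEquiv.coe_coe, hf]

/-! ### the plus type four-space -/

open Cfsg.Agent.H862.T5.OPlusFour Cfsg.Agent.LieClassical.QuadForms

/-- coordinates of the four-space, the form multiplied by `e` -/
def co (e : F) : M2 F →ₗ[F] (Fin 2 ⊕ Fin 2 → F) where
  toFun X := Sum.elim ![X 0 0, X 0 1] ![e⁻¹ * X 1 1, -(e⁻¹ * X 1 0)]
  map_add' X Y := by
    funext i
    rcases i with i | i <;> fin_cases i <;> simp <;> ring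
  map_smul' a X := by
    funext i
    rcases i with i | i <;> fin_cases i <;> simp <;> ring

theorem co_form {e : F} (he : e ≠ 0) (X : M2 F) : e * plusForm 2 F (co e X) = detQ F X := by
  rw [coe_plusForm]
  unfold Cfsg.quadFormPlus
  rw [Fin.sum_univ_two, detQ_apply]
  show e * (X 0 0 * (e⁻¹ * X 1 1) + X 0 1 * -(e⁻¹ * X 1 0)) = _
  field_simp
  ring

/-- the permutation of the columns -/
def colsP (c : Equiv.Perm (Fin 2 → F)) : Equiv.Perm (M2 F) where
  toFun X := cols c X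
  invFun X := cols c.symm X
  left_inv X := by
    ext i k
    show c.symm (c (fun l => X l k)) i = X i k
    rw [Equiv.symm_apply_apply]
  right_inv X := by
    ext i k
    show c (c.symm (fun l => X l k)) i = X i k
    rw [Equiv.apply_symm_apply]

theorem tr_colsP (c : Equiv.Perm (Fin 2 → F)) : TR (colsP c) c := ⟨1, fun X => by
  rw [mul_one]
  rfl⟩

/-- `v ↦ (σ v₀, m σ v₁)` -/
def twist (σ : F ≃+* F) (m : Fˣ) : Equiv.Perm (Fin 2 → F) where
  toFun v := ![σ (v 0), m * σ (v 1)]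
  invFun v := ![σ.symm (v 0), σ.symm (((m⁻¹ : Fˣ) : F) * v 1)]
  left_inv v := by
    funext i
    fin_cases i <;> simp
  right_inv v := by
    funext i
    fin_cases i <;> simp

theorem semi_twist (σ : F ≃+* F) (m : Fˣ) : Semi σ (twist σ m) where
  add u v := by
    funext i
    fin_cases i <;> simp [twist, mul_add]
  smul a v := by
    funext i
    fin_cases i <;> simp [twist]
    ring

theorem not_isScal_of_semi [Nontrivial V] {σ : F ≃+* F} (hσ : σ ≠ 1) {c : Equiv.Perm V} (hc : Semi σ c) :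
    ¬ IsScal F c := by
  rintro ⟨a, ha⟩
  apply hσ
  ext b
  obtain ⟨v, hv⟩ := exists_ne (0 : V)
  have h1 : a • b • v = σ b • a • v := by rw [← ha, ← ha, hc.smul]
  rw [smul_comm] at h1
  have h2 : a • v ≠ 0 := by
    rw [← ha]
    intro h0
    rw [← hc.zero] at h0
    exact hv (c.injective h0)
  have h3 : (b - σ b) • a • v = 0 := by rw [sub_smul, h1, sub_self]
  exact (sub_eq_zero.1 ((smul_eq_zero.1 h3).resolve_right h2)).symm

/-- **Nonlinear semisimilitudes have a good four-space.** -/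
theorem fr4_nl [Finite F] [FiniteDimensional F V] (hG : Good Q) {σ : F ≃+* F} {c : F}
    {M : Equiv.Perm V} (hM : IsSS Q σ c M) (hσ1 : σ ≠ 1) {l : ℕ} (hσ : orderOf σ = l) (hl : 0 < l)
    (hMl : M ^ l = 1) : Fr4 Q M := by
  have := H208.ConjSS.nontrivial_of_good hG
  obtain ⟨j, e, he, hj, hjM⟩ := exists_frame_nl hG.nondeg hM hσ hl hMl (κ' := Fin 2 ⊕ Fin 2) (k := 2)
    (by simp) (by have := hG.dim; omega) (P₀ := plusForm 2 (fix σ)) (polar_plusForm_nondeg 2)
    (P := plusForm 2 F) (fun x => by rw [coe_plusForm, coe_plusForm, coe_plus])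
  have hσe : σ e ≠ 0 := by simpa using he
  let m : Fˣ := Units.mk0 (e * (σ e)⁻¹) (mul_ne_zero he (inv_ne_zero hσe))
  have hm : (m : F) = e * (σ e)⁻¹ := rfl
  refine ⟨j ∘ₗ co e, colsP (twist σ m), σ, twist σ m, ⟨fun X => ?_⟩, fun X => ?_, semi_twist σ m, tr_colsP _,
    not_isScal_of_semi hσ1 (semi_twist σ m)⟩
  · rw [LinearMap.comp_apply, hj, co_form he]
  · rw [LinearMap.comp_apply, hjM, LinearMap.comp_apply]
    congr 1
    funext i
    rw [frob_apply]
    rcases i with i | i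
    · fin_cases i
      · rfl
      · rfl
    · fin_cases i
      · show σ (e⁻¹ * X 1 1) = e⁻¹ * (m * σ (X 1 1))
        rw [map_mul, map_inv₀, hm]
        field_simp
      · show σ (-(e⁻¹ * X 1 0)) = -(e⁻¹ * (m * σ (X 1 0)))
        rw [map_neg, map_mul, map_inv₀, hm]
        field_simp

end Cfsg.Agent.H862.T5.ONonlin

private theorem dce_a6a4affa5105 : _root_.True := by
  try have : _root_.True := by simp only [_root_.Cfsg.Agent.H862.T5.ONonlin.twist.eq_1]
  exact _root_.True.intro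
end

-- part: H862/T5/ORow
section
prune_inst 0x3404000000000018801000000000080004000000000000800a00000000400000000104200000000000000000004000000000400000000a000400000000000080000000400000000000000000000000000000000000000000000000000000000000000
set_option linter.all false
open scoped Cfsg.Agent.FastGrp

-- part: H862/T5/OFix
section
/-!
# Fixed points of nonlinear semisimilitudes (T5), all dimensions at least 5

`FN p d` : the automorphism `d` has a simple subgroup of fixed points of order divisible by `p`, normalised by all fixed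
points, with trivial centraliser.
-/

set_option autoImplicit false
set_option linter.unusedSectionVars false

namespace Cfsg.Agent.H862.T5.OFix

open Matrix QuadraticMap Module Cfsg.Agent.LieClassical.OrthCore Cfsg.Agent.LieClassical.OrthTrans
  Cfsg.Agent.ClassicalGeometry.OrthSemi Cfsg.Agent.ClassicalGeometry.OrthAut1
  Cfsg.Agent.AutOrth.SemiSim Cfsg.Agent.H198.OrthFrame Cfsg.Agent.H185.OrthCent Cfsg.Agent.H185.ExtKappa
  Cfsg.Agent.H208.ExtE Cfsg.Agent.H208.FixPt Cfsg.Agent.AutOrth.Main Cfsg.Agent.H208.FixGood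
open Cfsg.Agent.LieClassical.OrthSimple (good_isSimpleGroup)
open Cfsg.Agent.H208.Parity (ofO)
open Cfsg.Agent.H885.FC
open Cfsg.Agent.H966.Frob Cfsg.Agent.H208.Frame
open Cfsg.Agent.LieClassical.QuadForms Cfsg.Agent.H208.SimForm
open Cfsg.Agent.H208.ConjSS (exists_normal isSS_scal_mul Psi_scal nontrivial_of_good)

universe u v

/-- a simple subgroup of fixed points -/
def FN (p : ℕ) {Y : Type*} [Group Y] (d : MulAut Y) : Prop :=
  ∃ N : Subgroup Y, IsSimpleGroup ↥N ∧ (¬ IsMulCommutative ↥N) ∧ p ∣ Nat.card ↥N ∧ (∀ y ∈ N, d y = y) ∧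
    (∀ c, d c = c → ∀ y ∈ N, c * y * c⁻¹ ∈ N) ∧ ∀ y, (∀ n ∈ N, Commute y n) → y = 1

theorem FN.congr {p : ℕ} {Y Y' : Type*} [Group Y] [Group Y'] (e : Y ≃* Y') {x : MulAut Y} {x' : MulAut Y'}
    (hxx : ∀ y, x' (e y) = e (x y)) (h : FN p x) : FN p x' := by
  obtain ⟨N, h1, h2, h3, h4, h5, h6⟩ := h
  let eN : ↥N ≃* ↥(N.map e.toMonoidHom) := N.equivMapOfInjective e.toMonoidHom e.injective
  have hcN : Nat.card ↥(N.map e.toMonoidHom) = Nat.card ↥N := (Nat.card_congr eN.toEquiv).symm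
  refine ⟨N.map e.toMonoidHom, ?_, ?_, ?_, ?_, ?_, ?_⟩
  · have : Nontrivial ↥(N.map e.toMonoidHom) := eN.symm.toEquiv.nontrivial
    exact IsSimpleGroup.isSimpleGroup_of_surjective eN.toMonoidHom eN.surjective
  · intro h9
    apply h2
    refine ⟨⟨fun a b => eN.injective ?_⟩⟩
    rw [_root_.MulEquiv.map_mul, _root_.MulEquiv.map_mul]
    exact h9.is_comm.comm _ _
  · rw [hcN]
    exact h3
  · rintro _ ⟨y, hy, rfl⟩
    change x' (e y) = e y
    rw [hxx, h4 y hy]
  · rintro c hc _ ⟨y, hy, rfl⟩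
    obtain ⟨c, rfl⟩ := e.surjective c
    rw [hxx, e.injective.eq_iff] at hc
    refine ⟨c * y * c⁻¹, h5 c hc y hy, ?_⟩
    show e (c * y * c⁻¹) = e c * e y * (e c)⁻¹
    rw [map_mul, map_mul, map_inv]
  · intro y hy
    obtain ⟨y, rfl⟩ := e.surjective y
    rw [h6 y fun n hn => ?_, map_one]
    have h7 := hy (e n) ⟨n, hn, rfl⟩
    apply e.injective
    show e (y * n) = e (n * y)
    rw [map_mul, map_mul]
    exact h7

section Frob

variable {ι : Type} [Fintype ι] [DecidableEq ι] {F : Type u} [Field F] {F₀ : Type v} [Field F₀]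
  {j : F₀ →+* F} {Q₀ : QuadraticForm F₀ (ι → F₀)} {Q : QuadraticForm F (ι → F)}

/-- a linear semisimilitude centralising the subfield group is scalar -/
theorem psi_eq_one_of_fix [Finite F] (hx : _root_.Cfsg.Agent.H185.OrthCent.Ext j Q₀ Q) (hG₀ : Good Q₀) (hG : Good Q) {N : Gam Q} {c : F}
    (hN : IsSS Q (RingEquiv.refl F) c N.1) (hy : ∀ g, Psi Q N (emb hx g) = emb hx g) : Psi Q N = 1 := by
  have h1 : (_root_.Cfsg.Agent.ClassicalGeometry.OrthSemi.conjE Q N).toMonoidHom.comp (extE hx) = extE hx := by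
    apply hom_eq (commutator_E hG₀)
    intro g
    have h2 := hy g
    ((conv at h2 => enter [@2, @6]; rw [emb_apply]); (conv at h2 => enter [@3]; rw [emb_apply]); simp only [Psi_mk] at h2)
    have h3 := (Subgroup.center ↥(E Q)).inv_mem (QuotientGroup.eq.1 h2)
    rw [_root_.mul_inv_rev, inv_inv] at h3
    have h4 : _root_.Cfsg.Agent.ClassicalGeometry.OrthSemi.conjE Q N (extE hx g) * (extE hx g)⁻¹ =
        (extE hx g) * ((extE hx g)⁻¹ * _root_.Cfsg.Agent.ClassicalGeometry.OrthSemi.conjE Q N (extE hx g)) * (extE hx g)⁻¹ := by group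
    change _root_.Cfsg.Agent.ClassicalGeometry.OrthSemi.conjE Q N (extE hx g) * (extE hx g)⁻¹ ∈ _
    rw [h4]
    exact Subgroup.Normal.conj_mem inferInstance _ h3 _
  have h2 : ∀ (g : ↥(E Q₀)) (v : ι → F), N.1 ((extE hx g : (ι → F) ≃ₗ[F] (ι → F)) v) =
      (extE hx g : (ι → F) ≃ₗ[F] (ι → F)) (N.1 v) := by
    intro g v
    have h3 : _root_.Cfsg.Agent.ClassicalGeometry.OrthSemi.conjE Q N (extE hx g) = extE hx g := DFunLike.congr_fun h1 g
    have h4 := congrArg Subtype.val h3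
    rw [coe_conjE] at h4
    rw [← conjLin_apply', h4]
  have hfix : ∀ u : ι → F₀, Q₀ u = 0 → u ≠ 0 → ∃ a : F, N.1 (jv j u) = a • jv j u := by
    intro u hu hu0
    apply Cfsg.Agent.H208.ExtE.eq_smul_of_fixed hx hG₀ hG.nondeg hu hu0
    intro w hw
    have h3 := h2 (sg Q₀ u w hu hw) (jv j u)
    rw [extE_jv, sg_self] at h3
    rw [extE_sg] at h3
    exact h3.symm
  (have h_ob := smul_of_fix hx hG₀ N hN hfix
   revert h_ob; rintro (⟨-, a, ha0, ha⟩))
  have h4 := semi_eq (N := { N.1 with map_add' := hN.add }) (σ := RingEquiv.refl F) hN.smul ha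
  have h6 : N = scal Q (Units.mk0 a ha0) := by
    apply Subtype.ext
    ext1 v
    rw [scal_apply, Units.val_mk0]
    exact h4 v
  rw [← MonoidHom.mem_ker, ker_Psi hG, h6]
  exact ⟨_, rfl⟩

/-- **The standard field automorphism.** -/
theorem fn_frob [Finite F] [Finite F₀] (hx : _root_.Cfsg.Agent.H185.OrthCent.Ext j Q₀ Q) (hG₀ : Good Q₀) (hG : Good Q)
    {σ : F ≃+* F} (hσ : _root_.Cfsg.Agent.H185.OrthCent.Fix σ Q) (hj : ∀ a, σ a = a ↔ ∃ b, j b = a) {p : ℕ} (hdvd : p ∣ Nat.card (P Q₀)) :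
    FN p (Psi Q (frobG hσ)) := by
  have hsimple := good_isSimpleGroup hG₀
  have hn : Nonempty ι := by
    have := nontrivial_of_good hG
    by_contra h
    rw [not_nonempty_iff] at h
    exact not_subsingleton (ι → F) inferInstance
  have hjf : ∀ b, σ (j b) = j b := fun b => (hj _).2 ⟨b, rfl⟩
  have e : P Q₀ ≃* ↥(emb hx).range := embEquiv hx hG₀ hG
  refine ⟨(emb hx).range, ?_, ?_, ?_, ?_, ?_, ?_⟩
  · have : Nontrivial ↥(emb hx).range := e.symm.toEquiv.nontrivial
    exact IsSimpleGroup.isSimpleGroup_of_surjective e.toMonoidHom e.surjective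
  · intro h9
    apply H885.FC.Orth.not_comm_P hG₀
    refine ⟨⟨fun a b => e.injective ?_⟩⟩
    simp only [_root_.MulEquiv.map_mul, _root_.MulEquiv.map_mul]
    exact h9.is_comm.comm _ _
  · rwa [← Nat.card_congr e.toEquiv]
  · rintro _ ⟨a, rfl⟩
    exact Psi_frob_emb hx hσ hjf a
  · rintro c hc _ ⟨a, rfl⟩
    (have h_ob := exists_rat hx hG₀ hG hσ hj hc
     revert h_ob; rintro (⟨g₀, hg₀⟩))
    ((conv => enter [@5]; rw [← MulAut.conj_apply]); (conv => enter [@5, @5]; rw [hg₀]); (conv => enter [@5]; rw [Psi_emb]))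
    exact ⟨_, rfl⟩
  · intro y hy
    obtain ⟨⟨n, hn⟩, rfl⟩ := QuotientGroup.mk_surjective y
    have h1 := OBase.Psi_E hn
    have h2 : Psi Q (ofO n (E_le_O hn)) = 1 := by
      refine psi_eq_one_of_fix hx hG₀ hG (c := 1) ?_ fun g => ?_
      · exact ⟨one_ne_zero, fun u v => _root_.LinearEquiv.map_add n u v, fun a v => _root_.LinearEquiv.map_smul n a v, fun v => by
          rw [one_mul]
          exact E_le_O hn v⟩
      · rw [h1, MulAut.conj_apply]
        have h3 := hy _ ⟨g, rfl⟩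
        rw [h3.eq, mul_inv_cancel_right]
    rw [h1] at h2
    have h3 : (QuotientGroup.mk (⟨n, hn⟩ : E Q) : P Q) ∈ Subgroup.center (P Q) := by
      rw [Subgroup.mem_center_iff]
      intro g
      have h10 : MulAut.conj (QuotientGroup.mk (⟨n, hn⟩ : E Q) : P Q) g = g := by rw [h2]; rfl
      rw [MulAut.conj_apply] at h10
      exact (mul_inv_eq_iff_eq_mul.1 h10).symm
    rw [center_P hG] at h3
    exact h3

end Frob

/-! ### orders -/

section Card

variable {F : Type u} {V : Type v} [Field F] [AddCommGroup V] [Module F V] {Q : QuadraticForm F V}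

theorem conj_injective_P (hG : Good Q) : Function.Injective (MulAut.conj : P Q →* MulAut (P Q)) := by
  rw [← MonoidHom.ker_eq_bot_iff, eq_bot_iff]
  intro x hx
  have h3 : x ∈ Subgroup.center (P Q) := by
    rw [Subgroup.mem_center_iff]
    intro g
    have h10 : MulAut.conj x g = g := by rw [MonoidHom.mem_ker.1 hx]; rfl
    rw [MulAut.conj_apply] at h10
    exact (mul_inv_eq_iff_eq_mul.1 h10).symm
  rwa [center_P hG] at h3

theorem isSS_ofO {g : V ≃ₗ[F] V} (hg : g ∈ O Q) : IsSS Q (RingEquiv.refl F) 1 (ofO g hg).1 :=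
  ⟨one_ne_zero, fun u v => map_add g u v, fun a v => map_smul g a v, fun v => by
    rw [one_mul]
    exact hg v⟩

/-- an isometry of odd order trivial in `P Q` is trivial -/
theorem eq_one_of_Psi (hG : Good Q) {p : ℕ} (hp : Odd p) {g : V ≃ₗ[F] V} (hg : g ∈ O Q) (hgp : g ^ p = 1)
    (h : Psi Q (ofO g hg) = 1) : g = 1 := by
  obtain ⟨a, ha⟩ := OBase.exists_scal hG h
  have hgv : ∀ v, g v = (a : F) • v := by
    intro v
    have h1 : (ofO g hg).1 v = (scal Q a).1 v := by rw [ha]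
    exact h1
  have hpow : ∀ (n : ℕ) v, (g ^ n) v = (a : F) ^ n • v := by
    intro n
    induction n with
    | zero => intro v; simp
    | succ n ih => intro v; rw [pow_succ', LinearEquiv.mul_apply, ih, hgv, smul_smul, pow_succ']
  obtain ⟨x, y, hxy⟩ := hG.exists_hyp
  have hv1 : Q (x + (1 : F) • y) = 1 := OBase.Hyp.norm hxy 1
  have h1 : (a : F) * a = 1 := by
    have h2 := hg (x + (1 : F) • y)
    rw [hgv, QuadraticMap.map_smul, hv1, smul_eq_mul, mul_one] at h2
    exact h2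
  have h2 : (a : F) ^ p = 1 := by
    have h3 := hpow p (x + (1 : F) • y)
    rw [hgp] at h3
    have h4 : (1 - (a : F) ^ p) • (x + (1 : F) • y) = 0 := by
      rw [sub_smul, ← h3, one_smul]
      exact sub_self _
    have h5 : x + (1 : F) • y ≠ 0 := by
      intro h0
      rw [h0, QuadraticMap.map_zero] at hv1
      exact zero_ne_one hv1
    exact (sub_eq_zero.1 ((smul_eq_zero.1 h4).resolve_right h5)).symm
  have h3 : (a : F) = 1 := by
    obtain ⟨k, hk⟩ := hp
    rw [hk, pow_succ, pow_mul, pow_two, h1, one_pow, one_mul] at h2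
    exact h2
  ext1 v
  rw [hgv, h3, one_smul]
  rfl

theorem dvd_P_of_dvd_O [Finite F] [FiniteDimensional F V] (hG : Good Q) {p : ℕ} (hp : p.Prime) (hp2 : p ≠ 2)
    (h : p ∣ Nat.card (O Q)) : p ∣ Nat.card (P Q) := by
  have := Fact.mk hp
  have hfin : Finite V := Module.finite_of_finite F
  have hfinL : Finite (V ≃ₗ[F] V) := Finite.of_injective (fun f => (f : V → V)) DFunLike.coe_injective
  obtain ⟨⟨g, hg⟩, hgo⟩ := exists_prime_orderOf_dvd_card' (G := O Q) p h
  have hgp : g ^ p = 1 := by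
    have := pow_orderOf_eq_one (⟨g, hg⟩ : O Q)
    rw [hgo] at this
    exact congrArg Subtype.val this
  have h1 : orderOf (Psi Q (ofO g hg)) = p := by
    apply orderOf_eq_prime
    · rw [← map_pow, ← map_one (Psi Q)]
      congr 1
      apply Subtype.ext
      ext1 v
      have : ∀ n : ℕ, ((ofO g hg) ^ n).1 v = (g ^ n) v := by
        intro n
        induction n with
        | zero => rfl
        | succ n ih =>
          rw [pow_succ', pow_succ', LinearEquiv.mul_apply, ← ih]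
          rfl
      rw [this, hgp]
      rfl
    · intro h2
      have h3 := eq_one_of_Psi hG (hp.odd_of_ne_two hp2) hg hgp h2
      subst h3
      have h4 : (⟨1, hg⟩ : O Q) = 1 := rfl
      rw [h4, orderOf_one] at hgo
      exact hp.one_lt.ne hgo
  obtain ⟨y, hy⟩ := H885.FC.Main.inner_of_lin hG (isSS_ofO hg) (hp.odd_of_ne_two hp2) h1
  rw [hy, orderOf_injective _ (conj_injective_P hG)] at h1
  have : Finite (P Q) := by
    have : Finite (E Q) := inferInstance
    exact Quotient.finite _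
  rw [← h1]
  exact orderOf_dvd_natCard y

theorem dvd_O_of_dvd_P {p : ℕ} (h : p ∣ Nat.card (P Q)) : p ∣ Nat.card (O Q) := by
  refine h.trans ((Subgroup.card_quotient_dvd_card _).trans ?_)
  exact Subgroup.card_dvd_of_le (fun g hg => E_le_O hg)

end Card

/-! ### the orders over the fixed field -/

section Num

open Cfsg.Agent.ClassicalGeometry.OrthSemiForms (card_O)

theorem cast_plus {p q : ℕ} (hq : 0 < q) (m : ℕ) :
    ((2 * q ^ (m * (m - 1)) * (q ^ m - 1) * ∏ i ∈ Finset.range (m - 1), (q ^ (2 * (i + 1)) - 1) : ℕ) : ZMod p) =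
      2 * (q : ZMod p) ^ (m * (m - 1)) * ((q : ZMod p) ^ m - 1) *
        ∏ i ∈ Finset.range (m - 1), ((q : ZMod p) ^ (2 * (i + 1)) - 1) := by
  have h : ∀ j : ℕ, ((q ^ j - 1 : ℕ) : ZMod p) = (q : ZMod p) ^ j - 1 := fun j => by
    rw [Nat.cast_sub (Nat.one_le_pow _ _ hq)]
    push_cast
    rfl
  rw [Nat.cast_mul, Nat.cast_mul, Nat.cast_mul, Nat.cast_prod, h]
  push_cast
  congr 1
  exact Finset.prod_congr rfl fun i _ => h _

theorem cast_minus {p q : ℕ} (hq : 0 < q) (m : ℕ) :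
    ((2 * q ^ (m * (m - 1)) * (q ^ m + 1) * ∏ i ∈ Finset.range (m - 1), (q ^ (2 * (i + 1)) - 1) : ℕ) : ZMod p) =
      2 * (q : ZMod p) ^ (m * (m - 1)) * ((q : ZMod p) ^ m + 1) *
        ∏ i ∈ Finset.range (m - 1), ((q : ZMod p) ^ (2 * (i + 1)) - 1) := by
  have h : ∀ j : ℕ, ((q ^ j - 1 : ℕ) : ZMod p) = (q : ZMod p) ^ j - 1 := fun j => by
    rw [Nat.cast_sub (Nat.one_le_pow _ _ hq)]
    push_cast
    rfl
  rw [Nat.cast_mul, Nat.cast_mul, Nat.cast_mul, Nat.cast_prod]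
  push_cast
  congr 1
  exact Finset.prod_congr rfl fun i _ => h _

variable {F F₀ : Type*} [Field F] [Fintype F] [Field F₀] [Fintype F₀] {p : ℕ}

theorem cast_card [Fact p.Prime] (hF : Fintype.card F = Fintype.card F₀ ^ p) :
    (Fintype.card F : ZMod p) = Fintype.card F₀ := by
  rw [hF]
  push_cast
  exact ZMod.pow_card _

theorem dvd_plus [Fact p.Prime] (hF : Fintype.card F = Fintype.card F₀ ^ p) {m : ℕ} (hm : 1 ≤ m)
    (h : p ∣ Nat.card (O (plusForm m F))) : p ∣ Nat.card (O (plusForm m F₀)) := by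
  rw [card_O, coe_plusForm, Cfsg.Agent.S0287.result rfl m hm, ← ZMod.natCast_eq_zero_iff,
    cast_plus Fintype.card_pos] at h ⊢
  rwa [cast_card hF] at h

theorem dvd_minus [Fact p.Prime] (hF : Fintype.card F = Fintype.card F₀ ^ p) {m : ℕ} (hm : 1 ≤ m)
    {a b : F} {a₀ b₀ : F₀}
    (hab : ∀ z₁ z₂ : F, z₁ ^ 2 + a * z₁ * z₂ + b * z₂ ^ 2 = 0 → z₁ = 0 ∧ z₂ = 0)
    (hab₀ : ∀ z₁ z₂ : F₀, z₁ ^ 2 + a₀ * z₁ * z₂ + b₀ * z₂ ^ 2 = 0 → z₁ = 0 ∧ z₂ = 0)
    (h : p ∣ Nat.card (O (minusForm (m - 1) F a b))) : p ∣ Nat.card (O (minusForm (m - 1) F₀ a₀ b₀)) := by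
  rw [card_O, coe_minusForm, Cfsg.Agent.S0288.result rfl m hm a b hab, ← ZMod.natCast_eq_zero_iff,
    cast_minus Fintype.card_pos] at h
  rw [card_O, coe_minusForm, Cfsg.Agent.S0288.result rfl m hm a₀ b₀ hab₀, ← ZMod.natCast_eq_zero_iff,
    cast_minus Fintype.card_pos]
  rwa [cast_card hF] at h

end Num

section Fr

variable {F : Type u} {V : Type v} [Field F] [Finite F] [AddCommGroup V] [Module F V] {Q : QuadraticForm F V}

theorem fn_of_fr {κ : Type} [Fintype κ] [DecidableEq κ] {q : QuadraticForm F (κ → F)}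
    {σ : F ≃+* F} (hσ : H185.OrthCent.Fix σ q)
    {q₀ : QuadraticForm (fix σ) (κ → fix σ)} (hq : ∀ x, q (inc _ x) = (q₀ x : F)) (hG₀ : Good q₀)
    {M : Gam Q} (h : Fr Q σ M.1 q) {p : ℕ} (hp : p.Prime) (hp2 : p ≠ 2) (hdvd : p ∣ Nat.card (P Q))
    (hnum : p ∣ Nat.card (O q) → p ∣ Nat.card (O q₀)) : FN p (Psi Q M) := by
  obtain ⟨T, e, he, hT, hM⟩ := h
  have hx : H185.OrthCent.Ext (fix σ).subtype q₀ q := ⟨fun v => hq v⟩
  have hG : Good q := good_ext hx hG₀
  have hpsi : ∀ k, Psi Q M (sP he hT k) = sP he hT (Psi q (H185.OrthCent.frobG hσ) k) := fun k =>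
    sP_psi he hT (fun v => by
      rw [hM, H185.OrthCent.frobG_apply]
      rfl) k
  have c3 : Nat.card (P q) = Nat.card (P Q) := Nat.card_congr (sP he hT).toEquiv
  have h1 := dvd_P_of_dvd_O hG₀ hp hp2 (hnum (dvd_O_of_dvd_P (by rw [c3]; exact hdvd)))
  exact (fn_frob hx hG₀ hG hσ (fun a => ⟨fun h => ⟨⟨a, h⟩, rfl⟩, fun ⟨b, hb⟩ => hb ▸ b.2⟩) h1).congr
    (sP he hT) hpsi

/-- **Fixed points of nonlinear semisimilitudes.** -/
theorem fn_gam [FiniteDimensional F V] (hG : Good Q) {m : ℕ} (hm : 3 ≤ m) (hd : finrank F V = 2 * m)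
    {M : Gam Q} {σ : F ≃+* F} {c : F} (hM : IsSS Q σ c M.1) (hσ : σ ≠ 1) {p : ℕ} (hp : p.Prime) (hp2 : p ≠ 2)
    (hpow : Psi Q M ^ p = 1) (hdvd : p ∣ Nat.card (P Q)) : FN p (Psi Q M) := by
  classical
  have := Fintype.ofFinite F
  have := Fintype.ofFinite (fix σ)
  have := Fact.mk hp
  have := nontrivial_of_good hG
  obtain ⟨hoσ, a, ha⟩ := exists_normal hG hM hσ hp hpow
  obtain ⟨c', hc'⟩ := isSS_scal_mul hM a
  have h1 : Psi Q (scal Q a * M) = Psi Q M := by simp only [map_mul, Psi_scal hG, one_mul]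
  have hF : Fintype.card F = Fintype.card (fix σ) ^ p := by
    rw [← Nat.card_eq_fintype_card, ← Nat.card_eq_fintype_card]
    exact H202.Descent.card_fixed hoσ
  rw [← h1]
  rcases normal_form hG.nondeg hc' hoσ hp.pos ha with ⟨k, hk, hf⟩ | ⟨k, hk, hf⟩ | ⟨k, hk, a', b', ha', hb', hab, hf⟩
  · omega
  · obtain rfl : k = m := by omega
    rw [← coe_plusForm] at hf
    refine fn_of_fr (q₀ := plusForm k (fix σ)) (fun v => ?_) (fun x => ?_) (good_plus (by omega)) hf
      hp hp2 hdvd (dvd_plus hF (by omega))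
    · rw [coe_plusForm]
      unfold Cfsg.quadFormPlus
      simp only [map_sum, map_mul]
    · rw [coe_plusForm, coe_plusForm, coe_plus]
  · obtain rfl : k = m - 1 := by omega
    rw [← coe_minusForm] at hf
    have hab0 : ∀ z₁ z₂ : fix σ, z₁ ^ 2 + (⟨a', ha'⟩ : fix σ) * z₁ * z₂ + (⟨b', hb'⟩ : fix σ) * z₂ ^ 2 = 0 →
        z₁ = 0 ∧ z₂ = 0 := by
      intro z₁ z₂ h1
      have h2 := hab z₁ z₂ z₁.2 z₂.2 (by simpa only [_root_.Subfield.coe_add, _root_.SubmonoidClass.coe_pow, _root_.Subfield.coe_mul, _root_.ZeroMemClass.coe_zero] using congrArg Subtype.val h1)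
      exact ⟨Subtype.ext h2.1, Subtype.ext h2.2⟩
    refine fn_of_fr (q₀ := minusForm (m - 1) (fix σ) ⟨a', ha'⟩ ⟨b', hb'⟩) (fun v => ?_) (fun x => ?_)
      (good_minus (by omega) hab0) hf hp hp2 hdvd (dvd_minus hF (by omega)
        (fun z₁ z₂ => H885.FC.Orth.aniso_of_fix hoσ (hp.odd_of_ne_two hp2) ha' hb' hab z₁ z₂) hab0)
    · rw [coe_minusForm]
      unfold Cfsg.quadFormMinus
      simp only [_root_.RingEquiv.map_add, _root_.RingEquiv.map_sum, _root_.RingEquiv.map_mul, _root_.RingEquiv.map_pow, ha', hb']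
    · rw [coe_minusForm, coe_minusForm, coe_minus]

end Fr

end Cfsg.Agent.H862.T5.OFix
end

-- part: H862/T5/OAA
section
/-!
# The AA argument for spaces of the dimension of one block (T5)

`cyclic_sylow` : `dim V = c` (the block dimension): the Sylow `p`-subgroups of `P Q` are cyclic;
`mpair_lin` : a linear against an arbitrary semisimilitude;
`mpq_of_mpair` : translation.
-/

set_option autoImplicit false
set_option linter.unusedSectionVars false

namespace Cfsg.Agent.H862.T5.OAA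

open QuadraticMap Module Cfsg.Agent.LieClassical.OrthCore Cfsg.Agent.LieClassical.OrthTrans
  Cfsg.Agent.ClassicalGeometry.OrthSemi Cfsg.Agent.ClassicalGeometry.OrthAut1
open Cfsg.Agent.LieClassical.OrthSimple (good_isSimpleGroup)
open Cfsg.Agent.H208.ConjSS (exists_normal isSS_scal_mul Psi_scal nontrivial_of_good)
open Cfsg.Agent.H862.T5.OBase Cfsg.Agent.H862.T5.OFrame Cfsg.Agent.H862.T5.OLinFour Cfsg.Agent.H862.T5.OBlock
  Cfsg.Agent.H862.T5.OFix
open Cfsg.Agent.H957.T5V Cfsg.Agent.H957.T5M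
open Cfsg.Agent.H208.Parity (ofO)
open Cfsg.Agent.H951

universe u

section sums

variable {F V : Type*} [Field F] [AddCommGroup V] [Module F V]

/-- Commuting linear maps `g`, `h` of order dividing `p`, `h` and all `g h^k` without fixed vectors. -/
theorem no_rank_two {p : ℕ} (hp : p.Prime) (hpF : (p : F) ≠ 0) {g h : V ≃ₗ[F] V} (hg : g ^ p = 1) (hh : h ^ p = 1)
    (hc : g * h = h * g) (h1 : ∀ v, h v = v → v = 0) (h2 : ∀ k < p, ∀ v, (g * h ^ k) v = v → v = 0) (v : V) :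
    v = 0 := by
  have hcomm : Commute g h := hc
  -- sum of the powers
  have key : ∀ f : V ≃ₗ[F] V, f ^ p = 1 → ∀ v, f (∑ i ∈ Finset.range p, (f ^ i) v) = ∑ i ∈ Finset.range p, (f ^ i) v := by
    intro f hf v
    rw [map_sum]
    have h3 : ∀ i, f ((f ^ i) v) = (f ^ (i + 1)) v := fun i => by rw [pow_succ', LinearEquiv.mul_apply]
    simp only [h3]
    have h4 := Finset.sum_range_succ' (fun i => (f ^ i) v) p
    have h5 := Finset.sum_range_succ (fun i => (f ^ i) v) p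
    rw [h5, hf, pow_zero] at h4
    exact (add_right_cancel h4).symm
  have s1 : ∀ k < p, ∑ i ∈ Finset.range p, ((g * h ^ k) ^ i) v = 0 := by
    intro k hk
    apply h2 k hk
    apply key
    rw [(hcomm.pow_right k).mul_pow, hg, ← pow_mul, mul_comm, pow_mul, hh, one_pow, one_mul]
  have s2 : ∀ i, 0 < i → i < p → ∑ k ∈ Finset.range p, ((h ^ i) ^ k) v = 0 := by
    intro i hi0 hip
    apply h1
    have h3 := key (h ^ i) (by rw [← pow_mul, mul_comm, pow_mul, hh, one_pow]) v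
    -- `h` is a power of `h ^ i`
    have hco : Nat.Coprime (orderOf h) i :=
      Nat.Coprime.coprime_dvd_left (orderOf_dvd_of_pow_eq_one hh) (Nat.coprime_of_lt_prime hi0.ne' hip hp)
    obtain ⟨m, hm⟩ := exists_pow_eq_self_of_coprime hco.symm
    have h4 : ∀ n : ℕ, ((h ^ i) ^ n) (∑ k ∈ Finset.range p, ((h ^ i) ^ k) v) = ∑ k ∈ Finset.range p, ((h ^ i) ^ k) v := by
      intro n
      induction n with
      | zero => rfl
      | succ n ih => rw [pow_succ, LinearEquiv.mul_apply, h3, ih]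
    have h5 := h4 m
    rwa [hm] at h5
  have s3 : ∑ k ∈ Finset.range p, ∑ i ∈ Finset.range p, ((g * h ^ k) ^ i) v = 0 :=
    Finset.sum_eq_zero fun k hk => s1 k (Finset.mem_range.1 hk)
  rw [Finset.sum_comm] at s3
  have s4 : ∀ i ∈ Finset.range p, i ≠ 0 → ∑ k ∈ Finset.range p, ((g * h ^ k) ^ i) v = 0 := by
    intro i hi hi0
    have h3 : ∀ k, ((g * h ^ k) ^ i) v = (g ^ i) (((h ^ i) ^ k) v) := by
      intro k
      rw [(hcomm.pow_right k).mul_pow, LinearEquiv.mul_apply, ← pow_mul, ← pow_mul, mul_comm k i]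
    simp only [h3]
    rw [← map_sum, s2 i (Nat.pos_of_ne_zero hi0) (Finset.mem_range.1 hi), map_zero]
  rw [Finset.sum_eq_single 0 s4 (fun h => absurd (Finset.mem_range.2 hp.pos) h)] at s3
  simp only [pow_zero] at s3
  rw [Finset.sum_const, Finset.card_range] at s3
  have s5 : (p : F) • v = 0 := by
    rw [Nat.cast_smul_eq_nsmul]
    exact s3
  exact (smul_eq_zero.1 s5).resolve_left hpF

end sums

section cyc

variable {F : Type u} {V : Type u} [Field F] [AddCommGroup V] [Module F V] {Q : QuadraticForm F V}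

/-- in a space of dimension `c` a nontrivial isometry of order `p` has no fixed vectors -/
theorem nofix [Fintype F] [FiniteDimensional F V] (hG : Good Q) {g : V ≃ₗ[F] V} (hg : g ∈ O Q) {p : ℕ}
    [hp : Fact p.Prime] (hp2 : p ≠ 2) (hpF : (p : F) ≠ 0) (hgp : g ^ p = 1) (hg1 : g ≠ 1) {c : ℕ}
    (hc : c = if Even (orderOf (Fintype.card F : ZMod p)) then orderOf (Fintype.card F : ZMod p) else
      2 * orderOf (Fintype.card F : ZMod p)) (hd : finrank F V = c) (v : V) (hv : g v = v) : v = 0 := by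
  have hB := frm_polar Q
  have hxr := en_pow_one hgp
  have hcmn : Nd (BB Q) (cm (en g)) := (isom_en hg).nd_cm hB hpF hxr (nd_top hG.nondeg)
  have h1 := dvd_finrank hg hp2 hpF hgp hc inv_cm hcmn le_rfl
  have hcm0 : cm (en g) ≠ ⊥ := by
    intro h
    apply hg1
    ext1 v
    have h1 : g v - v ∈ cm (en g) := mem_cm.2 ⟨v, rfl⟩
    rw [h, Submodule.mem_bot] at h1
    exact sub_eq_zero.1 h1
  have h2 : 0 < finrank F (cm (en g)) := by
    rw [Nat.pos_iff_ne_zero]
    intro h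
    exact hcm0 (Submodule.finrank_eq_zero.1 h)
  have h3 : cm (en g) = ⊤ := by
    apply Submodule.eq_top_of_finrank_eq
    have := Nat.le_of_dvd h2 h1
    have := Submodule.finrank_le (cm (en g))
    omega
  by_contra h0
  exact ne_of_mem_cm hpF hgp (by rw [h3]; trivial) h0 hv

theorem ofO_pow {g : V ≃ₗ[F] V} (hg : g ∈ O Q) (n : ℕ) (v : V) : ((ofO g hg) ^ n).1 v = (g ^ n) v := by
  induction n with
  | zero => rfl
  | succ n ih =>
    rw [pow_succ', pow_succ', LinearEquiv.mul_apply, ← ih]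
    rfl

/-- elements of `P Q` of odd order come from isometries -/
theorem exists_isom_P (hG : Good Q) {p : ℕ} (hp : Odd p) {a : P Q} (ha : a ^ p = 1) :
    ∃ (g : V ≃ₗ[F] V) (hg : g ∈ O Q), g ^ p = 1 ∧ MulAut.conj a = Psi Q (ofO g hg) := by
  obtain ⟨⟨n, hn⟩, rfl⟩ := QuotientGroup.mk_surjective a
  (have h_ob := exists_isom hG hp (isSS_ofO (E_le_O hn)) (by
    simp only [Psi_E hn, ← map_pow, ha, map_one])
   revert h_ob; rintro (⟨g, hg, hgp, h⟩))
  exact ⟨g, hg, hgp, by rw [← h, Psi_E hn]⟩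

theorem commute_of_Psi (hG : Good Q) {p : ℕ} (hp : Odd p) {g h : V ≃ₗ[F] V} (hg : g ∈ O Q) (hh : h ∈ O Q)
    (hhp : h ^ p = 1) (hc : Commute (Psi Q (ofO g hg)) (Psi Q (ofO h hh))) : g * h = h * g := by
  -- the isometry `g h g⁻¹` has the same image as `h`
  have hk : g * h * g⁻¹ ∈ O Q := (O Q).mul_mem ((O Q).mul_mem hg hh) ((O Q).inv_mem hg)
  have h1 : Psi Q (ofO (g * h * g⁻¹) hk) = Psi Q (ofO h hh) := by
    have h2 : ofO (g * h * g⁻¹) hk = ofO g hg * ofO h hh * (ofO g hg)⁻¹ := rfl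
    simp only [h2, map_mul, map_mul, map_inv, hc.eq, mul_inv_cancel_right]
  obtain ⟨a, ha⟩ := exists_scal hG (M := ofO (g * h * g⁻¹) hk * (ofO h hh)⁻¹) (by
    simp only [map_mul, map_inv, h1, mul_inv_cancel])
  have ha' : ∀ v, (g * h * g⁻¹) v = (a : F) • h v := by
    intro v
    have h2 : (ofO (g * h * g⁻¹) hk * (ofO h hh)⁻¹).1 (h v) = (scal Q a).1 (h v) := by rw [ha]
    have h3 : (ofO (g * h * g⁻¹) hk * (ofO h hh)⁻¹).1 (h v) = (g * h * g⁻¹) (h.symm (h v)) := rfl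
    rw [h3, LinearEquiv.symm_apply_apply] at h2
    exact h2
  have hpow : ∀ (n : ℕ) v, ((g * h * g⁻¹) ^ n) v = (a : F) ^ n • (h ^ n) v := by
    intro n
    induction n with
    | zero => intro v; simp only [_root_.pow_zero, _root_.LinearEquiv.coe_one, _root_.id_eq, _root_.one_smul]
    | succ n ih =>
      intro v
      rw [pow_succ', LinearEquiv.mul_apply, ih, ha', map_smul, smul_smul, pow_succ' h, LinearEquiv.mul_apply,
        pow_succ']
  obtain ⟨x, y, hxy⟩ := hG.exists_hyp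
  have hv1 : Q (x + (1 : F) • y) = 1 := OBase.Hyp.norm hxy 1
  have h1 : (a : F) * a = 1 := by
    have h2 := hk (x + (1 : F) • y)
    rw [ha', QuadraticMap.map_smul, hh, hv1, smul_eq_mul, mul_one] at h2
    exact h2
  have h2 : (a : F) ^ p = 1 := by
    have h3 := hpow p (x + (1 : F) • y)
    rw [conj_pow, hhp, mul_one, mul_inv_cancel] at h3
    have h4 : (1 - (a : F) ^ p) • (x + (1 : F) • y) = 0 := by
      rw [sub_smul, one_smul]
      exact sub_eq_zero.2 h3
    have h5 : x + (1 : F) • y ≠ 0 := by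
      intro h0
      rw [h0, QuadraticMap.map_zero] at hv1
      exact zero_ne_one hv1
    exact (sub_eq_zero.1 ((smul_eq_zero.1 h4).resolve_right h5)).symm
  have h3 : (a : F) = 1 := by
    obtain ⟨k, hk⟩ := hp
    rw [hk, pow_succ, pow_mul, pow_two, h1, one_pow, one_mul] at h2
    exact h2
  have h4 : g * h * g⁻¹ = h := by
    ext1 v
    rw [ha', h3, one_smul]
  exact mul_inv_eq_iff_eq_mul.1 h4

/-- **Cyclic Sylow subgroups.** -/
theorem cyclic_sylow [Fintype F] [FiniteDimensional F V] (hG : Good Q) {p : ℕ}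
    [hp : Fact p.Prime] (hp2 : p ≠ 2) (hpF : (p : F) ≠ 0) {c : ℕ}
    (hc : c = if Even (orderOf (Fintype.card F : ZMod p)) then orderOf (Fintype.card F : ZMod p) else
      2 * orderOf (Fintype.card F : ZMod p)) (hd : finrank F V = c) (S : Sylow p (P Q)) :
    (IsCyclic ↥(S : Subgroup (P Q)) :) := by
  have hfin : Finite V := Module.finite_of_finite F
  have hfinL : Finite (V ≃ₗ[F] V) := Finite.of_injective (fun f => (f : V → V)) DFunLike.coe_injective
  have hfinP : Finite (P Q) := Quotient.finite _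
  have hodd := hp.out.odd_of_ne_two hp2
  by_contra hnc
  obtain ⟨A, -, ⟨hAc, hAp⟩, hAcard⟩ := Cfsg.Agent.S0126.result hp2 S.2 hnc
  -- two independent elements
  have hA1 : Nat.card A ≠ 1 := by
    rw [hAcard]
    have := hp.out.one_lt
    intro h
    rw [Nat.pow_eq_one] at h
    omega
  obtain ⟨a, ha⟩ : ∃ a : A, a ≠ 1 := by
    by_contra hno
    push Not at hno
    apply hA1
    rw [Nat.card_eq_one_iff_unique]
    exact ⟨⟨fun x y => by rw [hno x, hno y]⟩, ⟨1⟩⟩
  have hap : a ^ p = 1 := Subtype.ext (hAp a a.2)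
  have hao : orderOf a = p := orderOf_eq_prime hap ha
  obtain ⟨b, hb⟩ : ∃ b : A, b ∉ Subgroup.zpowers a := by
    by_contra hno
    push Not at hno
    have h1 : Subgroup.zpowers a = ⊤ := by
      rw [eq_top_iff]
      exact fun x _ => hno x
    have h2 : Nat.card (Subgroup.zpowers a) = p := by rw [Nat.card_zpowers, hao]
    rw [h1, Subgroup.card_top, hAcard] at h2
    have := hp.out.one_lt
    nlinarith only [h2, this]
  have hbp : b ^ p = 1 := Subtype.ext (hAp b b.2)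
  have hab : Commute a b := hAc.is_comm.comm a b
  have hv : ∀ x : A, (((x : S) : P Q)) ^ p = 1 := fun x => by
    have := hAp x x.2
    exact congrArg (fun z : S => (z : P Q)) this
  -- lifts
  obtain ⟨g, hg, hgp, hga⟩ := exists_isom_P hG hodd (hv b)
  obtain ⟨h, hh, hhp, hha⟩ := exists_isom_P hG hodd (hv a)
  have hgh : g * h = h * g := by
    apply commute_of_Psi hG hodd hg hh hhp
    simp only [← hga, ← hha]
    have h1 : Commute (((b : S) : P Q)) ((a : S) : P Q) := by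
      have := congrArg (fun z : A => ((z : S) : P Q)) hab.symm.eq
      exact this
    exact h1.map (MulAut.conj : P Q →* MulAut (P Q))
  have hh1 : h ≠ 1 := by
    rintro rfl
    have h1 : MulAut.conj ((a : S) : P Q) = 1 := by
      rw [hha]
      exact map_one _
    have h2 : ((a : S) : P Q) = 1 := conj_injective_P hG (by rw [h1, map_one])
    exact ha (Subtype.ext (Subtype.ext h2))
  have hcomm : Commute g h := hgh
  have := nontrivial_of_good hG
  obtain ⟨v, hv0⟩ := exists_ne (0 : V)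
  apply hv0
  refine no_rank_two hp.out hpF hgp hhp hgh (nofix hG hh hp2 hpF hhp hh1 hc hd) (fun k hk => ?_) v
  have hghk : g * h ^ k ∈ O Q := (O Q).mul_mem hg ((O Q).pow_mem hh k)
  refine nofix hG hghk hp2 hpF ?_ ?_ hc hd
  · rw [(hcomm.pow_right k).mul_pow, hgp, ← pow_mul, mul_comm, pow_mul, hhp, one_pow, one_mul]
  · intro h1
    apply hb
    have h2 : MulAut.conj (((b * a ^ k : A) : S) : P Q) = 1 := by
      have h3 : (((b * a ^ k : A) : S) : P Q) = ((b : S) : P Q) * ((a : S) : P Q) ^ k := rfl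
      simp_rw [h3, _root_.MonoidHom.map_mul, _root_.MonoidHom.map_pow, hga, hha, ← _root_.MonoidHom.map_pow, ← _root_.MonoidHom.map_mul]
      have h4 : ofO g hg * ofO h hh ^ k = 1 := by
        apply Subtype.ext
        ext1 v
        show g ((ofO h hh ^ k).1 v) = v
        rw [ofO_pow, ← LinearEquiv.mul_apply, h1]
        rfl
      rw [h4, map_one]
    have h3 : (((b * a ^ k : A) : S) : P Q) = 1 := conj_injective_P hG (by rw [h2, map_one])
    have h4 : b * a ^ k = 1 := Subtype.ext (Subtype.ext h3)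
    rw [mul_eq_one_iff_eq_inv] at h4
    rw [h4]
    exact Subgroup.inv_mem _ (Subgroup.pow_mem _ (Subgroup.mem_zpowers a) k)

end cyc

section core

open Cfsg.Agent.H106.MT Cfsg.Agent.H106.MB
open scoped commutatorElement

variable {F : Type u} {V : Type u} [Field F] [AddCommGroup V] [Module F V] {Q : QuadraticForm F V}

theorem not_lin_of_nl (hG : Good Q) {M L : Gam Q} {σ : F ≃+* F} {c μ : F} (hM : IsSS Q σ c M.1) (hσ : σ ≠ 1)
    (hL : IsSS Q (RingEquiv.refl F) μ L.1) : Psi Q M ≠ Psi Q L := by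
  intro h
  have := nontrivial_of_good hG
  obtain ⟨a, ha⟩ := exists_scal hG (M := M * L⁻¹) (by simp only [map_mul, map_inv, h, mul_inv_cancel])
  have hs1 : Semi σ M.1 := ⟨hM.add, hM.smul⟩
  have hs2 : Semi (1 : F ≃+* F) L.1 := ⟨hL.add, hL.smul⟩
  refine ONonlin.not_isScal_of_semi (σ := σ * 1⁻¹) (by rwa [inv_one, mul_one]) (hs1.mul hs2.inv) ⟨a, fun v => ?_⟩
  have h1 : (M * L⁻¹).1 v = (scal Q a).1 v := by rw [ha]
  exact h1

theorem not_inner_of_nl (hG : Good Q) {M : Gam Q} {σ : F ≃+* F} {c : F} (hM : IsSS Q σ c M.1) (hσ : σ ≠ 1)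
    (y : P Q) : Psi Q M ≠ MulAut.conj y := by
  (have h_ob := QuotientGroup.mk_surjective y
   revert h_ob; rintro (⟨⟨n, hn⟩, rfl⟩))
  rw [← Psi_E hn]
  exact not_lin_of_nl hG hM hσ (isSS_ofO (E_le_O hn))

/-- a nonabelian simple group is quasisimple -/
theorem quasisimple_of_simple {X : Type*} [Group X] (hs : IsSimpleGroup X)
    (hnc : ¬ IsMulCommutative X) : Cfsg.IsQuasisimple X := by
  have hc : Subgroup.center X = ⊥ := by
    rcases hs.eq_bot_or_eq_top_of_normal (Subgroup.center X) inferInstance with h | h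
    · exact h
    · exfalso
      apply hnc
      refine ⟨⟨fun a b => ?_⟩⟩
      have : b ∈ Subgroup.center X := by rw [h]; exact Subgroup.mem_top b
      exact (Subgroup.mem_center_iff.mp this a)
  refine ⟨?_, ?_⟩
  · rw [Group.isPerfect_def]
    rcases hs.eq_bot_or_eq_top_of_normal (commutator X) inferInstance with h | h
    · exfalso
      apply hnc
      refine ⟨⟨fun a b => ?_⟩⟩
      have : ⁅a, b⁆ ∈ commutator X := by
        rw [_root_.commutator_def]
        exact Subgroup.commutator_mem_commutator (Subgroup.mem_top a) (Subgroup.mem_top b)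
      rw [h, Subgroup.mem_bot, commutatorElement_eq_one_iff_mul_comm] at this
      exact this
    · exact h
  · have e : X ⧸ Subgroup.center X ≃* X := (QuotientGroup.quotientMulEquivOfEq hc).trans QuotientGroup.quotientBot
    have : Nontrivial (X ⧸ Subgroup.center X) := e.toEquiv.nontrivial
    exact IsSimpleGroup.isSimpleGroup_of_surjective e.symm.toMonoidHom e.symm.surjective

theorem conj_mul_conj (d : MulAut (P Q)) (n : P Q) : d * MulAut.conj n * d⁻¹ = MulAut.conj (d n) := by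
  ext x
  show d (n * d⁻¹ x * n⁻¹) = d n * x * (d n)⁻¹
  rw [map_mul, map_mul, map_inv, MulAut.apply_inv_self]

theorem commute_conj_of_fix {d : MulAut (P Q)} {n : P Q} (h : d n = n) : Commute (MulAut.conj n) d := by
  have h1 := conj_mul_conj d n
  rw [h] at h1
  exact (mul_inv_eq_iff_eq_mul.1 h1).symm

theorem fix_of_commute (hG : Good Q) {d : MulAut (P Q)} {n : P Q} (h : Commute (MulAut.conj n) d) : d n = n := by
  apply conj_injective_P hG
  rw [← conj_mul_conj, ← h.eq, mul_inv_cancel_right]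

/-- **A linear against a nonlinear semisimilitude.** -/
theorem mpair_lin_nl {p : ℕ} (hAA : AAHyp.{u} p) [hp : Fact p.Prime] [Fintype F] [FiniteDimensional F V]
    (hG : Good Q) {m : ℕ} (hm : 3 ≤ m) (hd : finrank F V = 2 * m) (hp2 : p ≠ 2)
    (hcyc : ∀ S : Sylow p (P Q), (IsCyclic ↥(S : Subgroup (P Q)) :))
    {X M : Gam Q} {σ : F ≃+* F} {μ c : F} (hX : IsSS Q (RingEquiv.refl F) μ X.1) (hXo : orderOf (Psi Q X) = p)
    (hM : IsSS Q σ c M.1) (hσ : σ ≠ 1) (hMo : orderOf (Psi Q M) = p) :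
    MPair p (Inn (P Q)) (Psi Q X) (Psi Q M) := by
  have hfin : Finite V := Module.finite_of_finite F
  have hfinL : Finite (V ≃ₗ[F] V) := Finite.of_injective (fun f => (f : V → V)) DFunLike.coe_injective
  have hfinP : Finite (P Q) := Quotient.finite _
  have hodd := hp.out.odd_of_ne_two hp2
  have := good_isSimpleGroup hG
  have hcinj := conj_injective_P hG
  (have h_ob := H885.FC.Main.inner_of_lin hG hX hodd hXo
   revert h_ob; rintro (⟨x0, hx0⟩))
  have hx0o : orderOf x0 = p := by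
    rw [hx0, orderOf_injective _ hcinj] at hXo
    exact hXo
  have hdvd : p ∣ Nat.card (P Q) := by rw [← hx0o]; exact orderOf_dvd_natCard _
  have hMp : Psi Q M ^ p = 1 := by rw [← hMo, pow_orderOf_eq_one]
  (have h_ob := fn_gam hG hm hd hM hσ hp.out hp2 hMp hdvd
   revert h_ob; rintro (⟨N, hN1, hN2, hN3, hN4, hN5, hN6⟩))
  (have h_ob := exists_prime_orderOf_dvd_card' (G := N) p hN3
   revert h_ob; rintro (⟨⟨c0, hc0N⟩, hc0⟩))
  rw [Subgroup.orderOf_mk] at hc0
  let S : Sylow p (P Q) := default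
  (have h_ob := exists_conj_of_cyclic S (hcyc S) hx0o hc0
   revert h_ob; rintro (⟨s, j, hsj⟩))
  set! n : P Q := c0 ^ j with hn
  have hnN : n ∈ N := Subgroup.zpow_mem _ hc0N j
  have hsn : x0 = s * n * s⁻¹ := by rw [← hsj, hn, conj_zpow]
  have hnx : s⁻¹ * x0 * s⁻¹⁻¹ = n := by rw [hsn]; group
  have hdn : Psi Q M n = n := hN4 n hnN
  have hno : orderOf n = p := by rw [← hnx, orderOf_cj, hx0o]
  set! c1 : MulAut (P Q) := MulAut.conj s⁻¹ * Psi Q X * (MulAut.conj s⁻¹)⁻¹ with hc1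
  have hc1n : c1 = MulAut.conj n := by
    simp only [hc1, hx0, ← map_inv, ← map_mul, ← map_mul, hnx]
  have hcd : Commute c1 (Psi Q M) := by
    rw [hc1n]
    exact commute_conj_of_fix hdn
  refine mpair_inner_outer hAA hXo hMo (s := MulAut.conj s⁻¹) ⟨_, rfl⟩ hcd ?_
  rw [← hc1]
  set! h : MulAut (P Q) := c1⁻¹ * Psi Q M with hh
  (try rw [← hh])
  -- `h` comes from a nonlinear semisimilitude
  obtain ⟨⟨w, hw⟩, hwn⟩ := QuotientGroup.mk_surjective n
  have hc1w : c1 = Psi Q (ofO w (E_le_O hw)) := by rw [Psi_E hw, hc1n, ← hwn]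
  have hhM : h = Psi Q ((ofO w (E_le_O hw))⁻¹ * M) := by (rewrite [map_mul]; simp only [map_inv]; simp only [← hc1w]; with_reducible rfl)
  obtain ⟨c', hM'⟩ : ∃ c', IsSS Q σ c' ((ofO w (E_le_O hw))⁻¹ * M).1 :=
    ⟨_, (isSS_ofO ((O Q).inv_mem (E_le_O hw))).mul hM⟩
  have hhp : h ^ p = 1 := by
    rw [hh, hcd.inv_left.mul_pow, hMp, mul_one, inv_pow, hc1n, ← map_pow, ← hno, pow_orderOf_eq_one, map_one, inv_one]
  have hh1 : h ≠ 1 := by
    intro h1
    have h2 : (MulAut.conj (1 : P Q)) = h := by rw [h1, map_one]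
    rw [hhM] at h2
    exact not_inner_of_nl hG hM' hσ 1 h2.symm
  have hho : orderOf h = p := orderOf_eq_prime hhp hh1
  obtain ⟨N', hN'1, hN'2, hN'3, hN'4, hN'5, hN'6⟩ := fn_gam hG hm hd hM' hσ hp.out hp2 (by rw [← hhM]; exact hhp) hdvd
  rw [← hhM] at hN'4 hN'5
  -- the simple group of inner automorphisms
  let R : Subgroup (MulAut (P Q)) := N'.map (MulAut.conj : P Q →* MulAut (P Q))
  have eR : N' ≃* R := N'.equivMapOfInjective _ hcinj
  have hRs : IsSimpleGroup R := by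
    have : Nontrivial R := eR.symm.toEquiv.nontrivial
    exact IsSimpleGroup.isSimpleGroup_of_surjective eR.toMonoidHom eR.surjective
  have hRc : ¬ IsMulCommutative R := by
    intro h9
    apply hN'2
    refine ⟨⟨fun a b => eR.injective ?_⟩⟩
    simp only [_root_.MulEquiv.map_mul, _root_.MulEquiv.map_mul]
    exact h9.is_comm.comm _ _
  have hhn : h n = n := by
    apply fix_of_commute hG
    rw [← hc1n, hh]
    exact (Commute.refl c1).inv_right.mul_right hcd
  have hhn' : h n⁻¹ = n⁻¹ := by rw [map_inv, hhn]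
  intro hsol
  refine not_solvable_of_quasisimple (R := R) (quasisimple_of_simple hRs hRc) (c := c1) ?_ ?_ ?_ ?_
  · rintro _ ⟨r, hr, rfl⟩
    refine ⟨n * r * n⁻¹, hN'5 n hhn r hr, ?_⟩
    simp only [hc1n, map_mul, map_mul, map_inv]
  · rintro _ ⟨r, hr, rfl⟩
    refine ⟨n⁻¹ * r * n⁻¹⁻¹, (hN'5 n⁻¹ hhn' r hr :), ?_⟩
    simp only [hc1n, map_mul, map_mul, map_inv, inv_inv]
  · by_contra hcon
    push Not at hcon
    have h1 : n = 1 := by
      apply hN'6
      intro r hr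
      have h2 := hcon _ ⟨r, hr, rfl⟩
      rw [hc1n] at h2
      apply hcinj
      rw [map_mul, map_mul]
      exact h2.symm.eq
    rw [h1, orderOf_one] at hno
    exact hp.out.one_lt.ne hno
  · have hle : Subgroup.closure {y : MulAut (P Q) | ∃ r ∈ R, y = r * c1 * r⁻¹} ≤
        Subgroup.closure {y : MulAut (P Q) | ∃ r ∈ Inn (P Q) ⊓ Subgroup.centralizer {h}, y = r * c1 * r⁻¹} := by
      apply Subgroup.closure_mono
      rintro _ ⟨_, ⟨r, hr, rfl⟩, rfl⟩
      refine ⟨MulAut.conj r, Subgroup.mem_inf.2 ⟨⟨r, rfl⟩, ?_⟩, rfl⟩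
      rw [Subgroup.mem_centralizer_singleton_iff]
      exact (commute_conj_of_fix (hN'4 r hr)).eq
    exact Group.isSolvable_of_isSolvable_injective (Subgroup.inclusion_injective hle)

/-- **Two linear semisimilitudes.** -/
theorem mpair_lin_lin {p : ℕ} (hAA : AAHyp.{u} p) [hp : Fact p.Prime] [Finite F] [FiniteDimensional F V]
    (hG : Good Q) (hp2 : p ≠ 2) (hcyc : ∀ S : Sylow p (P Q), (IsCyclic ↥(S : Subgroup (P Q)) :))
    {X M : Gam Q} {μ c : F} (hX : IsSS Q (RingEquiv.refl F) μ X.1) (hXo : orderOf (Psi Q X) = p)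
    (hM : IsSS Q (RingEquiv.refl F) c M.1) (hMo : orderOf (Psi Q M) = p) :
    MPair p (Inn (P Q)) (Psi Q X) (Psi Q M) := by
  have hfin : Finite V := Module.finite_of_finite F
  have hfinL : Finite (V ≃ₗ[F] V) := Finite.of_injective (fun f => (f : V → V)) DFunLike.coe_injective
  have hfinP : Finite (P Q) := Quotient.finite _
  have hodd := hp.out.odd_of_ne_two hp2
  have := good_isSimpleGroup hG
  have hcinj := conj_injective_P hG
  (have h_ob := H885.FC.Main.inner_of_lin hG hX hodd hXo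
   revert h_ob; rintro (⟨x0, hx0⟩))
  (have h_ob := H885.FC.Main.inner_of_lin hG hM hodd hMo
   revert h_ob; rintro (⟨y0, hy0⟩))
  rw [hx0, orderOf_injective _ hcinj] at hXo
  rw [hy0, orderOf_injective _ hcinj] at hMo
  let S : Sylow p (P Q) := default
  have h := mpair_of_cyclic hAA (H885.FC.Orth.not_comm_P hG) S (hcyc S) hXo hMo
  simp only [hx0, hy0]
  have h2 := h.of_injective (MulAut.conj : P Q →* MulAut (P Q)) hcinj
  refine h2.mono ?_
  rintro _ ⟨r, -, rfl⟩
  exact ⟨r, rfl⟩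

/-- translation -/
theorem mpq_of_mpair {p : ℕ} (hG : Good Q) {X Y : Gam Q} (h : MPair p (Inn (P Q)) (Psi Q X) (Psi Q Y)) :
    MPQ Q p X.1 Y.1 := by
  obtain ⟨_, ⟨s, rfl⟩, i, j, h⟩ := h
  obtain ⟨⟨w, hw⟩, rfl⟩ := QuotientGroup.mk_surjective s
  refine ⟨w, hw, i, j, fun k hs => h k ?_⟩
  obtain ⟨a, ha⟩ := hs
  have h1 : (X ^ i * (ofO w (E_le_O hw) * Y * (ofO w (E_le_O hw))⁻¹) ^ j) ^ p ^ k ∈ (Psi Q).ker := by
    rw [ker_Psi hG]
    have hne : a ≠ 0 := by
      rintro rfl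
      have := nontrivial_of_good hG
      obtain ⟨v, hv⟩ := exists_ne (0 : V)
      apply hv
      apply ((X.1 ^ i * (toA w * Y.1 * (toA w)⁻¹) ^ j) ^ p ^ k).injective
      rw [ha, ha, zero_smul, zero_smul]
    refine ⟨Units.mk0 a hne, ?_⟩
    apply Subtype.ext
    ext1 v
    have e : ((X ^ i * (ofO w (E_le_O hw) * Y * (ofO w (E_le_O hw))⁻¹) ^ j) ^ p ^ k).1 =
        (X.1 ^ i * (toA w * Y.1 * (toA w)⁻¹) ^ j) ^ p ^ k := by
      rw [SubmonoidClass.coe_pow, Subgroup.coe_mul, SubmonoidClass.coe_pow, SubmonoidClass.coe_pow,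
        Subgroup.coe_mul, Subgroup.coe_mul, Subgroup.coe_inv]
      rfl
    rw [e, ha, scal_apply, Units.val_mk0]
  simp only [← Psi_E hw]
  rw [MonoidHom.mem_ker] at h1
  simpa only [_root_.conj_pow, _root_.map_pow, _root_.map_mul, _root_.map_inv] using h1

end core

end Cfsg.Agent.H862.T5.OAA
end

-- part: H862/T5/OMinusFour
section
/-!
# The four-dimensional minus type space, Hermitian `2 × 2` matrices (T5)

`TRE z C` : `z (u uᴴ) = l (C u) (C u)ᴴ`.
-/

set_option autoImplicit false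
set_option linter.unusedSectionVars false
set_option linter.unusedSimpArgs false
set_option linter.unusedVariables false

namespace Cfsg.Agent.H862.T5.OMinusFour

open QuadraticMap Module Cfsg.Agent.LieClassical.OrthCore Cfsg.Agent.LieClassical.OrthTrans
open Cfsg.Agent.LieClassical.OrthFourMinus (E ME toM toM_apply toM_injective actFun toM_actFun Gam mem_Gam psi psi_apply
  toM_psi tau sw sw_coe tau_conj tau_apply phi phi_apply coord Q_coord exists_eq)
open Cfsg.Agent.LieClassical.OrthFourCommon (isom)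
open Cfsg.Agent.LieClassical.QuadForms
open Cfsg.Agent.H862.T5.OBase Cfsg.Agent.H862.T5.OFrame Cfsg.Agent.H862.T5.OLinFour
open Cfsg.Agent.H957.T5V
open Cfsg.Agent.H152.MeetOmega (rhoGL rhoGL_apply)
open QuadraticAlgebra (norm)
open scoped Matrix MatrixGroups

variable {F V : Type*} [Field F] [AddCommGroup V] [Module F V] {Q : QuadraticForm F V} {a b : F}

/-- the space -/
abbrev VV (F : Type*) [Field F] (a b : F) := Cfsg.Agent.LieClassical.OrthFourMinus.V F (-b) a

/-- the field -/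
abbrev EE (F : Type*) [Field F] (a b : F) := _root_.Cfsg.Agent.LieClassical.OrthFourMinus.E F (-b) a

/-- the form -/
def q4 (F : Type*) [Field F] (a b : F) : QuadraticForm F (VV F a b) :=
  (minusForm 1 F a b).comp (coord F (-b) a).symm.toLinearMap

theorem q4_apply (v : VV F a b) : q4 F a b v = v.1 * v.2.1 + norm v.2.2 := by
  show minusForm 1 F a b ((coord F (-b) a).symm v) = _
  rw [coe_minusForm, ← Q_coord, LinearEquiv.apply_symm_apply]
  rfl

theorem polar_q4 (u v : VV F a b) : polar (q4 F a b) u v =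
    u.1 * v.2.1 + v.1 * u.2.1 + (_root_.QuadraticAlgebra.norm (u.2.2 + v.2.2) - norm u.2.2 - norm v.2.2) := by
  rw [polar, q4_apply, q4_apply, q4_apply]
  simp only [Prod.fst_add, Prod.snd_add]
  ring

/-- the Hermitian matrix `u uᴴ` -/
def wv (u : Fin 2 → EE F a b) : VV F a b := (norm (u 0), -norm (u 1), u 0 * star (u 1))

theorem toM_wv (u : Fin 2 → EE F a b) : toM (wv u) = Matrix.vecMulVec u (star u) := by
  rw [toM_apply]
  ext1 i k
  fin_cases i <;> fin_cases k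
  · simp only [wv, Matrix.vecMulVec_apply, QuadraticAlgebra.algebraMap_norm_eq_mul_star, _root_.Fin.isValue, _root_.star_mul', _root_.star_star, _root_.map_neg, _root_.neg_neg, _root_.Fin.zero_eta, _root_.Matrix.of_apply, _root_.Matrix.cons_val', _root_.Matrix.cons_val_zero, _root_.Matrix.cons_val_fin_one, _root_.Pi.star_apply]
  · simp only [wv, Matrix.vecMulVec_apply, _root_.Fin.isValue, _root_.star_mul', _root_.star_star, _root_.map_neg, _root_.neg_neg, _root_.Fin.zero_eta, _root_.Fin.mk_one, _root_.Matrix.of_apply, _root_.Matrix.cons_val', _root_.Matrix.cons_val_one, _root_.Matrix.cons_val_fin_one, _root_.Matrix.cons_val_zero, _root_.Pi.star_apply]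
  · simp only [wv, Matrix.vecMulVec_apply, mul_comm, _root_.Fin.isValue, _root_.star_mul', _root_.star_star, _root_.map_neg, _root_.neg_neg, _root_.Fin.mk_one, _root_.Fin.zero_eta, _root_.Matrix.of_apply, _root_.Matrix.cons_val', _root_.Matrix.cons_val_zero, _root_.Matrix.cons_val_fin_one, _root_.Matrix.cons_val_one, _root_.Pi.star_apply]
  · simp only [wv, Matrix.vecMulVec_apply, QuadraticAlgebra.algebraMap_norm_eq_mul_star, _root_.Fin.isValue, _root_.star_mul', _root_.star_star, _root_.map_neg, _root_.neg_neg, _root_.Fin.mk_one, _root_.Matrix.of_apply, _root_.Matrix.cons_val', _root_.Matrix.cons_val_one, _root_.Matrix.cons_val_fin_one, _root_.Pi.star_apply]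

theorem act_wv (A : ME F (-b) a) (u : Fin 2 → EE F a b) : actFun A (wv u) = wv (A *ᵥ u) := by
  apply toM_injective
  rw [toM_actFun, toM_wv, toM_wv, Matrix.mul_vecMulVec, Matrix.vecMulVec_mul]
  congr 1
  rw [Matrix.star_mulVec]

variable [hab : Fact (∀ r : F, r ^ 2 ≠ -b + a * r)]

/-- `z (u uᴴ) = l (C u) (C u)ᴴ` -/
def TRE (z : Equiv.Perm (VV F a b)) (C : Equiv.Perm (Fin 2 → EE F a b)) : Prop :=
  ∃ l : F, l ≠ 0 ∧ ∀ u, z (wv u) = l • wv (C u)

theorem TRE.one : TRE (1 : Equiv.Perm (VV F a b)) 1 := ⟨1, one_ne_zero, fun u => (one_smul F _).symm⟩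

theorem TRE.mul {σ : F ≃+* F} {z w : Equiv.Perm (VV F a b)} {C D : Equiv.Perm (Fin 2 → EE F a b)}
    (hz : Semi σ z) (h : TRE z C) (h' : TRE w D) : TRE (z * w) (C * D) := by
  obtain ⟨l, hl, h⟩ := h
  obtain ⟨m, hm, h'⟩ := h'
  refine ⟨σ m * l, mul_ne_zero (by simpa using hm) hl, fun u => ?_⟩
  rw [Equiv.Perm.mul_apply, h', hz.smul, h, smul_smul]
  rfl

theorem TRE.pow {σ : F ≃+* F} {z : Equiv.Perm (VV F a b)} {C : Equiv.Perm (Fin 2 → EE F a b)}
    (hz : Semi σ z) (h : TRE z C) (n : ℕ) : TRE (z ^ n) (C ^ n) := by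
  induction n with
  | zero => exact TRE.one
  | succ n ih => rw [pow_succ', pow_succ']; exact h.mul hz ih

theorem norm_eq_zero {z : EE F a b} (h : norm z = 0) : z = 0 := QuadraticAlgebra.norm_eq_zero_iff_eq_zero.1 h

theorem TRE.isScal {τ : EE F a b ≃+* EE F a b} {z : Equiv.Perm (VV F a b)} {C : Equiv.Perm (Fin 2 → EE F a b)}
    (hC : Semi τ C) (h : TRE z C) (hz : IsScal F z) : IsScal (EE F a b) C := by
  obtain ⟨l, hl, h⟩ := h
  obtain ⟨t, ht⟩ := hz
  have key : ∀ u, wv (C u) = (l⁻¹ * t) • wv u := by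
    intro u
    rw [mul_smul, ← ht, h, smul_smul, inv_mul_cancel₀ hl, one_smul]
  set s := l⁻¹ * t with hs
  have k1 : ∀ u, norm (C u 0) = s * norm (u 0) := fun u => congrArg (fun v : VV F a b => v.1) (key u)
  have k2 : ∀ u, norm (C u 1) = s * norm (u 1) := fun u => by
    have := congrArg (fun v : VV F a b => v.2.1) (key u)
    have h2 : -norm (C u 1) = s * -norm (u 1) := this
    linear_combination -h2
  have k3 : ∀ u, C u 0 * star (C u 1) = s • (u 0 * star (u 1)) := fun u =>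
    congrArg (fun v : VV F a b => v.2.2) (key u)
  -- the images of the basis
  have e0 : C (Pi.single 0 1) 1 = 0 := by
    apply norm_eq_zero
    rw [k2]
    simp
  have e1 : C (Pi.single 1 1) 0 = 0 := by
    apply norm_eq_zero
    rw [k1]
    simp
  set α := C (Pi.single 0 1) 0 with hα
  set β := C (Pi.single 1 1) 1 with hβ
  have hCu : ∀ u : Fin 2 → EE F a b, C u = ![τ (u 0) * α, τ (u 1) * β] := by
    intro u
    have hu : u = u 0 • Pi.single 0 1 + u 1 • Pi.single 1 1 := by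
      funext i
      (revert i; simp only [_root_.Fin.forall_fin_succ, Fin.isValue, _root_.Pi.add_apply, _root_.Pi.smul_apply, _root_.smul_eq_mul, _root_.Pi.single_eq_same, _root_.mul_one, _root_.ne_eq, _root_.zero_ne_one, _root_.not_false_eq_true, _root_.Pi.single_eq_of_ne, _root_.MulZeroClass.mul_zero, _root_.add_zero, _root_.Fin.succ_ne_zero, _root_.zero_add, _root_.Fin.succ_zero_eq_one, _root_.IsEmpty.forall_iff, _root_.and_self])
    conv_lhs => rw [hu, hC.add, hC.smul, hC.smul]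
    funext i
    fin_cases i
    · simp [e1, hα]
    · simp [e0, hβ]
  have hαN : α * star α = algebraMap F (EE F a b) s := by
    rw [← QuadraticAlgebra.algebraMap_norm_eq_mul_star, hα, k1]
    simp
  have h3 : ∀ t : EE F a b, α * star (τ t * β) = s • star t := by
    intro t
    have h4 := k3 ![1, t]
    rw [hCu] at h4
    simpa only [_root_.star_mul', _root_.Nat.succ_eq_add_one, _root_.Nat.reduceAdd, _root_.Fin.isValue, _root_.Matrix.cons_val_zero, _root_.map_one, _root_.one_mul, _root_.Matrix.cons_val_one, _root_.Matrix.cons_val_fin_one] using h4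
  have hs0 : s ≠ 0 := by
    intro h0
    have h4 : C (Pi.single 0 1) = 0 := by
      rw [hCu]
      have h5 : α = 0 := by
        apply norm_eq_zero
        rw [hα, k1, h0, zero_mul]
      funext i
      fin_cases i
      · simp [h5]
      · simp
    rw [← hC.zero] at h4
    have h6 := congrFun (C.injective h4) 0
    simp at h6
  have hα0 : α ≠ 0 := by
    intro h0
    rw [h0, zero_mul, ← map_zero (algebraMap F (EE F a b))] at hαN
    exact hs0 (QuadraticAlgebra.algebraMap_injective hαN).symm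
  have hβα : β = α := by
    have h4 := h3 1
    rw [map_one, one_mul, star_one, Algebra.smul_def, mul_one, ← hαN] at h4
    exact star_injective (mul_left_cancel₀ hα0 h4)
  have hτ : ∀ t, τ t = t := by
    intro t
    have h4 := h3 t
    rw [hβα, star_mul, ← mul_assoc, hαN, Algebra.smul_def] at h4
    have h5 : algebraMap F (EE F a b) s ≠ 0 := by
      rw [← hαN]
      exact mul_ne_zero hα0 (star_ne_zero.2 hα0)
    exact star_injective (mul_left_cancel₀ h5 h4)
  refine ⟨α, fun u => ?_⟩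
  rw [hCu]
  funext i
  fin_cases i
  · simp [hτ, mul_comm]
  · simp [hτ, hβα, mul_comm]

/-! ### lifts -/

variable {j : VV F a b →ₗ[F] V}

omit hab in
theorem lift_phi (h : Emb Q (q4 F a b) j) (s : SL(2, EE F a b)) [Fact (∀ r : F, r ^ 2 ≠ -b + a * r)] :
    LiftE Q j (phi (c := -b) (d := a) s).1 := by
  refine Matrix.SL2.transvection_induction (fun s => LiftE Q j (phi (c := -b) (d := a) s).1) ?_ ?_ s
  · intro i k hik t
    have hik' : (i = 0 ∧ k = 1) ∨ (i = 1 ∧ k = 0) := by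
      fin_cases i <;> fin_cases k <;> simp_all only [_root_.ne_eq, _root_.Fin.zero_eta, _root_.Fin.isValue, _root_.not_true_eq_false, _root_.Fin.mk_one, _root_.zero_ne_one, _root_.not_false_eq_true, _root_.and_self, _root_.one_ne_zero, _root_.or_false, _root_.or_true]
    rcases hik' with ⟨rfl, rfl⟩ | ⟨rfl, rfl⟩
    · have hu : q4 F a b (1, 0, 0) = 0 := by rw [q4_apply]; simp
      have hw : polar (q4 F a b) (1, 0, 0) (0, 0, -t) = 0 := by rw [polar_q4]; simp only [_root_.MulZeroClass.mul_zero, _root_.add_zero, _root_.zero_add, _root_.QuadraticAlgebra.norm_neg, _root_.QuadraticAlgebra.norm_zero, _root_.sub_zero, _root_.sub_self]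
      have e : (phi (c := -b) (d := a) (Matrix.SpecialLinearGroup.transvection hik t)).1 = siegel (q4 F a b) _ _ hu hw := by
        ext1 v
        rw [phi_apply, siegel_apply, polar_q4, polar_q4, q4_apply]
        obtain ⟨v1, v2, v3⟩ := v
        simp only [actFun, Matrix.SpecialLinearGroup.transvection_coe]
        refine Prod.ext ?_ (Prod.ext ?_ ?_)
        · simp [Matrix.single_apply, Matrix.one_apply, QuadraticAlgebra.norm_def, QuadraticAlgebra.trace_def, QuadraticAlgebra.re_one, QuadraticAlgebra.im_one]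
          ring
        · simp [Matrix.single_apply, Matrix.one_apply, QuadraticAlgebra.norm_def, QuadraticAlgebra.trace_def, QuadraticAlgebra.re_one, QuadraticAlgebra.im_one]
        · ext
          · simp [Matrix.single_apply, Matrix.one_apply, QuadraticAlgebra.norm_def, QuadraticAlgebra.trace_def, QuadraticAlgebra.re_one, QuadraticAlgebra.im_one]
            ring
          · simp [Matrix.single_apply, Matrix.one_apply, QuadraticAlgebra.norm_def, QuadraticAlgebra.trace_def, QuadraticAlgebra.re_one, QuadraticAlgebra.im_one]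
            ring
      rw [e]
      exact h.liftE_siegel hu hw
    · have hu : q4 F a b (0, 1, 0) = 0 := by rw [q4_apply]; simp
      have hw : polar (q4 F a b) (0, 1, 0) (0, 0, star t) = 0 := by rw [polar_q4]; simp
      have e : (phi (c := -b) (d := a) (Matrix.SpecialLinearGroup.transvection hik t)).1 = siegel (q4 F a b) _ _ hu hw := by
        ext1 v
        rw [phi_apply, siegel_apply, polar_q4, polar_q4, q4_apply]
        obtain ⟨v1, v2, v3⟩ := v
        simp only [actFun, Matrix.SpecialLinearGroup.transvection_coe]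
        refine Prod.ext ?_ (Prod.ext ?_ ?_)
        · simp [Matrix.single_apply, Matrix.one_apply, QuadraticAlgebra.norm_def, QuadraticAlgebra.trace_def, QuadraticAlgebra.re_one, QuadraticAlgebra.im_one]
        · simp [Matrix.single_apply, Matrix.one_apply, QuadraticAlgebra.norm_def, QuadraticAlgebra.trace_def, QuadraticAlgebra.re_one, QuadraticAlgebra.im_one]
          ring
        · ext
          · simp [Matrix.single_apply, Matrix.one_apply, QuadraticAlgebra.norm_def, QuadraticAlgebra.trace_def, QuadraticAlgebra.re_one, QuadraticAlgebra.im_one]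
            ring
          · simp [Matrix.single_apply, Matrix.one_apply, QuadraticAlgebra.norm_def, QuadraticAlgebra.trace_def, QuadraticAlgebra.re_one, QuadraticAlgebra.im_one]
            ring
      rw [e]
      exact h.liftE_siegel hu hw
  · intro A B hA hB
    rw [map_mul]
    exact hA.mul hB


theorem tre_phi (s : SL(2, EE F a b)) : TRE (toA (phi (c := -b) (d := a) s).1) (toA (Matrix.SpecialLinearGroup.toLin' s)) :=
  ⟨1, one_ne_zero, fun u => by
    rw [one_smul]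
    exact act_wv _ u⟩

theorem tre_phi_inv (s : SL(2, EE F a b)) :
    TRE (toA (phi (c := -b) (d := a) s).1)⁻¹ (toA (Matrix.SpecialLinearGroup.toLin' s))⁻¹ := by
  have h := tre_phi (F := F) (a := a) (b := b) s⁻¹
  rw [map_inv] at h
  exact h

theorem exists_lift (h : Emb Q (q4 F a b) j) {g : (Fin 2 → EE F a b) ≃ₗ[EE F a b] (Fin 2 → EE F a b)}
    (hg : LinearEquiv.det g = 1) : ∃ f : VV F a b ≃ₗ[F] VV F a b, LiftE Q j f ∧ TRE (toA f) (toA g) ∧
      TRE (toA f)⁻¹ (toA g)⁻¹ := by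
  have hd : (LinearMap.toMatrix' (g : (Fin 2 → EE F a b) →ₗ[EE F a b] (Fin 2 → EE F a b))).det = 1 := by
    rw [LinearMap.det_toMatrix', ← LinearEquiv.coe_det, hg, Units.val_one]
  let A : SL(2, EE F a b) := ⟨_, hd⟩
  have e : g = Matrix.SpecialLinearGroup.toLin' A := by
    apply LinearEquiv.toLinearMap_injective
    show _ = Matrix.toLin' (LinearMap.toMatrix' (g : (Fin 2 → EE F a b) →ₗ[EE F a b] (Fin 2 → EE F a b)))
    rw [Matrix.toLin'_toMatrix']
  rw [e]
  exact ⟨_, lift_phi h A, tre_phi A, tre_phi_inv A⟩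

theorem aniso (z₁ z₂ : F) (h : z₁ ^ 2 + a * z₁ * z₂ + b * z₂ ^ 2 = 0) : z₁ = 0 ∧ z₂ = 0 := by
  have h1 : norm (⟨z₁, z₂⟩ : EE F a b) = 0 := by
    rw [QuadraticAlgebra.norm_def, ← h]
    ring
  have h2 := norm_eq_zero h1
  exact ⟨congrArg QuadraticAlgebra.re h2, congrArg QuadraticAlgebra.im h2⟩

theorem fact_of_aniso {a b : F} (h : ∀ z₁ z₂ : F, z₁ ^ 2 + a * z₁ * z₂ + b * z₂ ^ 2 = 0 → z₁ = 0 ∧ z₂ = 0) :
    Fact (∀ r : F, r ^ 2 ≠ -b + a * r) := ⟨fun r hr => by
  have h1 := (h r (-1) (by linear_combination hr)).2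
  exact one_ne_zero (neg_eq_zero.1 h1)⟩

theorem nondeg_q4 [Finite F] : Nondeg (q4 F a b) := by
  intro v hv
  have h := Cfsg.Agent.LieClassical.OrthForms.nondeg_minusForm 1 F a b aniso ((coord F (-b) a).symm v) (fun w => by
    have h1 := hv (coord F (-b) a w)
    rw [AutOrth.Main.minusForm_eq]
    have h2 : polar (q4 F a b) v (coord F (-b) a w) =
        polar (minusForm 1 F a b) ((coord F (-b) a).symm v) w := by
      unfold QuadraticMap.polar
      have h3 : ∀ u, q4 F a b u = minusForm 1 F a b ((coord F (-b) a).symm u) := fun u => rfl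
      rw [h3, h3, h3, map_add, LinearEquiv.symm_apply_apply]
    rw [← h2]
    exact h1)
  rwa [LinearEquiv.map_eq_zero_iff] at h

theorem finrank_VV : finrank F (VV F a b) = 4 := by
  rw [← (coord F (-b) a).finrank_eq, Module.finrank_fintype_fun_eq_card]
  simp

theorem cast_ne {p : ℕ} (hpF : (p : F) ≠ 0) : (p : EE F a b) ≠ 0 := by
  intro h
  apply hpF
  have h1 : algebraMap F (EE F a b) (p : F) = algebraMap F (EE F a b) 0 := by
    rw [map_natCast, map_zero, h]
  exact QuadraticAlgebra.algebraMap_injective h1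

/-- **The core computation for the minus type four-space.** -/
theorem mpq_coreE [Finite F] {p : ℕ} (hp : p.Prime) (hp5 : 5 ≤ p) (hpF : (p : F) ≠ 0) (he : Emb Q (q4 F a b) j)
    {x y : Equiv.Perm V} {x' y' : Equiv.Perm (VV F a b)} {c d : Equiv.Perm (Fin 2 → EE F a b)}
    {σ' τ' : F ≃+* F} {σ τ : EE F a b ≃+* EE F a b} (hxs : Semi σ' x') (hys : Semi τ' y')
    (hx : Cov j x x') (hy : Cov j y y') (hc : Semi σ c) (hd : Semi τ d) (hxc : TRE x' c) (hyd : TRE y' d)
    (hxp : IsScal F (x ^ p)) (hyp : IsScal F (y ^ p)) (hcn : ¬ IsScal (EE F a b) c)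
    (hdn : ¬ IsScal (EE F a b) d) : MPQ Q p x y := by
  have hj := he.injective nondeg_q4
  have : Finite (EE F a b) := Finite.of_equiv _ (QuadraticAlgebra.equivProd (-b) a).symm
  have hcp : IsScal (EE F a b) (c ^ p) := (hxc.pow hxs p).isScal (hc.pow p) ((hx.pow p).isScal hj hxp)
  have hdp : IsScal (EE F a b) (d ^ p) := (hyd.pow hys p).isScal (hd.pow p) ((hy.pow p).isScal hj hyp)
  obtain ⟨g, hg, i, k, h⟩ := H957.T5Main.mp_main (V := Fin 2 → EE F a b) hp hp5
    (by rw [Module.finrank_fintype_fun_eq_card, Fintype.card_fin]) (cast_ne hpF) hc hcp hcn hd hdp hdn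
  obtain ⟨f, hf, hf1, hf2⟩ := exists_lift he hg
  refine mpq_of_cov hj hx hy hf (i := i) (k := k) fun n hn => h n ?_
  have h1 : TRE (toA f * y' * (toA f)⁻¹) (toA g * d * (toA g)⁻¹) :=
    (hf1.mul (semi_toA f) hyd).mul ((semi_toA f).mul hys) hf2
  have hs : Semi τ (toA g * d * (toA g)⁻¹) := hd.conj g
  have hs' : Semi τ' (toA f * y' * (toA f)⁻¹) := hys.conj f
  exact (((hxc.pow hxs i).mul (hxs.pow i) (h1.pow hs' k)).pow ((hxs.pow i).mul (hs'.pow k)) _).isScal
    (((hc.pow i).mul (hs.pow k)).pow _) hn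

/-- `x` has a frame in the Hermitian matrices with nonscalar part -/
def FrE (Q : QuadraticForm F V) (a b : F) [Fact (∀ r : F, r ^ 2 ≠ -b + a * r)] (x : Equiv.Perm V) : Prop :=
  ∃ (j : VV F a b →ₗ[F] V) (x' : Equiv.Perm (VV F a b)) (σ' : F ≃+* F) (σ : EE F a b ≃+* EE F a b)
    (c : Equiv.Perm (Fin 2 → EE F a b)), Emb Q (q4 F a b) j ∧ Cov j x x' ∧ Semi σ' x' ∧ Semi σ c ∧ TRE x' c ∧
      ¬ IsScal (EE F a b) c

theorem mpq_of_frE [Finite F] [FiniteDimensional F V] (hG : Good Q) (h7 : 7 ≤ finrank F V) {p : ℕ} (hp : p.Prime)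
    (hp5 : 5 ≤ p) (hpF : (p : F) ≠ 0) {x y : Equiv.Perm V} (hx : FrE Q a b x) (hy : FrE Q a b y)
    (hxp : IsScal F (x ^ p)) (hyp : IsScal F (y ^ p)) : MPQ Q p x y := by
  obtain ⟨j₁, x', σ', σ, c, h₁, hx', hxs, hc, hxc, hcn⟩ := hx
  obtain ⟨j₂, y', τ', τ, d, h₂, hy', hys, hd, hyd, hdn⟩ := hy
  obtain ⟨T, hT, hTj⟩ := exists_common hG nondeg_q4 h₁ h₂ (by rw [finrank_VV]; omega)
  refine MPQ.conj_right hT ?_
  have hj : T.toLinearMap ∘ₗ j₂ = j₁ := LinearMap.ext hTj
  have hy'' : Cov j₁ (toA T * y * (toA T)⁻¹) y' := by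
    rw [← hj]
    exact hy'.left T
  refine mpq_coreE hp hp5 hpF h₁ hxs hys hx' hy'' hc hd hxc hyd hxp ?_ hcn hdn
  rw [conj_pow]
  exact isScal_conj (semi_toA T) hyp

/-- replace `x` by a scalar multiple -/
theorem FrE.of_smul {x : Equiv.Perm V} (s : Fˣ) (h : FrE Q a b (smulA s x)) : FrE Q a b x := by
  obtain ⟨j, x', σ', σ, c, hj, hx', hxs, hc, ⟨l, hl, hlc⟩, hcn⟩ := h
  have h1 : ∀ u, x (j u) = j ((s⁻¹ : Fˣ) • x' u) := by
    intro u
    have := hx' u
    rw [smulA_apply] at this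
    rw [Units.smul_def, map_smul, ← this, smul_smul, Units.inv_mul, one_smul]
  refine ⟨j, smulA s⁻¹ x', σ', σ, c, hj, h1, hxs.smulA _, hc, ⟨((s⁻¹ : Fˣ) : F) * l, mul_ne_zero (Units.ne_zero _) hl,
    fun u => ?_⟩, hcn⟩
  rw [smulA_apply, hlc, smul_smul]

/-! ### linear isometries -/

theorem mem_isom_of_mem_O {g : VV F a b ≃ₗ[F] VV F a b} (hg : g ∈ O (q4 F a b)) :
    g ∈ isom (Cfsg.Agent.LieClassical.OrthFourMinus.Q (-b) a) := fun v => by
  have := hg v
  rw [q4_apply, q4_apply] at this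
  exact this

theorem exists_psi [Finite F] {g : VV F a b ≃ₗ[F] VV F a b} (hg : g ∈ O (q4 F a b)) {p : ℕ} (hodd : Odd p)
    (hgp : g ^ p = 1) : ∃ P : Gam F (-b) a, ∀ v, g v = actFun (P.1 : ME F (-b) a) v := by
  obtain ⟨P, hP⟩ := exists_eq (Cfsg.Agent.LieClassical.OrthFourMinus.norm_surjective (F := F) (c := -b) (d := a))
    (⟨g, mem_isom_of_mem_O hg⟩ : isom _)
  set G : isom (Cfsg.Agent.LieClassical.OrthFourMinus.Q (-b) a) := ⟨g, mem_isom_of_mem_O hg⟩ with hG
  have htau : tau (F := F) (c := -b) (d := a) * tau = 1 := by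
    refine Subtype.ext (LinearEquiv.ext fun v => ?_)
    show (tau (F := F) (c := -b) (d := a)).1 ((tau (F := F) (c := -b) (d := a)).1 v) = v
    rw [tau_apply, tau_apply, star_star]
  have h2 : ∃ P₂ : Gam F (-b) a, G ^ 2 = psi P₂ := by
    rcases hP with h | h
    · exact ⟨P ^ 2, by rw [h, map_pow]⟩
    · refine ⟨P * sw P, ?_⟩
      simp only [_root_.MonoidHom.map_mul, ← tau_conj, h, pow_two]
      have : tau⁻¹ = tau (F := F) (c := -b) (d := a) := (inv_eq_of_mul_eq_one_left htau :)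
      simp only [this]
      group
  obtain ⟨P₂, h2⟩ := h2
  obtain ⟨k, hk⟩ := hodd
  have hGp : G ^ p = 1 := Subtype.ext (by
    show g ^ p = 1
    exact hgp)
  have h3 : G = psi (P₂ ^ (k + 1)) := by
    rw [map_pow, ← h2, ← pow_mul]
    have : 2 * (k + 1) = p + 1 := by omega
    rw [this, pow_succ, hGp, one_mul]
  refine ⟨P₂ ^ (k + 1), fun v => ?_⟩
  rw [← psi_apply, ← h3]

theorem frE_of_isom [Finite F] (he : Emb Q (q4 F a b) j) {g : V ≃ₗ[F] V} {g' : VV F a b ≃ₗ[F] VV F a b}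
    (hg' : g' ∈ O (q4 F a b)) (hgg' : ∀ u, g (j u) = j (g' u)) {p : ℕ} (hodd : Odd p) (hgp : g' ^ p = 1)
    (h1 : g' ≠ 1) : FrE Q a b (toA g) := by
  obtain ⟨P, hP⟩ := exists_psi hg' hodd hgp
  refine ⟨j, toA g', 1, 1, rhoGL P.1, he, hgg', semi_toA g', semi_rhoGL _, ⟨1, one_ne_zero, fun u => ?_⟩, ?_⟩
  · rw [one_smul, rhoGL_apply, ← act_wv]
    exact hP _
  · intro hs
    obtain ⟨u, hu⟩ := hs
    have hu' := eq_scalar_of_isScal hu
    have hN : norm u ^ 2 = 1 := by
      have h2 := mem_Gam.1 P.2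
      rw [hu', Matrix.det_smul, Matrix.det_one, mul_one, Fintype.card_fin, map_pow] at h2
      exact h2
    have hg : ∀ v, g' v = norm u • v := by
      intro v
      rw [hP, hu']
      apply toM_injective
      rw [toM_actFun, map_smul, Matrix.conjTranspose_smul, Matrix.conjTranspose_one, Matrix.smul_mul, Matrix.mul_smul,
        one_mul, mul_one, smul_smul, mul_comm, ← QuadraticAlgebra.algebraMap_norm_eq_mul_star, algebraMap_smul]
    have hgn : ∀ (n : ℕ) v, (g' ^ n) v = (norm u) ^ n • v := by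
      intro n
      induction n with
      | zero => intro v; simp
      | succ n ih => intro v; rw [pow_succ, LinearEquiv.mul_apply, hg, map_smul, ih, smul_smul, pow_succ, mul_comm]
    have h3 : norm u ^ p = 1 := by
      have h4 := hgn p (1, 0, 0)
      rw [hgp] at h4
      have h5 := congrArg Prod.fst h4
      simpa only [_root_.Prod.smul_mk, _root_.smul_eq_mul, _root_.mul_one, _root_.MulZeroClass.mul_zero, _root_.smul_zero, _root_.LinearEquiv.coe_one, _root_.id_eq] using h5.symm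
    have h4 : norm u = 1 := by
      obtain ⟨k, hk⟩ := hodd
      rw [hk, pow_succ, pow_mul, hN, one_pow, one_mul] at h3
      exact h3
    apply h1
    ext1 v
    rw [hg, h4, one_smul]
    rfl

/-! ### nonlinear maps -/

section nl

variable {σ : F ≃+* F} (ha : σ a = a) (hb : σ b = b)

/-- the automorphism of the quadratic extension -/
def sigE : EE F a b ≃+* EE F a b where
  toFun z := ⟨σ z.re, σ z.im⟩
  invFun z := ⟨σ.symm z.re, σ.symm z.im⟩
  left_inv z := by ext <;> simp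
  right_inv z := by ext <;> simp
  map_add' z w := by ext <;> simp
  map_mul' z w := by
    ext
    · simp [hb]
    · simp only [ha, _root_.QuadraticAlgebra.im_mul, _root_.map_add, _root_.map_mul, _root_.QuadraticAlgebra.mk_mul_mk, _root_.neg_mul]

include ha hb in
theorem norm_sigE (z : EE F a b) : _root_.QuadraticAlgebra.norm (sigE ha hb z) = σ (norm z) := by
  rw [QuadraticAlgebra.norm_def, QuadraticAlgebra.norm_def]
  simp [sigE, ha, hb]

theorem star_sigE (z : EE F a b) : star (sigE ha hb z) = sigE ha hb (star z) := by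
  ext <;> simp only [sigE, ha, _root_.RingEquiv.coe_mk, _root_.Equiv.coe_fn_mk, _root_.QuadraticAlgebra.star_mk, _root_.QuadraticAlgebra.re_star, _root_.RingEquiv.map_add, _root_.RingEquiv.map_mul, _root_.QuadraticAlgebra.im_star, _root_.RingEquiv.map_neg]

theorem sigE_ne_one (h : σ ≠ 1) : sigE (a := a) (b := b) ha hb ≠ 1 := by
  intro h1
  apply h
  ext z
  have h2 := congrArg (fun f : EE F a b ≃+* EE F a b => (f ⟨z, 0⟩).re) h1
  exact h2

/-- the semilinear map of the space of vectors -/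
def SigV : Equiv.Perm (Fin 2 → EE F a b) where
  toFun u i := sigE ha hb (u i)
  invFun u i := (sigE ha hb).symm (u i)
  left_inv u := by funext i; simp
  right_inv u := by funext i; simp

theorem semi_SigV : Semi (sigE ha hb) (SigV (a := a) (b := b) ha hb) where
  add u v := by funext i; exact _root_.RingEquiv.map_add (sigE ha hb) (u i) (v i)
  smul r v := by funext i; exact map_mul (sigE ha hb) r (v i)

/-- the semilinear map of the Hermitian matrices -/
def SigW : Equiv.Perm (VV F a b) where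
  toFun v := (σ v.1, σ v.2.1, sigE ha hb v.2.2)
  invFun v := (σ.symm v.1, σ.symm v.2.1, (sigE ha hb).symm v.2.2)
  left_inv v := by simp
  right_inv v := by simp

theorem semi_SigW : Semi σ (SigW (a := a) (b := b) ha hb) where
  add u v := by simp [SigW]
  smul r v := by
    refine Prod.ext (map_mul _ _ _) (Prod.ext (map_mul _ _ _) ?_)
    ext
    · exact map_mul _ _ _
    · exact map_mul _ _ _

theorem tre_Sig : TRE (SigW (a := a) (b := b) ha hb) (SigV ha hb) := ⟨1, one_ne_zero, fun u => by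
  rw [one_smul]
  refine Prod.ext ?_ (Prod.ext ?_ ?_)
  · exact (norm_sigE ha hb _).symm
  · show σ (-norm (u 1)) = -norm (sigE ha hb (u 1))
    rw [norm_sigE, map_neg]
  · show sigE ha hb (u 0 * star (u 1)) = sigE ha hb (u 0) * star (sigE ha hb (u 1))
    rw [map_mul, star_sigE]⟩

end nl

/-- `diag(s, 1)` -/
def dg (s : (EE F a b)ˣ) : (Fin 2 → EE F a b) ≃ₗ[EE F a b] (Fin 2 → EE F a b) where
  toFun u := ![s * u 0, u 1]
  invFun u := ![((s⁻¹ : (EE F a b)ˣ) : EE F a b) * u 0, u 1]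
  map_add' u v := by
    funext i
    (revert i; simp only [mul_add, _root_.Fin.forall_fin_succ, _root_.Nat.succ_eq_add_one, Nat.reduceAdd, Fin.isValue, _root_.Pi.add_apply, _root_.Matrix.cons_val_zero, _root_.Matrix.cons_val_succ, _root_.Matrix.cons_val_fin_one, _root_.implies_true, _root_.and_self])
  map_smul' r u := by
    funext i
    (revert i; simp only [_root_.Fin.forall_fin_succ, _root_.Nat.succ_eq_add_one, Nat.reduceAdd, Fin.isValue, _root_.Pi.smul_apply, _root_.smul_eq_mul, _root_.RingHom.id_apply, _root_.Matrix.cons_val_zero, _root_.Matrix.cons_val_succ, _root_.Matrix.cons_val_fin_one, _root_.implies_true, _root_.and_true, _root_.true_and]) <;> (repeat' with_reducible apply And.intro)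
    ring
  left_inv u := by
    funext i
    (revert i; simp only [_root_.Fin.forall_fin_succ, _root_.Nat.succ_eq_add_one, Nat.reduceAdd, _root_.Units.val_inv_eq_inv_val, Fin.isValue, _root_.Matrix.cons_val_zero, _root_.ne_eq, _root_.Units.ne_zero, _root_.not_false_eq_true, _root_.inv_mul_cancel_left₀, _root_.Matrix.cons_val_one, _root_.Matrix.cons_val_fin_one, _root_.Matrix.cons_val_succ, _root_.Fin.succ_zero_eq_one, _root_.IsEmpty.forall_iff, _root_.and_self])
  right_inv u := by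
    funext i
    (revert i; simp only [_root_.Fin.forall_fin_succ, _root_.Nat.succ_eq_add_one, Nat.reduceAdd, _root_.Units.val_inv_eq_inv_val, Fin.isValue, _root_.Matrix.cons_val_zero, _root_.ne_eq, _root_.Units.ne_zero, _root_.not_false_eq_true, _root_.mul_inv_cancel_left₀, _root_.Matrix.cons_val_one, _root_.Matrix.cons_val_fin_one, _root_.Matrix.cons_val_succ, _root_.Fin.succ_zero_eq_one, _root_.IsEmpty.forall_iff, _root_.and_self])

/-- the action of `diag(s, 1)` -/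
def dgW (s : (EE F a b)ˣ) : VV F a b ≃ₗ[F] VV F a b where
  toFun v := (norm (s : EE F a b) * v.1, v.2.1, s * v.2.2)
  invFun v := (norm ((s⁻¹ : (EE F a b)ˣ) : EE F a b) * v.1, v.2.1, ((s⁻¹ : (EE F a b)ˣ) : EE F a b) * v.2.2)
  map_add' u v := by simp only [mul_add, _root_.Prod.fst_add, _root_.Prod.snd_add, _root_.Prod.mk_add_mk]
  map_smul' r u := by
    refine Prod.ext ?_ (Prod.ext rfl ?_)
    · simp only [_root_.Prod.smul_fst, _root_.smul_eq_mul, _root_.RingHom.id_apply, _root_.Prod.smul_mk]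
      ring
    · simp only [_root_.Prod.smul_snd, _root_.Algebra.mul_smul_comm, _root_.RingHom.id_apply, _root_.Prod.smul_mk, _root_.smul_eq_mul]
  left_inv v := by
    refine Prod.ext ?_ (Prod.ext rfl ?_)
    · show _root_.QuadraticAlgebra.norm ((s⁻¹ : (EE F a b)ˣ) : EE F a b) * (norm (s : EE F a b) * v.1) = v.1
      rw [← mul_assoc, ← map_mul, Units.inv_mul, map_one, one_mul]
    · show ((s⁻¹ : (EE F a b)ˣ) : EE F a b) * (s * v.2.2) = v.2.2
      rw [← mul_assoc, Units.inv_mul, one_mul]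
  right_inv v := by
    refine Prod.ext ?_ (Prod.ext rfl ?_)
    · show norm (s : EE F a b) * (norm ((s⁻¹ : (EE F a b)ˣ) : EE F a b) * v.1) = v.1
      rw [← mul_assoc, ← map_mul, Units.mul_inv, map_one, one_mul]
    · show s * (((s⁻¹ : (EE F a b)ˣ) : EE F a b) * v.2.2) = v.2.2
      rw [← mul_assoc, Units.mul_inv, one_mul]

theorem tre_dg (s : (EE F a b)ˣ) : TRE (toA (dgW s)) (toA (dg s)) := ⟨1, one_ne_zero, fun u => by
  rw [one_smul]
  refine Prod.ext ?_ (Prod.ext ?_ ?_)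
  · show norm (s : EE F a b) * norm (u 0) = norm ((s : EE F a b) * u 0)
    rw [map_mul]
  · rfl
  · show s * (u 0 * star (u 1)) = s * u 0 * star (u 1)
    ring⟩

theorem tre_dg_inv (s : (EE F a b)ˣ) : TRE (toA (dgW s))⁻¹ (toA (dg s))⁻¹ := ⟨1, one_ne_zero, fun u => by
  rw [one_smul]
  refine Prod.ext ?_ (Prod.ext ?_ ?_)
  · show _root_.QuadraticAlgebra.norm ((s⁻¹ : (EE F a b)ˣ) : EE F a b) * norm (u 0) = _root_.QuadraticAlgebra.norm (((s⁻¹ : (EE F a b)ˣ) : EE F a b) * u 0)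
    rw [map_mul]
  · rfl
  · show ((s⁻¹ : (EE F a b)ˣ) : EE F a b) * (u 0 * star (u 1)) = ((s⁻¹ : (EE F a b)ˣ) : EE F a b) * u 0 * star (u 1)
    ring⟩

theorem q4_dgW (s : (EE F a b)ˣ) (v : VV F a b) : q4 F a b (dgW s v) = norm (s : EE F a b) * q4 F a b v := by
  rw [q4_apply, q4_apply]
  show norm (s : EE F a b) * v.1 * v.2.1 + norm ((s : EE F a b) * v.2.2) = _
  rw [map_mul]
  ring

open Cfsg.Agent.ClassicalGeometry.OrthSemi Cfsg.Agent.H966.Frob Cfsg.Agent.H208.Ext Cfsg.Agent.H208.Frame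

/-- **Nonlinear semisimilitudes.** -/
theorem frE_nl [Finite F] [FiniteDimensional F V] (hG : Good Q) {σ : F ≃+* F} (ha : σ a = a) (hb : σ b = b) {c : F}
    {M : Equiv.Perm V} (hM : IsSS Q σ c M) (hσ1 : σ ≠ 1) {l : ℕ} (hσ : orderOf σ = l) (hl : 0 < l)
    (hMl : M ^ l = 1) : FrE Q a b M := by
  have := H208.ConjSS.nontrivial_of_good hG
  have hab0 : ∀ z₁ z₂ : fix σ, z₁ ^ 2 + (⟨a, ha⟩ : fix σ) * z₁ * z₂ + (⟨b, hb⟩ : fix σ) * z₂ ^ 2 = 0 →
      z₁ = 0 ∧ z₂ = 0 := by
    intro z₁ z₂ h1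
    have h2 := aniso (a := a) (b := b) (z₁ : F) (z₂ : F) (by simpa only [_root_.Subfield.coe_add, _root_.SubmonoidClass.coe_pow, _root_.Subfield.coe_mul, _root_.ZeroMemClass.coe_zero] using congrArg Subtype.val h1)
    exact ⟨Subtype.ext h2.1, Subtype.ext h2.2⟩
  obtain ⟨j, e, he, hj, hjM⟩ := ONonlin.exists_frame_nl hG.nondeg hM hσ hl hMl (κ' := (Fin 1 ⊕ Fin 1) ⊕ Fin 2) (k := 2)
    (by simp) (by have := hG.dim; omega) (P₀ := minusForm 1 (fix σ) ⟨a, ha⟩ ⟨b, hb⟩) (by
      rw [← AutOrth.Main.minusForm_eq]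
      exact Cfsg.Agent.LieClassical.OrthForms.nondeg_minusForm 1 (fix σ) _ _ hab0)
    (P := minusForm 1 F a b) (fun x => by rw [coe_minusForm, coe_minusForm, coe_minus])
  obtain ⟨s, hs⟩ := Cfsg.Agent.LieClassical.OrthFourMinus.norm_surjective (F := F) (c := -b) (d := a) e⁻¹
  have hs0 : s ≠ 0 := by
    rintro rfl
    rw [QuadraticAlgebra.norm_zero] at hs
    exact inv_ne_zero he hs.symm
  let u : (EE F a b)ˣ := Units.mk0 s hs0
  refine ⟨j ∘ₗ (coord F (-b) a).symm.toLinearMap ∘ₗ (dgW u).toLinearMap,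
    (toA (dgW u))⁻¹ * SigW ha hb * toA (dgW u), _, _, (toA (dg u))⁻¹ * SigV ha hb * toA (dg u), ⟨fun v => ?_⟩,
    fun v => ?_, ((semi_toA (dgW u)).inv.mul (semi_SigW ha hb)).mul (semi_toA (dgW u)),
    ((semi_toA (dg u)).inv.mul (semi_SigV ha hb)).mul (semi_toA (dg u)),
    ((tre_dg_inv u).mul (semi_toA (dgW u)).inv (tre_Sig ha hb)).mul
      ((semi_toA (dgW u)).inv.mul (semi_SigW ha hb)) (tre_dg u), ?_⟩
  · rw [LinearMap.comp_apply, hj]
    have h1 : minusForm 1 F a b (((coord F (-b) a).symm.toLinearMap ∘ₗ (dgW u).toLinearMap) v) =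
        q4 F a b (dgW u v) := rfl
    rw [h1, q4_dgW, Units.val_mk0, hs, ← mul_assoc, mul_inv_cancel₀ he, one_mul]
  · rw [LinearMap.comp_apply, hjM]
    show j (frob ((Fin 1 ⊕ Fin 1) ⊕ Fin 2) σ ((coord F (-b) a).symm (dgW u v))) = j ((coord F (-b) a).symm (dgW u
      ((dgW u).symm (SigW ha hb (dgW u v)))))
    rw [LinearEquiv.apply_symm_apply]
    generalize dgW u v = w
    congr 1
    rw [LinearEquiv.eq_symm_apply]
    obtain ⟨w', rfl⟩ := (coord F (-b) a).surjective w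
    rw [LinearEquiv.symm_apply_apply]
    rfl
  · apply ONonlin.not_isScal_of_semi ?_ (((semi_toA (dg u)).inv.mul (semi_SigV ha hb)).mul (semi_toA (dg u)))
    rw [inv_one, one_mul, mul_one]
    exact sigE_ne_one ha hb hσ1

end Cfsg.Agent.H862.T5.OMinusFour
end

-- part: H862/T5/OMain
section
/-!
# The pair predicate for orthogonal groups in cross characteristic (T5)

`mpq_gam` : two semisimilitudes of order `p ≥ 5` modulo scalars satisfy `MPQ Q p`.
-/

set_option autoImplicit false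
set_option linter.unusedSectionVars false

namespace Cfsg.Agent.H862.T5.OMain

open QuadraticMap Module Cfsg.Agent.LieClassical.OrthCore Cfsg.Agent.LieClassical.OrthTrans
  Cfsg.Agent.ClassicalGeometry.OrthSemi Cfsg.Agent.ClassicalGeometry.OrthAut1
open Cfsg.Agent.LieClassical.QuadForms
open Cfsg.Agent.LieClassical.OrthSimple (good_isSimpleGroup)
open Cfsg.Agent.H208.ConjSS (exists_normal isSS_scal_mul Psi_scal nontrivial_of_good)
open Cfsg.Agent.H862.T5.OBase Cfsg.Agent.H862.T5.OFrame Cfsg.Agent.H862.T5.OLinFour Cfsg.Agent.H862.T5.OBlock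
  Cfsg.Agent.H862.T5.OFix Cfsg.Agent.H862.T5.OAA
open Cfsg.Agent.H957.T5V Cfsg.Agent.H957.T5M
open Cfsg.Agent.H208.Parity (ofO)
open Cfsg.Agent.H951
open Cfsg.Agent.H106.MT Cfsg.Agent.H106.MB
open Cfsg.Agent.H966.Frob Cfsg.Agent.H208.Ext Cfsg.Agent.H208.Frame

universe u

section gen

variable {F V U : Type*} [Field F] [AddCommGroup V] [Module F V] [AddCommGroup U] [Module F U]
  {Q : QuadraticForm F V} {q : QuadraticForm F U}

theorem MPQ.of_scl {p : ℕ} {σ τ : F ≃+* F} {c c' d d' : Equiv.Perm V} (hc : Semi σ c)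
    (hd : Semi τ d) (hcc : Scl F c' c) (hdd : Scl F d' d) (h : MPQ Q p c' d') : MPQ Q p c d := by
  obtain ⟨g, hg, i, j, h⟩ := h
  refine ⟨g, hg, i, j, fun k hk => h k ?_⟩
  have h1 : Scl F (toA g * d' * (toA g)⁻¹) (toA g * d * (toA g)⁻¹) :=
    Scl.mul ((semi_toA g).mul hd) (Scl.mul (semi_toA g) (Scl.refl _) hdd) (Scl.refl _)
  have h2 : Scl F (c' ^ i * (toA g * d' * (toA g)⁻¹) ^ j) (c ^ i * (toA g * d * (toA g)⁻¹) ^ j) :=
    Scl.mul (hc.pow i) (hcc.pow hc i) (h1.pow (hd.conj g) j)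
  exact ((h2.pow ((hc.pow i).mul ((hd.conj g).pow j)) _).isScal_iff).2 hk

theorem mpq_pair [Finite F] [FiniteDimensional F V] [FiniteDimensional F U] (hG : Good Q) (hq : Nondeg q)
    (h3 : 3 ≤ finrank F U) {j₁ j₂ : U →ₗ[F] V} (h₁ : Emb Q q j₁) (h₂ : Emb Q q j₂) {p : ℕ}
    {x y : Equiv.Perm V} {x' y' : Equiv.Perm U} (hx : Cov j₁ x x') (hy : Cov j₂ y y')
    (h : ∀ g ∈ O q, MPQ q p x' (toA g * y' * (toA g)⁻¹)) : MPQ Q p x y := by
  obtain ⟨T, hT, g, hg, hTj⟩ := exists_common' hG hq h₁ h₂ h3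
  refine MPQ.conj_right hT ?_
  have hy2 : Cov (T.toLinearMap ∘ₗ j₂) (toA T * y * (toA T)⁻¹) y' := hy.left T
  have hy3 : Cov j₁ (toA T * y * (toA T)⁻¹) (toA g * y' * (toA g)⁻¹) := hy2.right hTj
  exact mpq_lift h₁ hq hx hy3 (h g hg)

theorem psi_pow_eq_one {p : ℕ} (hG : Good Q) {X : Gam Q} (h : IsScal F (X.1 ^ p)) : Psi Q X ^ p = 1 := by
  obtain ⟨a, ha⟩ := h
  have hne : a ≠ 0 := by
    rintro rfl
    have := nontrivial_of_good hG
    obtain ⟨v, hv⟩ := exists_ne (0 : V)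
    apply hv
    apply (X.1 ^ p).injective
    rw [ha, ha, zero_smul, zero_smul]
  have h1 : X ^ p ∈ (Psi Q).ker := by
    rw [ker_Psi hG]
    refine ⟨Units.mk0 a hne, Subtype.ext ?_⟩
    ext1 v
    rw [SubmonoidClass.coe_pow, ha, scal_apply, Units.val_mk0]
  rw [← map_pow]
  exact h1

theorem psi_ne_one (hG : Good Q) {X : Gam Q} (h : ¬ IsScal F X.1) : Psi Q X ≠ 1 := by
  intro h1
  obtain ⟨a, rfl⟩ := exists_scal hG h1
  exact h ⟨a, fun v => rfl⟩

theorem exists_cov_lin [FiniteDimensional F V] {j : U →ₗ[F] V} (hj : Emb Q q j) (hq : Nondeg q)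
    {g : V ≃ₗ[F] V} (hg : g ∈ O Q) (hji : _root_.Cfsg.Agent.H951.Inv (en g) (LinearMap.range j)) (hjc : LinearMap.range j ≤ cm (en g))
    {p : ℕ} (hpF : (p : F) ≠ 0) (hgp : g ^ p = 1) [Nontrivial U] :
    ∃ g' ∈ O q, (∀ u, g (j u) = j (g' u)) ∧ g' ^ p = 1 ∧ g' ≠ 1 := by
  obtain ⟨g', hg', hgg'⟩ := exists_restrict hj hq hg hji (inv_of_inv hji)
  have hpow : ∀ (n : ℕ) (u : U), (g ^ n) (j u) = j ((g' ^ n) u) := by
    intro n
    induction n with
    | zero => intro u; rfl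
    | succ n ih => intro u; rw [pow_succ', LinearEquiv.mul_apply, ih, hgg', pow_succ', LinearEquiv.mul_apply]
  refine ⟨g', hg', hgg', ?_, ?_⟩
  · ext1 u
    apply hj.injective hq
    rw [← hpow, hgp]
    rfl
  · rintro rfl
    obtain ⟨u, hu⟩ := exists_ne (0 : U)
    have h0 : j u ≠ 0 := fun h => hu (hj.injective hq (by rw [h, map_zero]))
    exact ne_of_mem_cm hpF hgp (hjc ⟨u, rfl⟩) h0 (hgg' u)

end gen

section block

variable {F V : Type u} [Field F] [AddCommGroup V] [Module F V] {Q : QuadraticForm F V}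

theorem isScal_of_pow_one {U : Type*} [AddCommGroup U] [Module F U] {x : Equiv.Perm U} {p : ℕ} (h : x ^ p = 1) :
    IsScal F (x ^ p) := ⟨1, fun v => by rw [h, one_smul]; rfl⟩

theorem toA_pow_one {U : Type*} [AddCommGroup U] [Module F U] {g : U ≃ₗ[F] U} {p : ℕ} (h : g ^ p = 1) :
    (toA g) ^ p = 1 := by rw [← map_pow, h, map_one]

/-- the pair predicate in a space of the dimension of a block -/
theorem mpq_block {p : ℕ} (hAA : AAHyp.{u} p) [hp : Fact p.Prime] [Fintype F] [FiniteDimensional F V]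
    (hG : Good Q) {m : ℕ} (hm : 3 ≤ m) (hd : finrank F V = 2 * m) (hp2 : p ≠ 2) (hpF : (p : F) ≠ 0)
    (hc : 2 * m = if Even (orderOf (Fintype.card F : ZMod p)) then orderOf (Fintype.card F : ZMod p) else
      2 * orderOf (Fintype.card F : ZMod p)) {X Y : Gam Q} {μ : F} (hX : IsSS Q (RingEquiv.refl F) μ X.1)
    (hXp : Psi Q X ^ p = 1) (hX1 : Psi Q X ≠ 1) (hYp : Psi Q Y ^ p = 1) (hY1 : Psi Q Y ≠ 1) :
    MPQ Q p X.1 Y.1 := by
  apply mpq_of_mpair hG
  have hcyc := cyclic_sylow hG hp2 hpF hc hd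
  (have h_ob := Y.2
   revert h_ob; rintro (⟨σ, c, hY⟩))
  have hXo := orderOf_eq_prime hXp hX1
  have hYo := orderOf_eq_prime hYp hY1
  by_cases hσ : σ = 1
  · subst hσ
    exact mpair_lin_lin hAA hG hp2 hcyc hX hXo hY hYo
  · exact mpair_lin_nl hAA hG hm hd hp2 hcyc hX hXo hY hσ hYo

end block

section pairs

variable {F V : Type u} [Field F] [Fintype F] [AddCommGroup V] [Module F V] [FiniteDimensional F V]
  {Q : QuadraticForm F V} {κ : Type} [Fintype κ] [DecidableEq κ]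

theorem mpq_lin_lin {p : ℕ} (hAA : AAHyp.{u} p) [hp : Fact p.Prime] (hG : Good Q) (hp2 : p ≠ 2)
    (hpF : (p : F) ≠ 0) {m : ℕ} (hm : 3 ≤ m) (hκ : Fintype.card κ = 2 * m)
    (hc : 2 * m = if Even (orderOf (Fintype.card F : ZMod p)) then orderOf (Fintype.card F : ZMod p) else
      2 * orderOf (Fintype.card F : ZMod p)) {P' : QuadraticForm F (κ → F)} (hP : Good P')
    {g₁ g₂ : V ≃ₗ[F] V} (h₁ : g₁ ∈ O Q) (h₂ : g₂ ∈ O Q) (hg₁ : g₁ ^ p = 1) (hg₂ : g₂ ^ p = 1)
    {j₁ j₂ : (κ → F) →ₗ[F] V} (e₁ : Emb Q P' j₁) (e₂ : Emb Q P' j₂)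
    (i₁ : _root_.Cfsg.Agent.H951.Inv (en g₁) (LinearMap.range j₁)) (i₂ : _root_.Cfsg.Agent.H951.Inv (en g₂) (LinearMap.range j₂))
    (c₁ : LinearMap.range j₁ ≤ cm (en g₁)) (c₂ : LinearMap.range j₂ ≤ cm (en g₂)) :
    MPQ Q p (toA g₁) (toA g₂) := by
  have hfr : finrank F (κ → F) = 2 * m := by rw [Module.finrank_fintype_fun_eq_card, hκ]
  have := nontrivial_of_good hP
  obtain ⟨g₁', hg₁', hj₁, hp₁, hn₁⟩ := exists_cov_lin e₁ hP.nondeg h₁ i₁ c₁ hpF hg₁
  obtain ⟨g₂', hg₂', hj₂, hp₂, hn₂⟩ := exists_cov_lin e₂ hP.nondeg h₂ i₂ c₂ hpF hg₂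
  have hodd := hp.out.odd_of_ne_two hp2
  refine mpq_pair hG hP.nondeg (by rw [hfr]; omega) e₁ e₂ (cov_toA hj₁) (cov_toA hj₂) fun g hg => ?_
  have hk : g * g₂' * g⁻¹ ∈ O P' := (O P').mul_mem ((O P').mul_mem hg hg₂') ((O P').inv_mem hg)
  have hkp : (g * g₂' * g⁻¹) ^ p = 1 := by rw [conj_pow, hp₂, mul_one, mul_inv_cancel]
  have hk1 : g * g₂' * g⁻¹ ≠ 1 := by
    intro h
    apply hn₂
    have h2 : g * g₂' = g := mul_inv_eq_one.1 h
    exact mul_eq_left.1 h2
  have hp' : ∀ {f : (κ → F) ≃ₗ[F] (κ → F)} (hf : f ∈ O P'), f ^ p = 1 → Psi P' (ofO f hf) ^ p = 1 := by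
    intro f hf hfp
    apply psi_pow_eq_one hP
    have h1 : (ofO f hf).1 = toA f := rfl
    rw [h1]
    exact isScal_of_pow_one (toA_pow_one hfp)
  exact mpq_block hAA hP hm hfr hp2 hpF hc (X := ofO g₁' hg₁') (Y := ofO _ hk) (isSS_ofO _) (hp' _ hp₁)
    (fun h => hn₁ (eq_one_of_Psi hP hodd hg₁' hp₁ h)) (hp' _ hkp) (fun h => hk1 (eq_one_of_Psi hP hodd hk hkp h))

theorem nondeg_smul {P' : QuadraticForm F (κ → F)} (hP : Nondeg P') {e : F} (he : e ≠ 0) : Nondeg (e • P') := by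
  intro x hx
  apply hP
  intro y
  have h := hx y
  have h1 : polar (⇑(e • P')) x y = e * polar P' x y := by
    rw [FunLike.coe_smul, polar_smul]
    rfl
  rw [h1] at h
  exact (mul_eq_zero.1 h).resolve_left he

theorem mpq_lin_nl {p : ℕ} (hAA : AAHyp.{u} p) [hp : Fact p.Prime] (hG : Good Q) (hp2 : p ≠ 2)
    (hpF : (p : F) ≠ 0) {m : ℕ} (hm : 3 ≤ m) (hκ : Fintype.card κ = 2 * m)
    (hc : 2 * m = if Even (orderOf (Fintype.card F : ZMod p)) then orderOf (Fintype.card F : ZMod p) else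
      2 * orderOf (Fintype.card F : ZMod p)) {P' : QuadraticForm F (κ → F)} (hP : Good P')
    {g₁ : V ≃ₗ[F] V} (h₁ : g₁ ∈ O Q) (hg₁ : g₁ ^ p = 1)
    {j₁ : (κ → F) →ₗ[F] V} (e₁ : Emb Q P' j₁)
    (i₁ : _root_.Cfsg.Agent.H951.Inv (en g₁) (LinearMap.range j₁)) (c₁ : LinearMap.range j₁ ≤ cm (en g₁))
    {σ : F ≃+* F} (hσ1 : σ ≠ 1) (hσP : ∀ v, P' (frob κ σ v) = σ (P' v))
    {M : Equiv.Perm V} (hMp : M ^ p = 1)
    {j₂ : (κ → F) →ₗ[F] V} {e : F} (he : e ≠ 0) (hj₂ : ∀ x, Q (j₂ x) = e * P' x)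
    (hM : ∀ x, M (j₂ x) = j₂ (frob κ σ x))
    {ψ : (κ → F) ≃ₗ[F] (κ → F)} (hψ : ∀ x, P' (ψ x) = e * P' x) :
    MPQ Q p (toA g₁) M := by
  have hfr : finrank F (κ → F) = 2 * m := by rw [Module.finrank_fintype_fun_eq_card, hκ]
  have hnd : Nondeg (e • P') := nondeg_smul hP.nondeg he
  have hGq : Good (e • P') := Cfsg.Agent.LieClassical.OrthFinite.good_of_finite hnd (by rw [hfr]; omega)
  have := nontrivial_of_good hGq
  have e₁' : Emb Q (e • P') (j₁ ∘ₗ ψ.toLinearMap) := ⟨fun u => by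
    rw [LinearMap.comp_apply, e₁.form]
    exact hψ u⟩
  have hr : LinearMap.range (j₁ ∘ₗ ψ.toLinearMap) = LinearMap.range j₁ := by
    rw [LinearMap.range_comp, LinearEquiv.range, Submodule.map_top]
  have e₂' : Emb Q (e • P') j₂ := ⟨fun u => hj₂ u⟩
  obtain ⟨g₁', hg₁', hj₁, hp₁, hn₁⟩ := exists_cov_lin e₁' hnd h₁ (by rw [hr]; exact i₁) (by rw [hr]; exact c₁) hpF hg₁
  have hodd := hp.out.odd_of_ne_two hp2
  refine mpq_pair hG hnd (by rw [hfr]; omega) e₁' e₂' (cov_toA hj₁) (y' := frob κ σ) hM fun g hg => ?_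
  have hfrob : IsSS (e • P') σ (e * (σ e)⁻¹) (frob κ σ) := by
    refine ⟨mul_ne_zero he (inv_ne_zero (by simpa using he)), fun u v => ?_, fun a v => ?_, fun v => ?_⟩
    · funext i
      exact _root_.RingEquiv.map_add σ _ _
    · funext i
      exact map_mul σ _ _
    · have hσe : σ e ≠ 0 := by simpa using he
      show e * P' (frob κ σ v) = e * (σ e)⁻¹ * σ (e * P' v)
      rw [hσP, map_mul]
      field_simp
  have hfp : (frob κ σ) ^ p = 1 := by
    ext1 u
    apply e₂'.injective hnd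
    have h1 := Cov.pow (x := M) (x' := frob κ σ) (j := j₂) hM p u
    rw [hMp] at h1
    exact h1.symm
  let Y₀ : Gam (e • P') := ⟨frob κ σ, σ, _, hfrob⟩
  let Y : Gam (e • P') := ofO g hg * Y₀ * (ofO g hg)⁻¹
  have hY1 : Y.1 = toA g * frob κ σ * (toA g)⁻¹ := rfl
  have hYp : Psi _ Y ^ p = 1 := by
    apply psi_pow_eq_one hGq
    rw [hY1, conj_pow, hfp, mul_one, mul_inv_cancel]
    exact ⟨1, fun v => by rw [one_smul]; rfl⟩
  have hYn : Psi _ Y ≠ 1 := by
    intro h
    have h2 : Psi _ Y₀ = 1 := by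
      have h3 : Psi _ Y = Psi _ (ofO g hg) * Psi _ Y₀ * (Psi _ (ofO g hg))⁻¹ := by
        (simp only [← map_inv]; (conv => enter [@3, @5]; rw [← _root_.MonoidHom.map_mul]); simp only [← map_mul]; with_reducible rfl)
      simp only [h3, mul_inv_eq_one] at h
      exact mul_eq_left.1 h
    refine psi_ne_one hGq (X := Y₀) ?_ h2
    exact ONonlin.not_isScal_of_semi hσ1 ⟨hfrob.add, hfrob.smul⟩
  have hX : Psi _ (ofO g₁' hg₁') ^ p = 1 := by
    apply psi_pow_eq_one hGq
    have h1 : (ofO g₁' hg₁').1 = toA g₁' := rfl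
    rw [h1]
    exact isScal_of_pow_one (toA_pow_one hp₁)
  exact mpq_block hAA hGq hm hfr hp2 hpF hc (X := ofO g₁' hg₁') (Y := Y) (isSS_ofO _) hX
    (fun h => hn₁ (eq_one_of_Psi hGq hodd hg₁' hp₁ h)) hYp hYn

end pairs

theorem exists_aniso (F : Type*) [Field F] [Finite F] :
    ∃ a b : F, ∀ z₁ z₂ : F, z₁ ^ 2 + a * z₁ * z₂ + b * z₂ ^ 2 = 0 → z₁ = 0 ∧ z₂ = 0 := by
  obtain ⟨c, hc⟩ : ∃ c : F, ∀ t : F, t ^ 2 + t ≠ c := by
    by_contra hno
    push Not at hno
    have hs : Function.Surjective (fun t : F => t ^ 2 + t) := hno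
    have hi := Finite.injective_iff_surjective.2 hs
    have h1 : (-1 : F) = 0 := hi (by ring)
    exact one_ne_zero (neg_eq_zero.1 h1)
  refine ⟨1, -c, fun z₁ z₂ h => ?_⟩
  by_cases hz : z₂ = 0
  · subst hz
    refine ⟨?_, rfl⟩
    have : z₁ ^ 2 = 0 := by linear_combination h
    exact (pow_eq_zero_iff two_ne_zero).1 this
  · exfalso
    apply hc (z₁ / z₂)
    field_simp
    linear_combination h

section main

variable {F V : Type u} [Field F] [Fintype F] [AddCommGroup V] [Module F V] [FiniteDimensional F V]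
  {Q : QuadraticForm F V}

/-- normalised linear -/
def NLin (Q : QuadraticForm F V) (p : ℕ) (g : V ≃ₗ[F] V) : Prop := g ∈ O Q ∧ g ^ p = 1 ∧ g ≠ 1

/-- normalised nonlinear -/
def NNl (Q : QuadraticForm F V) (p : ℕ) (σ : F ≃+* F) (M : Equiv.Perm V) : Prop :=
  (∃ c, IsSS Q σ c M) ∧ σ ≠ 1 ∧ orderOf σ = p ∧ M ^ p = 1

theorem NNl.fr4 {p : ℕ} (hp : p.Prime) (hG : Good Q) {σ : F ≃+* F} {M : Equiv.Perm V} (h : NNl Q p σ M) :
    OPlusFour.Fr4 Q M := by
  obtain ⟨⟨c, hc⟩, h1, h2, h3⟩ := h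
  exact ONonlin.fr4_nl hG hc h1 h2 hp.pos h3

theorem NLin.isScal {p : ℕ} {g : V ≃ₗ[F] V} (h : NLin Q p g) : IsScal F (toA g ^ p) :=
  isScal_of_pow_one (toA_pow_one h.2.1)

theorem NNl.isScal {p : ℕ} {σ : F ≃+* F} {M : Equiv.Perm V} (h : NNl Q p σ M) : IsScal F (M ^ p) :=
  isScal_of_pow_one h.2.2.2

theorem aniso_fix {σ : F ≃+* F} {p : ℕ} (ho : orderOf σ = p) (hp : Odd p) {a b : fix σ}
    (h : ∀ z₁ z₂ : fix σ, z₁ ^ 2 + a * z₁ * z₂ + b * z₂ ^ 2 = 0 → z₁ = 0 ∧ z₂ = 0) (z₁ z₂ : F)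
    (hz : z₁ ^ 2 + (a : F) * z₁ * z₂ + (b : F) * z₂ ^ 2 = 0) : z₁ = 0 ∧ z₂ = 0 := by
  refine H885.FC.Orth.aniso_of_fix ho hp a.2 b.2 (fun w₁ w₂ h1 h2 h3 => ?_) z₁ z₂ hz
  have h4 := h ⟨w₁, h1⟩ ⟨w₂, h2⟩ (Subtype.ext (by push_cast; exact h3))
  exact ⟨congrArg Subtype.val h4.1, congrArg Subtype.val h4.2⟩

/-- `ord_p(q) ≤ 2` -/
theorem mpq_small {p : ℕ} [hp : Fact p.Prime] (hG : Good Q) (h7 : 7 ≤ finrank F V) (hp5 : 5 ≤ p) (hpF : (p : F) ≠ 0)
    {x y : Equiv.Perm V} (hx : OPlusFour.Fr4 Q x) (hy : OPlusFour.Fr4 Q y)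
    (hxp : IsScal F (x ^ p)) (hyp : IsScal F (y ^ p)) : MPQ Q p x y :=
  OPlusFour.mpq_of_fr4 hG h7 hp.out hp5 hpF hx hy hxp hyp

/-- a linear isometry, `ord_p(q) = 4` -/
theorem frE_lin {p : ℕ} [hp : Fact p.Prime] (hG : Good Q) (hp5 : 5 ≤ p) (hpF : (p : F) ≠ 0)
    (h4 : orderOf (Fintype.card F : ZMod p) = 4) {g : V ≃ₗ[F] V} (hg : NLin Q p g) {a b : F}
    [hab : Fact (∀ r : F, r ^ 2 ≠ -b + a * r)] : OMinusFour.FrE Q a b (toA g) := by
  obtain ⟨j, hj, hji, hjc⟩ := exists_minus_block hG.nondeg hg.1 (by omega) hpF hg.2.1 hg.2.2 (m := 2)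
    (by rw [h4]) (a := a) (b := b) OMinusFour.aniso
  have h1 : Emb Q (OMinusFour.q4 F a b) (j ∘ₗ (Cfsg.Agent.LieClassical.OrthFourMinus.coord F (-b) a).symm.toLinearMap) :=
    ⟨fun u => by
      rw [LinearMap.comp_apply, hj.form, AutOrth.Main.minusForm_eq]
      rfl⟩
  have hr : LinearMap.range (j ∘ₗ (Cfsg.Agent.LieClassical.OrthFourMinus.coord F (-b) a).symm.toLinearMap) =
      LinearMap.range j := by
    rw [LinearMap.range_comp, LinearEquiv.range, Submodule.map_top]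
  obtain ⟨g', hg', hgg', hgp, hg1⟩ := exists_cov_lin h1 OMinusFour.nondeg_q4 hg.1 (by rw [hr]; exact hji)
    (by rw [hr]; exact hjc) hpF hg.2.1
  exact OMinusFour.frE_of_isom h1 hg' hgg' (hp.out.odd_of_ne_two (by omega)) hgp hg1

theorem NLin.fr4 {p : ℕ} [hp : Fact p.Prime] (hG : Good Q) (hp2 : p ≠ 2) (hpF : (p : F) ≠ 0)
    (he : orderOf (Fintype.card F : ZMod p) = 1 ∨ orderOf (Fintype.card F : ZMod p) = 2) {g : V ≃ₗ[F] V}
    (hg : NLin Q p g) : OPlusFour.Fr4 Q (toA g) := fr4_lin hG hg.1 hp2 hpF hg.2.1 hg.2.2 he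

theorem plusForm_frob {σ : F ≃+* F} (k : ℕ) (v : Fin k ⊕ Fin k → F) :
    plusForm k F (frob _ σ v) = σ (plusForm k F v) := by
  rw [coe_plusForm]
  unfold Cfsg.quadFormPlus
  simp only [map_sum, map_mul, frob_apply]

theorem minusForm_frob {σ : F ≃+* F} (k : ℕ) {a b : F} (ha : σ a = a) (hb : σ b = b)
    (v : (Fin k ⊕ Fin k) ⊕ Fin 2 → F) : minusForm k F a b (frob _ σ v) = σ (minusForm k F a b v) := by
  rw [coe_minusForm]
  unfold Cfsg.quadFormMinus
  simp only [_root_.RingEquiv.map_add, _root_.RingEquiv.map_sum, _root_.RingEquiv.map_mul, _root_.RingEquiv.map_pow, frob_apply, ha, hb]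

theorem mpq_ll {p : ℕ} (hAA : AAHyp.{u} p) [hp : Fact p.Prime] (hG : Good Q) (h7 : 7 ≤ finrank F V)
    (hp5 : 5 ≤ p) (hpF : (p : F) ≠ 0) {g₁ g₂ : V ≃ₗ[F] V} (h₁ : NLin Q p g₁) (h₂ : NLin Q p g₂) :
    MPQ Q p (toA g₁) (toA g₂) := by
  obtain ⟨e, he⟩ : ∃ e, e = orderOf (Fintype.card F : ZMod p) := ⟨_, rfl⟩
  have he0 : 0 < e := by rw [he]; exact ord_pos hpF
  by_cases h12 : e = 1 ∨ e = 2
  · rw [he] at h12
    exact mpq_small hG h7 hp5 hpF (h₁.fr4 hG (by omega) hpF h12) (h₂.fr4 hG (by omega) hpF h12) h₁.isScal h₂.isScal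
  by_cases h4 : e = 4
  · rw [he] at h4
    obtain ⟨a, b, hab⟩ := exists_aniso F
    have := OMinusFour.fact_of_aniso hab
    exact OMinusFour.mpq_of_frE (a := a) (b := b) hG h7 hp.out hp5 hpF (frE_lin hG hp5 hpF h4 h₁)
      (frE_lin hG hp5 hpF h4 h₂) h₁.isScal h₂.isScal
  rcases Nat.even_or_odd e with hev | hodd
  · obtain ⟨m, hm⟩ := hev
    obtain ⟨a, b, hab⟩ := exists_aniso F
    obtain ⟨j₁, e₁, i₁, c₁⟩ := exists_minus_block hG.nondeg h₁.1 (by omega) hpF h₁.2.1 h₁.2.2 (m := m)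
      (by omega) (a := a) (b := b) hab
    obtain ⟨j₂, e₂, i₂, c₂⟩ := exists_minus_block hG.nondeg h₂.1 (by omega) hpF h₂.2.1 h₂.2.2 (m := m)
      (by omega) (a := a) (b := b) hab
    rw [AutOrth.Main.minusForm_eq] at e₁ e₂
    refine mpq_lin_lin hAA hG (by omega) hpF (m := m) (by omega) ?_ ?_ (AutOrth.Main.good_minus (by omega) hab)
      h₁.1 h₂.1 h₁.2.1 h₂.2.1 e₁ e₂ i₁ i₂ c₁ c₂
    · simp only [Fintype.card_sum, Fintype.card_fin]
      omega
    · rw [← he, if_pos ⟨m, hm⟩]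
      omega
  · obtain ⟨j₁, e₁, i₁, c₁⟩ := exists_plus_block hG.nondeg h₁.1 (by omega) hpF h₁.2.1 h₁.2.2 he.symm hodd
    obtain ⟨j₂, e₂, i₂, c₂⟩ := exists_plus_block hG.nondeg h₂.1 (by omega) hpF h₂.2.1 h₂.2.2 he.symm hodd
    rw [AutOrth.Main.plusForm_eq] at e₁ e₂
    have he3 : 3 ≤ e := by
      obtain ⟨k, hk⟩ := hodd
      omega
    refine mpq_lin_lin hAA hG (by omega) hpF (m := e) he3 ?_ ?_ (AutOrth.Main.good_plus he3)
      h₁.1 h₂.1 h₁.2.1 h₂.2.1 e₁ e₂ i₁ i₂ c₁ c₂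
    · simp only [Fintype.card_sum, Fintype.card_fin]
      omega
    · rw [← he, if_neg (Nat.not_even_iff_odd.2 hodd)]

theorem mpq_ln {p : ℕ} (hAA : AAHyp.{u} p) [hp : Fact p.Prime] (hG : Good Q) (h7 : 7 ≤ finrank F V)
    (hp5 : 5 ≤ p) (hpF : (p : F) ≠ 0) {g₁ : V ≃ₗ[F] V} (h₁ : NLin Q p g₁) {σ : F ≃+* F} {M : Equiv.Perm V}
    (hM : NNl Q p σ M) : MPQ Q p (toA g₁) M := by
  have hpodd := hp.out.odd_of_ne_two (by omega : p ≠ 2)
  obtain ⟨e, he⟩ : ∃ e, e = orderOf (Fintype.card F : ZMod p) := ⟨_, rfl⟩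
  have he0 : 0 < e := by rw [he]; exact ord_pos hpF
  by_cases h12 : e = 1 ∨ e = 2
  · rw [he] at h12
    exact mpq_small hG h7 hp5 hpF (h₁.fr4 hG (by omega) hpF h12) (hM.fr4 hp.out hG) h₁.isScal hM.isScal
  obtain ⟨⟨c, hc⟩, hσ1, hσp, hMp⟩ := id hM
  have := nontrivial_of_good hG
  have := Fintype.ofFinite (fix σ)
  obtain ⟨a, b, hab⟩ := exists_aniso (fix σ)
  have habF : ∀ z₁ z₂ : F, z₁ ^ 2 + (a : F) * z₁ * z₂ + (b : F) * z₂ ^ 2 = 0 → z₁ = 0 ∧ z₂ = 0 :=
    aniso_fix hσp hpodd hab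
  by_cases h4 : e = 4
  · rw [he] at h4
    have := OMinusFour.fact_of_aniso habF
    exact OMinusFour.mpq_of_frE (a := (a : F)) (b := (b : F)) hG h7 hp.out hp5 hpF (frE_lin hG hp5 hpF h4 h₁)
      (OMinusFour.frE_nl hG a.2 b.2 hc hσ1 hσp hp.out.pos hMp) h₁.isScal hM.isScal
  -- the whole space is one block
  have hwhole : ∀ m : ℕ, 3 ≤ m → (2 * m = if Even (orderOf (Fintype.card F : ZMod p)) then
      orderOf (Fintype.card F : ZMod p) else 2 * orderOf (Fintype.card F : ZMod p)) → finrank F V = 2 * m →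
      MPQ Q p (toA g₁) M := by
    intro m hm hcm hd
    refine mpq_block hAA hG hm hd (by omega) hpF hcm (X := ofO g₁ h₁.1) (Y := ⟨M, σ, c, hc⟩) (isSS_ofO _)
      (psi_pow_eq_one hG h₁.isScal) (fun h => h₁.2.2 (eq_one_of_Psi hG hpodd h₁.1 h₁.2.1 h))
      (psi_pow_eq_one hG hM.isScal) (psi_ne_one hG ?_)
    exact ONonlin.not_isScal_of_semi hσ1 ⟨hc.add, hc.smul⟩
  rcases Nat.even_or_odd e with hev | hodd
  · obtain ⟨m, hm⟩ := hev
    obtain ⟨j₁, e₁, i₁, c₁⟩ := exists_minus_block hG.nondeg h₁.1 (by omega) hpF h₁.2.1 h₁.2.2 (m := m)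
      (by omega) (a := (a : F)) (b := (b : F)) habF
    rw [AutOrth.Main.minusForm_eq] at e₁
    have hGm : Good (minusForm (m - 1) F (a : F) b) := AutOrth.Main.good_minus (by omega) habF
    have hκ : Fintype.card ((Fin (m - 1) ⊕ Fin (m - 1)) ⊕ Fin 2) = 2 * m := by
      simp only [Fintype.card_sum, Fintype.card_fin]
      omega
    have hcm : 2 * m = if Even (orderOf (Fintype.card F : ZMod p)) then orderOf (Fintype.card F : ZMod p) else
        2 * orderOf (Fintype.card F : ZMod p) := by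
      rw [← he, if_pos ⟨m, hm⟩]
      omega
    have hle : 2 * m ≤ finrank F V := by
      rw [← hκ, ← Module.finrank_fintype_fun_eq_card F]
      exact LinearMap.finrank_le_finrank_of_injective (e₁.injective hGm.nondeg)
    rcases hle.eq_or_lt with hEq | hlt
    · exact hwhole m (by omega) hcm hEq.symm
    obtain ⟨j₂, s, hs, hj₂, hMj⟩ := ONonlin.exists_frame_nl hG.nondeg hc hσp hp.out.pos hMp hκ hlt
      (P₀ := minusForm (m - 1) (fix σ) a b) (by
        rw [← AutOrth.Main.minusForm_eq]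
        exact Cfsg.Agent.LieClassical.OrthForms.nondeg_minusForm _ (fix σ) _ _ hab)
      (P := minusForm (m - 1) F a b) (fun x => by rw [coe_minusForm, coe_minusForm, coe_minus])
    obtain ⟨ψ, hψ⟩ := H193.QuadEmb.minus_iso (F := F) (m - 1) habF habF hs
    exact mpq_lin_nl hAA hG (by omega) hpF (m := m) (by omega) hκ hcm hGm h₁.1 h₁.2.1 e₁ i₁ c₁ hσ1
      (minusForm_frob _ a.2 b.2) hMp hs hj₂ hMj (ψ := ψ) (fun x => by rw [coe_minusForm]; exact hψ x)
  · obtain ⟨j₁, e₁, i₁, c₁⟩ := exists_plus_block hG.nondeg h₁.1 (by omega) hpF h₁.2.1 h₁.2.2 he.symm hodd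
    rw [AutOrth.Main.plusForm_eq] at e₁
    have he3 : 3 ≤ e := by
      obtain ⟨k, hk⟩ := hodd
      omega
    have hGm : Good (plusForm e F) := AutOrth.Main.good_plus he3
    have hκ : Fintype.card (Fin e ⊕ Fin e) = 2 * e := by
      simp only [Fintype.card_sum, Fintype.card_fin]
      omega
    have hcm : 2 * e = if Even (orderOf (Fintype.card F : ZMod p)) then orderOf (Fintype.card F : ZMod p) else
        2 * orderOf (Fintype.card F : ZMod p) := by
      rw [← he, if_neg (Nat.not_even_iff_odd.2 hodd)]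
    have hle : 2 * e ≤ finrank F V := by
      rw [← hκ, ← Module.finrank_fintype_fun_eq_card F]
      exact LinearMap.finrank_le_finrank_of_injective (e₁.injective hGm.nondeg)
    rcases hle.eq_or_lt with hEq | hlt
    · exact hwhole e he3 hcm hEq.symm
    obtain ⟨j₂, s, hs, hj₂, hMj⟩ := ONonlin.exists_frame_nl hG.nondeg hc hσp hp.out.pos hMp hκ hlt
      (P₀ := plusForm e (fix σ)) (polar_plusForm_nondeg e)
      (P := plusForm e F) (fun x => by rw [coe_plusForm, coe_plusForm, coe_plus])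
    obtain ⟨ψ, hψ⟩ := H193.QuadEmb.plus_iso (F := F) e hs
    exact mpq_lin_nl hAA hG (by omega) hpF (m := e) he3 hκ hcm hGm h₁.1 h₁.2.1 e₁ i₁ c₁ hσ1
      (plusForm_frob _) hMp hs hj₂ hMj (ψ := ψ) (fun x => by rw [coe_plusForm]; exact hψ x)

end main

end Cfsg.Agent.H862.T5.OMain
end

-- part: H862/T5/ORow
section
/-!
# The middle rows of the orthogonal groups in cross characteristic (T5)

`pomegaOdd_mrow`, `pomegaPlus_mrow`, `pomegaMinus_mrow`.
-/

set_option autoImplicit false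
set_option linter.unusedSectionVars false

namespace Cfsg.Agent.H862.T5.ORow

open QuadraticMap Module Cfsg.Agent.LieClassical.OrthCore Cfsg.Agent.LieClassical.OrthTrans
  Cfsg.Agent.ClassicalGeometry.OrthSemi Cfsg.Agent.ClassicalGeometry.OrthAut1
open Cfsg.Agent.LieClassical.QuadForms
open Cfsg.Agent.H208.ConjSS (exists_normal isSS_scal_mul Psi_scal nontrivial_of_good)
open Cfsg.Agent.H862.T5.OBase Cfsg.Agent.H862.T5.OFrame Cfsg.Agent.H862.T5.OMain
open Cfsg.Agent.H957.T5V Cfsg.Agent.H957.T5M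
open Cfsg.Agent.H208.Parity (ofO)
open Cfsg.Agent.H106.MT Cfsg.Agent.H106.MB

universe u

section

variable {F V : Type u} [Field F] [Fintype F] [AddCommGroup V] [Module F V] [FiniteDimensional F V]
  {Q : QuadraticForm F V}

/-- normalisation of a semisimilitude -/
theorem exists_norm {p : ℕ} (hp : p.Prime) (hp2 : p ≠ 2) (hG : Good Q) (X : Gam Q) (hXp : IsScal F (X.1 ^ p))
    (hXn : ¬ IsScal F X.1) : (∃ g, NLin Q p g ∧ Scl F (toA g) X.1) ∨ ∃ σ M, NNl Q p σ M ∧ Scl F M X.1 := by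
  obtain ⟨σ, c, hX⟩ := X.2
  have hpsi := psi_pow_eq_one hG hXp
  by_cases hσ : σ = 1
  · subst hσ
    left
    obtain ⟨g, hg, hgp, h⟩ := exists_isom hG (hp.odd_of_ne_two hp2) hX hpsi
    obtain ⟨a, ha⟩ := exists_scal hG (M := ofO g hg * X⁻¹) (by simp only [map_mul, map_inv, h, mul_inv_cancel])
    have hs : Scl F (toA g) X.1 := by
      refine ⟨a, a.ne_zero, fun v => ?_⟩
      have h1 : (ofO g hg * X⁻¹).1 (X.1 v) = (scal Q a).1 (X.1 v) := by rw [ha]
      have h2 : (ofO g hg * X⁻¹).1 (X.1 v) = toA g (X.1⁻¹ (X.1 v)) := rfl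
      have h3 : X.1⁻¹ (X.1 v) = v := X.1.symm_apply_apply v
      rw [h2, h3] at h1
      exact h1
    refine ⟨g, ⟨hg, hgp, ?_⟩, hs⟩
    rintro rfl
    apply hXn
    rw [← hs.isScal_iff]
    exact ⟨1, fun v => by rw [one_smul]; rfl⟩
  · right
    have := nontrivial_of_good hG
    obtain ⟨hoσ, a, ha⟩ := exists_normal hG hX hσ hp hpsi
    obtain ⟨c', hc'⟩ := isSS_scal_mul hX a
    exact ⟨σ, (scal Q a * X).1, ⟨⟨c', hc'⟩, hσ, hoσ, ha⟩, ⟨a, a.ne_zero, fun v => rfl⟩⟩

/-- **The pair predicate for semisimilitudes.** -/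
theorem mpq_gam {p : ℕ} (hAA : AAHyp.{u} p) [hp : Fact p.Prime] (hG : Good Q) (h7 : 7 ≤ finrank F V)
    (hp5 : 5 ≤ p) (hpF : (p : F) ≠ 0) (X Y : Gam Q) (hXp : IsScal F (X.1 ^ p)) (hXn : ¬ IsScal F X.1)
    (hYp : IsScal F (Y.1 ^ p)) (hYn : ¬ IsScal F Y.1) : MPQ Q p X.1 Y.1 := by
  obtain ⟨σ, c, hX⟩ := id X.2
  obtain ⟨τ, d, hY⟩ := id Y.2
  have hXs : Semi σ X.1 := ⟨hX.add, hX.smul⟩
  have hYs : Semi τ Y.1 := ⟨hY.add, hY.smul⟩
  rcases exists_norm hp.out (by omega) hG X hXp hXn with ⟨g₁, h₁, s₁⟩ | ⟨σ₁, M₁, h₁, s₁⟩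
  · rcases exists_norm hp.out (by omega) hG Y hYp hYn with ⟨g₂, h₂, s₂⟩ | ⟨σ₂, M₂, h₂, s₂⟩
    · exact MPQ.of_scl hXs hYs s₁ s₂ (mpq_ll hAA hG h7 hp5 hpF h₁ h₂)
    · exact MPQ.of_scl hXs hYs s₁ s₂ (mpq_ln hAA hG h7 hp5 hpF h₁ h₂)
  · rcases exists_norm hp.out (by omega) hG Y hYp hYn with ⟨g₂, h₂, s₂⟩ | ⟨σ₂, M₂, h₂, s₂⟩
    · exact MPQ.of_scl hXs hYs s₁ s₂ (MPQ.symm (semi_toA g₂) (mpq_ln hAA hG h7 hp5 hpF h₂ h₁))
    · exact MPQ.of_scl hXs hYs s₁ s₂ (mpq_small hG h7 hp5 hpF (h₁.fr4 hp.out hG) (h₂.fr4 hp.out hG) h₁.isScal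
        h₂.isScal)

end

/-- the row for a good form -/
theorem mrow_good {ι F : Type} [Fintype ι] [DecidableEq ι] [Nonempty ι] [Field F] [Fintype F]
    {Q : QuadraticForm F (ι → F)} (hG : Good Q) (h7 : 7 ≤ Fintype.card ι) {p : ℕ} (hAA : AAHyp.{0} p)
    (hp : p.Prime) (hp5 : 5 ≤ p) (hpF : (p : F) ≠ 0)
    (hind : ∀ c : MulAut (Cfsg.POmega F ⇑Q), orderOf c = p → ∃ y, H903.SylSemi.SemiO F ⇑Q y ∧
      H903.SylSemi.Ind (H152.MeetOmega.proj ⇑Q) (H152.MeetOmega.rho ⇑Q) y c) : MRow p (Cfsg.POmega F ⇑Q) := by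
  have := Fact.mk hp
  refine mrow_of_mpq hG hp hind fun y z hy hz hyp hyn hzp hzn => ?_
  exact mpq_gam hAA hG (by rwa [Module.finrank_fintype_fun_eq_card]) hp5 hpF ⟨y, H152.MeetOmega.mem_gam_iff.2 hy⟩
    ⟨z, H152.MeetOmega.mem_gam_iff.2 hz⟩ hyp hyn hzp hzn

/-- nonzero in the field -/
theorem cast_ne {F : Type} [Field F] {p : ℕ} (hp : p.Prime) (h : ¬ Nonempty (CharP F p)) : (p : F) ≠ 0 := by
  intro h0
  apply h
  obtain ⟨r, hr⟩ := CharP.exists F
  have h1 : r ∣ p := (CharP.cast_eq_zero_iff F r p).1 h0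
  have h2 : r = p := by
    rcases (Nat.dvd_prime hp).1 h1 with h3 | h3
    · subst h3
      exact absurd rfl (CharP.ringChar_ne_one.symm.trans_eq (by rw [ringChar.eq F 1]) : (1 : ℕ) ≠ 1)
    · exact h3
  rw [← h2]
  exact ⟨hr⟩

/-- **The middle row for `PΩ_{2m+1}(q)`**, cross characteristic. -/
theorem pomegaOdd_mrow {S : Type*} [Group S] (hS : Cfsg.IsPOmegaOdd S) {p : ℕ} (hp : p.Prime) (hp5 : 5 ≤ p)
    (hch : ¬ Cfsg.IsPOmegaOddChar p S) (hAA : AAHyp.{0} p) : MRow p S := by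
  obtain ⟨F, _, _, m, hm, hq, ⟨e⟩⟩ := hS
  have hpF : (p : F) ≠ 0 := cast_ne hp (by
    rintro ⟨hF⟩
    exact hch ⟨F, _, _, hF, m, hm, hq, ⟨e⟩⟩)
  have h2 : (2 : F) ≠ 0 := by
    intro h
    have h3 : CharP F 2 := CharTwo.of_one_ne_zero_of_two_eq_zero one_ne_zero h
    have h4 := FiniteField.even_card_iff_char_two.1 (ringChar.eq F 2 ▸ rfl : ringChar F = 2)
    rw [Nat.odd_iff] at hq
    omega
  have hG := AutOrth.Main.good_odd (F := F) (m := m) (by omega) h2
  refine MRow.congr e ?_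
  have hind : ∀ c : MulAut (Cfsg.POmega F (Cfsg.quadFormOdd m F)), orderOf c = p →
      ∃ y, H903.SylSemi.SemiO F (Cfsg.quadFormOdd m F) y ∧
      H903.SylSemi.Ind (H152.MeetOmega.proj (Cfsg.quadFormOdd m F)) (H152.MeetOmega.rho (Cfsg.quadFormOdd m F)) y c :=
    fun c _ => H152.MeetOmega.gamma_odd hm h2 c
  rw [← coe_oddForm] at hind ⊢
  exact mrow_good hG (by simp only [Fintype.card_sum, Fintype.card_fin, Fintype.card_unit]; omega) hAA hp hp5 hpF hind

/-- **The middle row for `PΩ⁺_{2m}(q)`**, cross characteristic. -/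
theorem pomegaPlus_mrow {S : Type*} [Group S] (hS : Cfsg.IsPOmegaPlus S) {p : ℕ} (hp : p.Prime) (hp5 : 5 ≤ p)
    (hch : ¬ Cfsg.IsPOmegaPlusChar p S) (hAA : AAHyp.{0} p) : MRow p S := by
  obtain ⟨F, _, _, m, hm, ⟨e⟩⟩ := hS
  have := Fact.mk hp
  have hpF : (p : F) ≠ 0 := cast_ne hp (by
    rintro ⟨hF⟩
    exact hch ⟨F, inferInstance, inferInstance, hF, m, hm, ⟨e⟩⟩)
  have hG := AutOrth.Main.good_plus (F := F) (m := m) (by omega)
  have : Nonempty (Fin m ⊕ Fin m) := ⟨.inl ⟨0, by omega⟩⟩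
  refine MRow.congr e ?_
  have hind : ∀ c : MulAut (Cfsg.POmega F (Cfsg.quadFormPlus m F)), orderOf c = p →
      ∃ y, H903.SylSemi.SemiO F (Cfsg.quadFormPlus m F) y ∧
      H903.SylSemi.Ind (H152.MeetOmega.proj (Cfsg.quadFormPlus m F)) (H152.MeetOmega.rho (Cfsg.quadFormPlus m F))
        y c := by
    intro c hc
    refine H152.MeetOmega.gamma_plus hp5 hm (P := Subgroup.zpowers c) ?_ c (Subgroup.mem_zpowers c)
    exact IsPGroup.of_card (n := 1) (by rw [Nat.card_zpowers, hc, pow_one])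
  rw [← coe_plusForm] at hind ⊢
  exact mrow_good hG (by simp only [Fintype.card_sum, Fintype.card_fin]; omega) hAA hp hp5 hpF hind

/-- **The middle row for `PΩ⁻_{2m}(q)`**, cross characteristic. -/
theorem pomegaMinus_mrow {S : Type*} [Group S] (hS : Cfsg.IsPOmegaMinus S) {p : ℕ} (hp : p.Prime) (hp5 : 5 ≤ p)
    (hch : ¬ Cfsg.IsPOmegaMinusChar p S) (hAA : AAHyp.{0} p) : MRow p S := by
  obtain ⟨F, _, _, m, a, b, hm, hab, ⟨e⟩⟩ := hS
  have hpF : (p : F) ≠ 0 := cast_ne hp (by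
    rintro ⟨hF⟩
    exact hch ⟨F, inferInstance, inferInstance, hF, m, a, b, hm, hab, ⟨e⟩⟩)
  have hG := AutOrth.Main.good_minus (F := F) (m := m - 1) (by omega) hab
  refine MRow.congr e ?_
  have hind : ∀ c : MulAut (Cfsg.POmega F (Cfsg.quadFormMinus (m - 1) F a b)), orderOf c = p →
      ∃ y, H903.SylSemi.SemiO F (Cfsg.quadFormMinus (m - 1) F a b) y ∧
      H903.SylSemi.Ind (H152.MeetOmega.proj (Cfsg.quadFormMinus (m - 1) F a b))
        (H152.MeetOmega.rho (Cfsg.quadFormMinus (m - 1) F a b)) y c :=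
    fun c _ => H152.MeetOmega.gamma_minus (by omega) hab c
  rw [← coe_minusForm] at hind ⊢
  exact mrow_good hG (by simp only [Fintype.card_sum, Fintype.card_fin]; omega) hAA hp hp5 hpF hind

end Cfsg.Agent.H862.T5.ORow
end

private theorem dce_90277e57f817 : _root_.True := by
  try have : _root_.True := by simp only [_root_.Cfsg.Agent.H862.T5.OMinusFour.SigW.eq_1]
  try have : _root_.True := by simp only [_root_.Cfsg.Agent.H862.T5.OMinusFour.sigE.congr_simp]
  try have : _root_.True := by simp only [_root_.Cfsg.Agent.H862.T5.OMinusFour.wv.eq_1]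
  try have : _root_.True := by simp only [_root_.Cfsg.Agent.H862.T5.OMinusFour.sigE.eq_1]
  exact _root_.True.intro
end

-- part: H194/MOwn/OmRow
section
prune_inst 0x10304150546010000000801462001c42aa0004000040000028a009020c888c62c5002060a09000101082000400300000000000000040000004000000011c00800000100c81480000000000000000000000000000000000000000000000000000000000000
set_option linter.all false
open scoped Cfsg.Agent.FastGrp

-- part: H194/MOwn/OmCore
section
/-!
# Pairs in own characteristic, orthogonal groups: the linear algebra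

`exists_TS` : a non-scalar semisimilitude `y` of a quadratic space of dimension at least `7` over a
finite field of characteristic `p ≥ 5` (`p` odd) with scalar `p`-th power has a singular vector `e`
such that `e`, `y e` span a totally singular plane.
-/

set_option autoImplicit false

namespace Cfsg.Agent.H194.MOwn.Om

open QuadraticMap Cfsg.Agent.LieClassical.OrthCore Cfsg.Agent.LieClassical.OrthTrans
open Cfsg.Agent.LieClassical.OrthFinite Cfsg.Agent.H353.TwoOrth Module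

variable {F V : Type*} [Field F] [AddCommGroup V] [Module F V] {Q : QuadraticForm F V}

theorem sing_of_polar_self (h2 : (2 : F) ≠ 0) {x : V} (h : polar Q x x = 0) : Q x = 0 := by
  rw [polar_self'] at h
  exact (mul_eq_zero.1 h).resolve_left h2

/-- The adjoint of `N = n - 1` is `N' = n⁻¹ - 1`. -/
theorem adj {n : V ≃ₗ[F] V} (hn : n ∈ O Q) (x y : V) :
    polar Q (n x - x) y = polar Q x (n.symm y - y) := by
  rw [polar_sub_left, polar_sub_right]
  have h := polar_map hn x (n.symm y)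
  rw [LinearEquiv.apply_symm_apply] at h
  rw [h]

/-- **Linear case.** A nilpotent `n - 1 ≠ 0`, `n` an isometry: there is a singular vector in
`ker (n - 1)² ∖ ker (n - 1)`. -/
theorem exists_sing_jordan [Finite F] (h2 : (2 : F) ≠ 0) (hQ : Nondeg Q) (hd : 7 ≤ finrank F V)
    {n : V ≃ₗ[F] V} (hn : n ∈ O Q) (h1 : n ≠ 1)
    (hnil : IsNilpotent ((n : V →ₗ[F] V) - 1 : Module.End F V)) :
    ∃ e : V, Q e = 0 ∧ n e ≠ e ∧ n (n e - e) = n e - e := by
  have hfd : FiniteDimensional F V := Module.finite_of_finrank_pos (by omega)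
  set N : Module.End F V := (n : V →ₗ[F] V) - 1 with hN
  have hNa : ∀ x, N x = n x - x := fun x => rfl
  have hN0 : N ≠ 0 := by
    intro h0
    apply h1
    ext x
    have := LinearMap.congr_fun h0 x
    rw [hNa] at this
    exact sub_eq_zero.1 this
  -- the adjoint
  have hadj : ∀ x y, N y = 0 → polar Q (N x) y = 0 := by
    intro x y hy
    rw [hNa, adj hn]
    have h3 : n.symm y = y := by
      rw [LinearEquiv.symm_apply_eq]
      rw [hNa] at hy
      exact (sub_eq_zero.1 hy).symm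
    rw [h3, sub_self, polar_zero_right]
  have hadj2 : ∀ x y, N (N y) = 0 → polar Q (N (N x)) y = 0 := by
    intro x y hy
    rw [hNa (N x), adj hn]
    have h3 : N (n.symm y - y) = 0 := by
      have h4 : n (N (n.symm y - y)) = 0 := by
        have h5 : ∀ z, n (N z) = N (n z) := fun z => by
          rw [hNa, hNa, map_sub]
        rw [h5, map_sub, LinearEquiv.apply_symm_apply]
        have h6 : y - n y = -(N y) := by rw [hNa]; abel
        rw [h6, map_neg, hy, neg_zero]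
      exact (LinearEquiv.map_eq_zero_iff n).1 h4
    exact hadj x _ h3
  by_contra hcon
  push Not at hcon
  have hno : ∀ e, N (N e) = 0 → Q e = 0 → N e = 0 := by
    intro e he hQe
    by_contra hne
    rw [hNa, sub_eq_zero] at hne
    refine hcon e hQe hne ?_
    have := he
    rw [hNa (N e), hNa e, sub_eq_zero] at this
    exact this
  -- `N ^ 3 = 0`
  have hN3 : ∀ x, N (N (N x)) = 0 := by
    by_contra h3
    push Not at h3
    obtain ⟨x0, hx0⟩ := h3
    set j := nilpotencyClass N with hj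
    have hV : Nontrivial V := ⟨⟨_, _, hx0⟩⟩
    have hne := pow_pred_nilpotencyClass hnil
    rw [← hj] at hne
    have hz := pow_nilpotencyClass hnil
    rw [← hj] at hz
    have hj4 : 4 ≤ j := by
      by_contra hlt
      push Not at hlt
      apply hx0
      have h5 : N ^ 3 = 0 := by
        rw [show 3 = (3 - j) + j by omega, pow_add, hz, mul_zero]
      have := LinearMap.congr_fun h5 x0
      simpa [pow_succ] using this
    obtain ⟨x, hx⟩ : ∃ x, (N ^ (j - 1)) x ≠ 0 := by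
      by_contra h6
      push Not at h6
      exact hne (LinearMap.ext h6)
    set w := (N ^ (j - 4)) x with hw
    have e1 : N (N (N w)) = (N ^ (j - 1)) x := by
      rw [hw, show j - 1 = 3 + (j - 4) by omega, pow_add]
      simp [pow_succ]
    have e2 : N (N (N (N w))) = 0 := by
      have : N (N (N (N w))) = (N ^ j) x := by
        rw [hw, show j = 4 + (j - 4) by omega, pow_add]
        simp [pow_succ]
      rw [this, hz]
      rfl
    apply hx
    rw [← e1]
    apply hno (N (N w)) e2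
    exact sing_of_polar_self h2 (hadj2 _ _ e2)
  -- dimensions
  set N2 : Module.End F V := N ^ 2 with hN2
  have hN2a : ∀ x, N2 x = N (N x) := fun x => by rw [hN2, pow_two]; rfl
  have d1 := LinearMap.finrank_range_add_finrank_ker N2
  have hR2 : LinearMap.range N2 ≤ LinearMap.ker N := by
    rintro _ ⟨x, rfl⟩
    rw [LinearMap.mem_ker, hN2a, hN3]
  have hker : LinearMap.ker N ≤ LinearMap.ker N2 := by
    intro x hx
    rw [LinearMap.mem_ker] at hx ⊢
    rw [hN2a, hx, map_zero]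
  have d2 : finrank F (LinearMap.range N2) ≤ finrank F (LinearMap.ker N) :=
    Submodule.finrank_mono hR2
  have d3 : finrank F (LinearMap.range N2) + finrank F (LinearMap.ker N) ≤
      finrank F (LinearMap.ker N2) := by
    have h3 := LinearMap.finrank_range_add_finrank_ker (N.domRestrict (LinearMap.ker N2))
    have h4 : finrank F (LinearMap.ker (N.domRestrict (LinearMap.ker N2))) =
        finrank F (LinearMap.ker N) := by
      have h5 : LinearMap.ker (N.domRestrict (LinearMap.ker N2)) =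
          Submodule.comap (LinearMap.ker N2).subtype (LinearMap.ker N) := by
        ext x
        rfl
      rw [h5]
      exact (Submodule.comapSubtypeEquivOfLe hker).finrank_eq
    have h5 : LinearMap.range N2 ≤ LinearMap.range (N.domRestrict (LinearMap.ker N2)) := by
      rintro _ ⟨x, rfl⟩
      refine ⟨⟨N x, ?_⟩, ?_⟩
      · rw [LinearMap.mem_ker, hN2a, hN3]
      · exact (hN2a x).symm
    have h6 := Submodule.finrank_mono h5
    omega
  have ht : finrank F (LinearMap.range N2) + 3 ≤ finrank F (LinearMap.ker N2) := by omega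
  -- a singular vector outside the radical
  obtain ⟨W0, hW0⟩ := Submodule.exists_isCompl (LinearMap.range N2)
  have d4 := Submodule.finrank_add_eq_of_isCompl hW0
  have d5 := Submodule.finrank_sup_add_finrank_inf_eq W0 (LinearMap.ker N2)
  have d6 : finrank F ↥(W0 ⊔ LinearMap.ker N2) ≤ finrank F V := Submodule.finrank_le _
  obtain ⟨z, hz, hz0, hQz⟩ := exists_sing_mem (Q := Q) (W0 ⊓ LinearMap.ker N2) (by omega)
  have hzK : N (N z) = 0 := by
    have := hz.2
    rw [SetLike.mem_coe, LinearMap.mem_ker, hN2a] at this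
    exact this
  have hNz : N z = 0 := hno z hzK hQz
  have hzR : z ∉ LinearMap.range N2 := fun hc => hz0 (by
    have := (Submodule.disjoint_def.1 hW0.disjoint) z hc hz.1
    exact this)
  -- `ker N2` is not orthogonal to `z`
  obtain ⟨f', hf'K, hf'⟩ : ∃ f', N (N f') = 0 ∧ polar Q z f' ≠ 0 := by
    by_contra hc
    push Not at hc
    apply hzR
    have hnd : (polarBilin Q).Nondegenerate :=
      ⟨fun x hx => hQ x hx, fun x hx => hQ x fun y => by rw [polar_comm]; exact hx y⟩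
    have h7 := LinearMap.BilinForm.finrank_orthogonal hnd (LinearMap.ker N2)
    have h8 : LinearMap.range N2 ≤ LinearMap.BilinForm.orthogonal (polarBilin Q) (LinearMap.ker N2) := by
      rintro _ ⟨x, rfl⟩
      rw [LinearMap.BilinForm.mem_orthogonal_iff]
      intro y hy
      rw [LinearMap.mem_ker, hN2a] at hy
      change polar Q y (N2 x) = 0
      rw [polar_comm, hN2a]
      exact hadj2 x y hy
    have h9 : LinearMap.range N2 = LinearMap.BilinForm.orthogonal (polarBilin Q) (LinearMap.ker N2) :=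
      Submodule.eq_of_le_of_finrank_le h8 (by omega)
    rw [h9, LinearMap.BilinForm.mem_orthogonal_iff]
    intro y hy
    rw [LinearMap.mem_ker, hN2a] at hy
    change polar Q y z = 0
    rw [polar_comm]
    exact hc y hy
  obtain ⟨f, hfK, hf⟩ : ∃ f, N (N f) = 0 ∧ N f ≠ 0 := by
    obtain ⟨x, hx⟩ : ∃ x, N x ≠ 0 := by
      by_contra h6
      push Not at h6
      exact hN0 (LinearMap.ext h6)
    by_cases h3 : N (N x) = 0
    · exact ⟨x, h3, hx⟩
    · exact ⟨N x, hN3 x, h3⟩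
  obtain ⟨f1, h1K, h1N, h1p⟩ : ∃ f1, N (N f1) = 0 ∧ N f1 ≠ 0 ∧ polar Q z f1 ≠ 0 := by
    by_cases h3 : polar Q z f = 0
    · by_cases h4 : N f' = 0
      · refine ⟨f + f', ?_, ?_, ?_⟩
        · rw [map_add, map_add, hfK, hf'K, add_zero]
        · rw [map_add, h4, add_zero]
          exact hf
        · rw [polar_add_right, h3, zero_add]
          exact hf'
      · exact ⟨f', hf'K, h4, hf'⟩
    · exact ⟨f, hfK, hf, h3⟩
  apply h1N
  have h10 : N (f1 + (-(Q f1 / polar Q z f1)) • z) = N f1 := by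
    rw [map_add, map_smul, hNz, smul_zero, add_zero]
  rw [← h10]
  refine hno _ ?_ ?_
  · rw [h10, h1K]
  · rw [Q_add, QuadraticMap.map_smul, hQz, smul_zero, add_zero, polar_smul_right, smul_eq_mul,
      polar_comm Q f1 z]
    field_simp
    ring

/-! ### Existence of totally singular pairs `e`, `y e` -/

open Cfsg.Agent.ClassicalGeometry.OrthSemi (IsSS)
open Cfsg.Agent.CpAut.Orth Cfsg.Agent.CpAut.OrthMain
open Cfsg.Agent.CpAut.Psl (fixf mem_fixf)
open Cfsg.Agent.CpAut (Descent.exists_scale Descent.hilbert90 Descent.exists_basis Descent.scal)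

/-- The second vector can be scaled. -/
theorem TS.smul {x y : V} (h : TS Q x y) {c : F} (hc : c ≠ 0) : TS Q x (c • y) where
  left := h.left
  right := by rw [QuadraticMap.map_smul, h.right, smul_zero]
  pol := by rw [polar_smul_right, h.pol, smul_zero]
  ind a b hab := by
    rw [smul_smul] at hab
    obtain ⟨h1, h2⟩ := h.ind a (b * c) hab
    exact ⟨h1, (mul_eq_zero.1 h2).resolve_right hc⟩

theorem TS.of_smul {x y : V} {c : F} (hc : c ≠ 0) (h : TS Q x (c • y)) : TS Q x y := by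
  have := TS.smul h (inv_ne_zero hc)
  rwa [smul_smul, inv_mul_cancel₀ hc, one_smul] at this

/-- A unipotent isometry `n ≠ 1` of order `p`. -/
theorem exists_TS_unip [Finite F] {p : ℕ} [Fact p.Prime] [CharP F p] (h2 : (2 : F) ≠ 0)
    (hQ : Nondeg Q) (hd : 7 ≤ finrank F V) {n : V ≃ₗ[F] V} (hn : n ∈ O Q) (h1 : n ≠ 1)
    (hp : n ^ p = 1) : ∃ e : V, TS Q e (n e) := by
  have hchar : CharP (Module.End F V) p := by
    have hV : Nontrivial V := by
      by_contra hV
      rw [not_nontrivial_iff_subsingleton] at hV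
      have := finrank_zero_of_subsingleton (R := F) (M := V)
      omega
    exact charP_of_injective_algebraMap (algebraMap F (Module.End F V)).injective p
  have hnil : IsNilpotent ((n : V →ₗ[F] V) - 1 : Module.End F V) := by
    refine ⟨p, ?_⟩
    have hex : ExpChar (Module.End F V) p := ExpChar.prime Fact.out
    rw [sub_pow_expChar_of_commute p (Commute.one_right _), one_pow, sub_eq_zero]
    ext v
    have h3 : ∀ k : ℕ, ((n : V →ₗ[F] V) ^ k : Module.End F V) v = (n ^ k) v := by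
      intro k
      induction k generalizing v with
      | zero => rfl
      | succ k ih =>
        rw [pow_succ, pow_succ, Module.End.mul_apply, LinearEquiv.mul_apply, LinearEquiv.coe_coe, ih]
    rw [h3, hp]
    rfl
  obtain ⟨e, he, hne, hN⟩ := exists_sing_jordan h2 hQ hd hn h1 hnil
  have h3 : polar Q e (n e) = 0 := by
    -- `polar (N e) (N e) = 0`
    have h4 : polar Q (n e - e) (n e - e) = 0 := by
      rw [adj hn]
      have h5 : n.symm (n e - e) = n e - e := by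
        rw [LinearEquiv.symm_apply_eq]
        exact hN.symm
      rw [h5, sub_self, polar_zero_right]
    have h5 := sing_of_polar_self h2 h4
    rw [sub_eq_add_neg, Q_add, QuadraticMap.map_neg, polar_neg_right, mem_O.1 hn, he] at h5
    rw [polar_comm]
    simpa using h5
  refine ⟨e, he, by rw [mem_O.1 hn, he], h3, ?_⟩
  -- independence
  have he0 : e ≠ 0 := by
    rintro rfl
    exact hne (map_zero n)
  intro a b hab
  by_cases hb : b = 0
  · subst hb
    rw [zero_smul, add_zero] at hab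
    exact ⟨(smul_eq_zero.1 hab).resolve_right he0, rfl⟩
  · exfalso
    have h6 : n e = (-(a / b)) • e := by
      have h7 : b • n e = -(a • e) := by
        rw [eq_neg_iff_add_eq_zero, add_comm]
        exact hab
      have h8 : n e = b⁻¹ • (b • n e) := by rw [smul_smul, inv_mul_cancel₀ hb, one_smul]
      rw [h8, h7, smul_neg, smul_smul, neg_smul]
      congr 2
      field_simp
    set t := -(a / b) with ht
    -- `n e = t e`, `N (N e) = (t - 1)² e = 0`
    have h9 : n (n e - e) = t • (n e - e) := by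
      rw [h6]
      rw [map_sub, map_smul, h6]
      module
    rw [hN] at h9
    have h10 : (1 - t) • (n e - e) = 0 := by
      rw [sub_smul, one_smul, ← h9, sub_self]
    rcases smul_eq_zero.1 h10 with h | h
    · apply hne
      rw [h6, ← sub_eq_zero.1 h, one_smul]
    · exact hne (sub_eq_zero.1 h)

/-- Two vectors of a totally singular plane. -/
theorem TS.comb {x y : V} (h : TS Q x y) {a b : F} (hab : a ≠ b) :
    TS Q (x + a • y) (x + b • y) where
  left := by rw [Q_add, QuadraticMap.map_smul, polar_smul_right, h.left, h.right, h.pol]; simp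
  right := by rw [Q_add, QuadraticMap.map_smul, polar_smul_right, h.left, h.right, h.pol]; simp
  pol := by
    have hx : polar Q x x = 0 := by rw [polar_self', h.left, mul_zero]
    have hy : polar Q y y = 0 := by rw [polar_self', h.right, mul_zero]
    rw [polar_add_left, polar_add_right, polar_add_right, polar_smul_left, polar_smul_left,
      polar_smul_right, polar_smul_right, h.pol, h.pol', hx, hy]
    simp
  ind c d hcd := by
    have h1 : (c + d) • x + (c * a + d * b) • y = 0 := by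
      rw [← hcd]
      module
    obtain ⟨h2, h3⟩ := h.ind _ _ h1
    have hd : d * (b - a) = 0 := by linear_combination h3 - a * h2
    have hd0 : d = 0 := (mul_eq_zero.1 hd).resolve_right (sub_ne_zero.2 (Ne.symm hab))
    subst hd0
    exact ⟨by simpa using h2, rfl⟩

theorem pow_smul' {σ : F ≃+* F} {l : F} {M N : Equiv.Perm V} (hσ : σ = 1) (hM : IsSS Q σ l M) {c : F}
    (hN : ∀ v, N v = c • M v) (k : ℕ) (v : V) : (N ^ k) v = c ^ k • (M ^ k) v := by
  subst hσ
  induction k generalizing v with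
  | zero => rw [pow_zero, pow_zero, pow_zero, one_smul]
  | succ k ih =>
    rw [pow_succ, Equiv.Perm.mul_apply, ih, hN, pow_succ M, Equiv.Perm.mul_apply,
      (isSS_pow hM k).smul, one_pow, smul_smul, pow_succ c]
    rfl

/-- **Existence of the totally singular pair.** -/
theorem exists_TS [Finite F] {p : ℕ} [Fact p.Prime] [CharP F p] (hp2 : p ≠ 2) (hG : Good Q)
    (hd : 7 ≤ finrank F V) {σ : F ≃+* F} {l : F} {M : Equiv.Perm V} (hM : IsSS Q σ l M) {a : F}
    (ha : ∀ v, (M ^ p) v = a • v) (hns : ¬ ∃ a : F, ∀ v, M v = a • v) :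
    ∃ e : V, TS Q e (M e) := by
  classical
  have h2 : (2 : F) ≠ 0 := Cfsg.Agent.CpAut.PspRow.two_ne Fact.out hp2
  obtain ⟨v₀, hv₀⟩ := exists_ne hG
  have hv0 : v₀ ≠ 0 := by rintro rfl; exact hv₀ (QuadraticMap.map_zero Q)
  have ha0 : a ≠ 0 := by
    rintro rfl
    apply hv0
    apply (M ^ p).injective
    rw [ha, ha, zero_smul, zero_smul]
  have hpp : p.Prime := Fact.out
  have hfd : FiniteDimensional F V := Module.finite_of_finrank_pos (by omega)
  by_cases hσ : σ = 1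
  · subst hσ
    obtain ⟨c, hc⟩ : ∃ c : F, c ^ p = a := by
      obtain ⟨c, hc⟩ := (Finite.injective_iff_surjective.1 (frobenius_inj F p)) a
      exact ⟨c, hc⟩
    have hc0 : c ≠ 0 := by
      rintro rfl
      rw [zero_pow hpp.ne_zero] at hc
      exact ha0 hc.symm
    set N : Equiv.Perm V := Descent.scal V (Units.mk0 c⁻¹ (inv_ne_zero hc0)) * M with hN
    have hNv : ∀ v, N v = c⁻¹ • M v := fun v => rfl
    have hNs : IsSS Q (1 : F ≃+* F) (c⁻¹ * c⁻¹ * l) N := by
      refine ⟨mul_ne_zero (mul_ne_zero (inv_ne_zero hc0) (inv_ne_zero hc0)) hM.ne, fun u v => ?_,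
        fun x v => ?_, fun v => ?_⟩
      · rw [hNv, hNv, hNv, hM.add, smul_add]
      · rw [hNv, hNv, hM.smul, smul_comm]
      · rw [hNv, QuadraticMap.map_smul, hM.form, smul_eq_mul, mul_assoc (c⁻¹ * c⁻¹)]
    have hNp : N ^ p = 1 := by
      ext1 v
      rw [pow_smul' rfl hM hNv, ha, smul_smul, inv_pow, hc, inv_mul_cancel₀ ha0, one_smul]
      rfl
    have hl1 : c⁻¹ * c⁻¹ * l = 1 := by
      have h3 := isSS_pow hNs p
      rw [hNp] at h3
      have h4 := (isSS_unique (exists_ne hG) h3 isSS_one).2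
      rw [Finset.prod_congr rfl (fun i _ => by rw [one_pow]; rfl :
        ∀ i ∈ Finset.range p, ((1 : F ≃+* F) ^ i) (c⁻¹ * c⁻¹ * l) = c⁻¹ * c⁻¹ * l),
        Finset.prod_const, Finset.card_range] at h4
      have h5 : (c⁻¹ * c⁻¹ * l) ^ p = 1 ^ p := by rw [h4, one_pow]
      exact frobenius_inj F p h5
    rw [hl1] at hNs
    let n : V ≃ₗ[F] V :=
      { N with
        map_add' := hNs.add
        map_smul' := hNs.smul }
    have hn : ∀ v, n v = N v := fun v => rfl
    have hnO : n ∈ O Q := by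
      intro v
      rw [hn, hNs.form, one_mul]
      rfl
    have hnp : n ^ p = 1 := by
      have h1 : ∀ (k : ℕ) (v : V), (n ^ k) v = (N ^ k) v := by
        intro k
        induction k with
        | zero => exact fun v => rfl
        | succ k ih =>
          intro v
          rw [pow_succ, pow_succ, LinearEquiv.mul_apply, Equiv.Perm.mul_apply, ih, hn]
      apply LinearEquiv.ext
      intro v
      rw [h1, hNp]
      rfl
    have hn1 : n ≠ 1 := by
      intro h1
      apply hns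
      refine ⟨c, fun v => ?_⟩
      have h3 : c⁻¹ • M v = v := by
        rw [← hNv, ← hn, h1]
        rfl
      rw [← h3, smul_smul, mul_inv_cancel₀ hc0, one_smul, h3]
    obtain ⟨e, he⟩ := exists_TS_unip h2 hG.nondeg hd hnO hn1 hnp
    rw [hn, hNv] at he
    exact ⟨e, TS.of_smul (inv_ne_zero hc0) he⟩
  · have hsc : IsSS Q (1 : F ≃+* F) (a * a) (M ^ p) := by
      refine ⟨mul_ne_zero ha0 ha0, fun u v => ?_, fun t v => ?_, fun v => ?_⟩
      · rw [ha, ha, ha, smul_add]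
      · rw [ha, ha, smul_comm]
        rfl
      · rw [ha, QuadraticMap.map_smul]
        rfl
    have hσp : σ ^ p = 1 := (isSS_unique (exists_ne hG) (isSS_pow hM p) hsc).1
    have hord : orderOf σ = p := orderOf_eq_prime hσp hσ
    obtain ⟨c, hc⟩ := Descent.exists_scale (toSemi hM) hord hpp.pos ha0 ha ⟨v₀, hv0⟩
    set N : Equiv.Perm V := Descent.scal V c * M with hN
    have hNv : ∀ v, N v = (c : F) • M v := fun v => rfl
    have hNs : IsSS Q σ (c * c * l) N := by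
      refine ⟨mul_ne_zero (mul_ne_zero c.ne_zero c.ne_zero) hM.ne, fun u v => ?_, fun x v => ?_,
        fun v => ?_⟩
      · rw [hNv, hNv, hNv, hM.add, smul_add]
      · rw [hNv, hNv, hM.smul, smul_comm]
      · rw [hNv, QuadraticMap.map_smul, hM.form, smul_eq_mul, mul_assoc ((c : F) * c)]
    have h7 : ∏ i ∈ Finset.range p, (σ ^ i) ((c : F) * c * l) = 1 := by
      have h8 := isSS_pow hNs p
      rw [hc] at h8
      exact (isSS_unique (exists_ne hG) h8 isSS_one).2
    obtain ⟨e, he, hle⟩ := Descent.hilbert90 hord hpp.pos h7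
    obtain ⟨b, hb⟩ := Descent.exists_basis (toSemi hNs) hord hpp.pos hc
      (ι := Fin (Module.finrank F V)) (by rw [Fintype.card_fin])
    obtain ⟨Q₀, hQ₀⟩ := exists_form hNs hb he hle
    have hfin : Finite ↥(fixf σ) := inferInstance
    have hnd : Nondeg Q₀ := nondeg_zero hQ₀ hG.nondeg
    have hrk : Module.finrank (fixf σ) (Fin (Module.finrank F V) → fixf σ) =
        Module.finrank F V := by
      rw [Module.finrank_fintype_fun_eq_card, Fintype.card_fin]
    have hG₀ : Good Q₀ := good_of_finite hnd (by omega)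
    obtain ⟨x, x', hx⟩ := hG₀.exists_hyp
    obtain ⟨y, y', hfr⟩ := exists_Fr hG₀ hx
    have hTS : TS Q (J σ b x) (J σ b y) := by
      refine ⟨?_, ?_, ?_, fun s t hst => ?_⟩
      · rw [hQ₀, hfr.hx.left]; simp
      · rw [hQ₀, hfr.hy.left]; simp
      · rw [polar_J hQ₀, hfr.xy]; simp
      · have h3 := congrArg (polar Q (J σ b x')) hst
        have h4 := congrArg (polar Q (J σ b y')) hst
        rw [polar_add_right, polar_smul_right, polar_smul_right, polar_J hQ₀, polar_J hQ₀,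
          hfr.hx.pair', hfr.x'y, polar_zero_right] at h3
        rw [polar_add_right, polar_smul_right, polar_smul_right, polar_J hQ₀, polar_J hQ₀,
          hfr.hy.pair', polar_comm Q₀ y' x, hfr.xy', polar_zero_right] at h4
        simp only [smul_eq_mul] at h3 h4
        push_cast at h3 h4
        simp only [mul_one, mul_zero, add_zero, zero_add] at h3 h4
        exact ⟨(mul_eq_zero.1 h3).resolve_right he, (mul_eq_zero.1 h4).resolve_right he⟩
    obtain ⟨t, ht⟩ : ∃ t : F, σ t ≠ t := by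
      by_contra h3
      push Not at h3
      exact hσ (RingEquiv.ext h3)
    have h5 := TS.comb hTS (Ne.symm ht)
    have h6 : N (J σ b x + t • J σ b y) = J σ b x + σ t • J σ b y := by
      rw [hNs.add, hNs.smul, M_J (toSemi hNs) hb, M_J (toSemi hNs) hb]
    rw [← h6, hNv] at h5
    exact ⟨_, TS.of_smul c.ne_zero h5⟩

/-! ### Pairs -/

open Cfsg.Agent.H957.T5V (toA toA_apply IsScal)

/-- iterates of a scalar map -/
theorem pow_scal {x : Equiv.Perm V} {a : F} (h : ∀ v, x v = a • v) (k : ℕ) (v : V) :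
    (x ^ k) v = a ^ k • v := by
  induction k generalizing v with
  | zero => rw [pow_zero, pow_zero, one_smul]; rfl
  | succ k ih => rw [pow_succ, Equiv.Perm.mul_apply, ih, h, smul_smul, pow_succ]

/-- an eigenvalue in the prime field -/
theorem pow_eigen {ρ : F ≃+* F} {x : Equiv.Perm V} {m : F} (hx : IsSS Q ρ m x) {e : V} {a : ℕ}
    (h : x e = (a : F) • e) (k : ℕ) : (x ^ k) e = (a : F) ^ k • e := by
  induction k with
  | zero => rw [pow_zero, pow_zero, one_smul]; rfl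
  | succ k ih =>
    rw [pow_succ, Equiv.Perm.mul_apply, h, (isSS_pow hx k).smul, ih, map_natCast, smul_smul,
      pow_succ, mul_comm]

theorem natCast_pow_pow {p : ℕ} [Fact p.Prime] [CharP F p] (a k : ℕ) :
    (a : F) ^ p ^ k = (a : F) := by
  induction k with
  | zero => rw [pow_zero, pow_one]
  | succ k ih =>
    rw [pow_succ, pow_mul, ih]
    have := map_natCast (frobenius F p) a
    rwa [frobenius_def] at this

theorem isSS_conj {g : V ≃ₗ[F] V} (hg : g ∈ O Q) {τ : F ≃+* F} {k : F} {z : Equiv.Perm V}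
    (hz : IsSS Q τ k z) : IsSS Q τ k (toA g * z * (toA g)⁻¹) := by
  have h1 : ∀ v, (toA g * z * (toA g)⁻¹) v = g (z (g.symm v)) := fun v => rfl
  refine ⟨hz.ne, fun u v => ?_, fun a v => ?_, fun v => ?_⟩
  · rw [h1, h1, h1, map_add, hz.add, map_add]
  · rw [h1, h1, map_smul, hz.smul, map_smul]
  · rw [h1, mem_O.1 hg, hz.form]
    have := mem_O.1 hg (g.symm v)
    rw [LinearEquiv.apply_symm_apply] at this
    rw [this]

/-- A semisimilitude with the eigenvalue `a` in the prime field and scalar `p ^ m`-th power. -/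
theorem mult_of_scal {p : ℕ} [Fact p.Prime] [CharP F p] (hG : Good Q) {ρ : F ≃+* F} {c : F}
    {x : Equiv.Perm V} (hx : IsSS Q ρ c x) {e : V} (he : e ≠ 0) {a : ℕ} (ha : (a : F) ≠ 0)
    (h : x e = (a : F) • e) {m : ℕ} (hs : IsScal F (x ^ p ^ m)) {K : ℕ} (hK : m ≤ K) :
    ∏ i ∈ Finset.range (p ^ K), (ρ ^ i) c = (a : F) * a := by
  obtain ⟨lam, hlam⟩ := hs
  have h1 : lam = (a : F) := by
    have h2 := pow_eigen hx h (p ^ m)
    rw [hlam, natCast_pow_pow] at h2
    have h3 : (lam - (a : F)) • e = 0 := by rw [sub_smul, h2, sub_self]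
    exact sub_eq_zero.1 ((smul_eq_zero.1 h3).resolve_right he)
  have h2 : ∀ v, (x ^ p ^ K) v = (a : F) • v := by
    intro v
    obtain ⟨j, rfl⟩ := Nat.exists_eq_add_of_le hK
    rw [pow_add p, pow_mul x, pow_scal hlam, h1, natCast_pow_pow]
  have h3 : IsSS Q (1 : F ≃+* F) ((a : F) * a) (x ^ p ^ K) := by
    refine ⟨mul_ne_zero ha ha, fun u v => ?_, fun t v => ?_, fun v => ?_⟩
    · rw [h2, h2, h2, smul_add]
    · rw [h2, h2, smul_comm]
      rfl
    · rw [h2, QuadraticMap.map_smul]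
      rfl
  exact (isSS_unique (exists_ne hG) (isSS_pow hx _) h3).2

/-- **The pairs.** -/
theorem core [Finite F] {p : ℕ} [Fact p.Prime] [CharP F p] (hp5 : 5 ≤ p) (hG : Good Q)
    (hd : 7 ≤ finrank F V) {σ τ : F ≃+* F} {l k : F} {y z : Equiv.Perm V} (hy : IsSS Q σ l y)
    (hz : IsSS Q τ k z) (hyT : ∃ e, TS Q e (y e)) (hzT : ∃ e, TS Q e (z e)) :
    ∃ g ∈ E Q, ∀ m, ¬ IsScal F ((y * (toA g * z * (toA g)⁻¹)) ^ p ^ m) := by
  obtain ⟨e, he⟩ := hyT
  obtain ⟨u, hu⟩ := hzT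
  have h2 : (2 : F) ≠ 0 := Cfsg.Agent.CpAut.PspRow.two_ne (p := p) Fact.out (by omega)
  have h3 : (3 : F) ≠ 0 := by
    intro h3
    have h4 : ((3 : ℕ) : F) = 0 := by exact_mod_cast h3
    rw [CharP.cast_eq_zero_iff F p] at h4
    have := Nat.le_of_dvd (by norm_num) h4
    omega
  by_contra hcon
  push Not at hcon
  have key : ∀ a : ℕ, (a : F) ≠ 0 → ∃ x : Equiv.Perm V, IsSS Q (σ * τ) (l * σ k) x ∧
      (∃ m, IsScal F (x ^ p ^ m)) ∧ x (y e) = (a : F) • y e := by
    intro a ha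
    obtain ⟨g, hg, hg1, hg2⟩ := trans_TS hG hd hu (TS.smul he.symm ha)
    refine ⟨y * (toA g * z * (toA g)⁻¹), hy.mul (isSS_conj (E_le_O hg) hz), hcon g hg, ?_⟩
    change y (g (z (g.symm (y e)))) = _
    have h4 : g.symm (y e) = u := by rw [LinearEquiv.symm_apply_eq, hg1]
    rw [h4, hg2, hy.smul, map_natCast]
  obtain ⟨x1, hx1, ⟨m1, hm1⟩, he1⟩ := key 1 (by simp)
  obtain ⟨x2, hx2, ⟨m2, hm2⟩, he2⟩ := key 2 (by exact_mod_cast h2)
  have r1 := mult_of_scal hG hx1 he.right_ne (by simp) he1 hm1 (le_max_left m1 m2)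
  have r2 := mult_of_scal hG hx2 he.right_ne (by exact_mod_cast h2) he2 hm2 (le_max_right m1 m2)
  rw [r1] at r2
  apply h3
  push_cast at r2
  linear_combination -r2

end Cfsg.Agent.H194.MOwn.Om
end

-- part: H194/MOwn/OmRow
section
/-!
# The rows `PΩ_n^ε(q)` in own characteristic `p ≥ 5` (all automorphisms of order `p`)
-/

set_option autoImplicit false

namespace Cfsg.Agent.H194.MOwn.Om

open Cfsg QuadraticMap Matrix
open Cfsg.Agent.LieClassical.OrthCore Cfsg.Agent.LieClassical.OrthTrans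
open Cfsg.Agent.LieClassical.QuadForms
open Cfsg.Agent.AutOrth.Main Cfsg.Agent.H208.Dict Cfsg.Agent.ClassicalGeometry.OrthAut1
open Cfsg.Agent.H957.T5V (toA toA_apply IsScal)
open Cfsg.Agent.H957.T5M Cfsg.Agent.H957.T5Tr
open Cfsg.Agent.H152.MeetOmega

/-- The general row. -/
theorem mrow_of_good {F : Type*} [Field F] [Finite F] {ι : Type} [Fintype ι] [DecidableEq ι]
    {Q : QuadraticForm F (ι → F)} (hG : Good Q) (hd : 7 ≤ Fintype.card ι) {p : ℕ} [Fact p.Prime]
    [CharP F p] (hp5 : 5 ≤ p)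
    (hall : ∀ β : MulAut (POmega F ⇑Q), orderOf β = p → AutOrth.Main.Ind ⇑Q β) :
    MRow p (POmega F ⇑Q) := by
  have hp : p.Prime := Fact.out
  have hfr : Module.finrank F (ι → F) = Fintype.card ι := Module.finrank_fintype_fun_eq_card F
  have : Nonempty ι := Fintype.card_pos_iff.1 (by omega)
  have : Nontrivial (ι → F) := Function.nontrivial
  refine mrow_of (F := F) hp (π := proj ⇑Q) (proj_surjective ⇑Q) (ρ := rho ⇑Q)
    (rho_injective ⇑Q) ?_ (W := fun y => y ∈ ClassicalGeometry.OrthSemi.Gam Q) ?_ ?_ ?_ ?_ ?_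
  · intro s
    refine ⟨fun u v => ?_, fun b v => ?_⟩
    · rw [rho_apply, rho_apply, rho_apply, mulVec_add]
    · rw [rho_apply, rho_apply, mulVec_smul]
      rfl
  · exact fun y y' h h' => mul_mem h h'
  · exact rho_mem_gam
  · intro β hβ
    obtain ⟨y, hy, h⟩ := exists_of_ind hG (hall β hβ)
    exact ⟨y, mem_gam_iff.2 hy, h⟩
  · exact fun y hy h => unique hG (mem_gam_iff.1 hy) h
  · rintro y z ⟨σ, l, hy⟩ ⟨τ, k, hz⟩ ⟨a, ha⟩ hyn ⟨b, hb⟩ hzn
    obtain ⟨g, hg, h⟩ := core hp5 hG (by omega) hy hz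
      (exists_TS (p := p) (by omega) hG (by omega) hy ha hyn)
      (exists_TS (p := p) (by omega) hG (by omega) hz hb hzn)
    obtain ⟨s, hs⟩ := (oe hG).surjective ⟨g, hg⟩
    refine ⟨s, 1, 1, ?_⟩
    have hsg : rho ⇑Q s = toA g := by
      ext v : 1
      rw [rho_apply, toA_apply, ← oe_apply hG s v, hs]
    rw [hsg, pow_one, pow_one]
    exact h

/-- **The row `PΩ_{2m+1}(q)` in own characteristic.** -/
theorem mrow_odd {S : Type*} [Group S] {F : Type*} [Field F] [Finite F] {m p : ℕ} (hm : 3 ≤ m)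
    [Fact p.Prime] (hp5 : 5 ≤ p) [CharP F p] (e : S ≃* POmega F (quadFormOdd m F)) : MRow p S := by
  refine MRow.congr e ?_
  have h2 : (2 : F) ≠ 0 := Cfsg.Agent.CpAut.PspRow.two_ne (p := p) Fact.out (by omega)
  have hall : ∀ β : MulAut (POmega F (quadFormOdd m F)), orderOf β = p →
    AutOrth.Main.Ind (quadFormOdd m F) β := fun β _ => all_odd hm h2 β
  clear e
  revert hall
  rw [← coe_oddForm]
  intro hall
  refine mrow_of_good (good_odd (by omega) h2) ?_ hp5 hall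
  simp only [Fintype.card_sum, Fintype.card_unit, Fintype.card_fin]
  omega

/-- **The row `PΩ⁺_{2m}(q)` in own characteristic.** -/
theorem mrow_plus {S : Type*} [Group S] {F : Type*} [Field F] [Finite F] {m p : ℕ} (hm : 4 ≤ m)
    [Fact p.Prime] (hp5 : 5 ≤ p) [CharP F p] (e : S ≃* POmega F (quadFormPlus m F)) : MRow p S := by
  refine MRow.congr e ?_
  have hall : ∀ β : MulAut (POmega F (quadFormPlus m F)), orderOf β = p →
      AutOrth.Main.Ind (quadFormPlus m F) β := by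
    intro β hβ
    have hP : IsPGroup p ↥(Subgroup.zpowers β) :=
      IsPGroup.of_card (n := 1) (by rw [Nat.card_zpowers, hβ, pow_one])
    exact ind_plus hp5 hm hP β (Subgroup.mem_zpowers β)
  clear e
  revert hall
  rw [← coe_plusForm]
  intro hall
  refine mrow_of_good (good_plus (by omega)) ?_ hp5 hall
  simp only [Fintype.card_sum, Fintype.card_fin]
  omega

/-- **The row `PΩ⁻_{2m+2}(q)` in own characteristic.** -/
theorem mrow_minus {S : Type*} [Group S] {F : Type*} [Field F] [Finite F] {m p : ℕ} (hm : 3 ≤ m)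
    {a b : F} (hab : ∀ z₁ z₂ : F, z₁ ^ 2 + a * z₁ * z₂ + b * z₂ ^ 2 = 0 → z₁ = 0 ∧ z₂ = 0)
    [Fact p.Prime] (hp5 : 5 ≤ p) [CharP F p] (e : S ≃* POmega F (quadFormMinus m F a b)) :
    MRow p S := by
  refine MRow.congr e ?_
  have hall : ∀ β : MulAut (POmega F (quadFormMinus m F a b)), orderOf β = p →
    AutOrth.Main.Ind (quadFormMinus m F a b) β := fun β _ => all_minus hm hab β
  clear e
  revert hall
  rw [← coe_minusForm]
  intro hall
  refine mrow_of_good (good_minus (by omega) hab) ?_ hp5 hall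
  simp only [Fintype.card_sum, Fintype.card_fin]
  omega

end Cfsg.Agent.H194.MOwn.Om
end
end

-- part: H28/T5Sz32
section
prune_inst 0x10107554046212000000058473001c46a600019000680000882103400480c94245000160b4201001d8082a040030004000100180404000000e200c00011d00a0808800081000000004000f000080000000000000000000000000000000000004000000000
set_option linter.all false
open scoped Cfsg.Agent.FastGrp

/-!
# T5 rows: `Sz(32)`, `p = 5`, inner against outer

`σ : x ↦ x ^ 2` of order `5`. `u = U(1, b)`, `g = w U(0, d)`, `x₀ = u σ(g) g⁻¹` of order `5`, and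
`x₀ (g σ g⁻¹) = u σ`, `(u σ) ^ 5 = u σ(u) σ²(u) σ³(u) σ⁴(u)` of order `4`.
-/

set_option autoImplicit false

universe u

namespace Cfsg.Agent.H28.T5Sz32

open Polynomial in
/-- a root of `X ^ 5 + X ^ 2 + 1` in the field with `32` elements -/
theorem exists_root {F : Type*} [Field F] [Fintype F] (hF : Fintype.card F = 2 ^ 5) (h2 : (2 : F) = 0) :
    ∃ α : F, α ^ 5 = α ^ 2 + 1 := by
  have h2' : (2 : F[X]) = 0 := by
    have : (2 : F[X]) = C (2 : F) := by rw [map_ofNat]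
    rw [this, h2, C_0]
  have hdvd : (X ^ 5 + X ^ 2 + 1 : F[X]) ∣ X ^ (Nat.card F) - X := by
    rw [Nat.card_eq_fintype_card, hF]
    refine ⟨X + X^3 + X^5 + X^6 + X^7 + X^9 + X^10 + X^14 + X^15 + X^16 + X^17 + X^18 + X^21 + X^22 + X^24 + X^27, ?_⟩
    linear_combination (- X - X^3 - X^5 - X^6 - X^7 - X^8 - X^9 - X^10 - X^11 - X^12 - X^14 - X^15 - X^16 - X^17 -
      X^18 - X^19 - X^20 - X^21 - X^22 - X^23 - X^24 - X^26 - X^27 - X^29 : F[X]) * h2'
  have hs := (Polynomial.splits_X_pow_nat_card_sub_X (K := F)).of_dvd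
    (FiniteField.X_pow_card_sub_X_ne_zero F (by rw [Nat.card_eq_fintype_card, hF]; norm_num)) hdvd
  have hdeg : (X ^ 5 + X ^ 2 + 1 : F[X]).natDegree = 5 := by compute_degree!
  obtain ⟨a, ha⟩ := hs.exists_eval_eq_zero (by
    rw [Polynomial.degree_eq_natDegree (by
      intro h
      rw [h, natDegree_zero] at hdeg
      exact absurd hdeg (by norm_num)), hdeg]
    norm_num)
  refine ⟨a, ?_⟩
  simp only [eval_add, eval_pow, eval_X, eval_one] at ha
  linear_combination ha - (a ^ 2 + 1) * h2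

section Mat

open Cfsg.Agent.LieRecognition.SzMatrix
open scoped Matrix

variable {F : Type*} [Field F]

theorem mul_UL (h2 : (2 : F) = 0) {α : F} (hα : α ^ 5 = α ^ 2 + 1) :
    (!![1, 1, α ^ 2 + α + 1, α ^ 4 + 1;
    0, 1, 1, α ^ 2 + α;
    0, 0, 1, 1;
    0, 0, 0, 1] : Matrix (Fin 4) (Fin 4) F) *
    !![1, 0, 0, 0;
    0, 1, 0, 0;
    α, 0, 1, 0;
    α ^ 3 + α ^ 2 + 1, α, 0, 1] =
    !![α ^ 3 + α ^ 2, α ^ 2 + α, α ^ 2 + α + 1, α ^ 4 + 1;
    α ^ 3 + 1, α ^ 3 + α ^ 2 + 1, 1, α ^ 2 + α;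
    α ^ 3 + α ^ 2 + α + 1, α, 1, 1;
    α ^ 3 + α ^ 2 + 1, α, 0, 1] := by
  ext i j
  fin_cases i <;> fin_cases j
  · simp only [Matrix.mul_apply, Fin.sum_univ_four, _root_.Fin.zero_eta, _root_.Fin.isValue, _root_.Matrix.of_apply, _root_.Matrix.cons_val', _root_.Matrix.cons_val_fin_one, _root_.Matrix.cons_val_zero, _root_.mul_one, _root_.Matrix.cons_val_one, _root_.MulZeroClass.mul_zero, _root_.add_zero, _root_.Matrix.cons_val]
    linear_combination (α + α ^ 2) * hα + (1 + α + α ^ 2 + α ^ 3 + α ^ 4) * h2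
  · simp only [Matrix.mul_apply, Fin.sum_univ_four, _root_.Fin.zero_eta, _root_.Fin.isValue, _root_.Fin.mk_one, _root_.Matrix.of_apply, _root_.Matrix.cons_val', _root_.Matrix.cons_val_fin_one, _root_.Matrix.cons_val_zero, _root_.Matrix.cons_val_one, _root_.MulZeroClass.mul_zero, _root_.mul_one, _root_.zero_add, _root_.Matrix.cons_val, _root_.add_zero]
    linear_combination (1) * hα + (1) * h2
  · simp [Matrix.mul_apply, Fin.sum_univ_four]
  · simp [Matrix.mul_apply, Fin.sum_univ_four]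
  · simp only [Matrix.mul_apply, Fin.sum_univ_four, _root_.Fin.mk_one, _root_.Fin.isValue, _root_.Fin.zero_eta, _root_.Matrix.of_apply, _root_.Matrix.cons_val', _root_.Matrix.cons_val_fin_one, _root_.Matrix.cons_val_one, _root_.Matrix.cons_val_zero, _root_.mul_one, _root_.MulZeroClass.mul_zero, _root_.add_zero, _root_.Matrix.cons_val, _root_.one_mul, _root_.zero_add]
    linear_combination (1) * hα + (α + α ^ 2 + α ^ 4) * h2
  · simp only [Matrix.mul_apply, Fin.sum_univ_four, _root_.Fin.mk_one, _root_.Fin.isValue, _root_.Matrix.of_apply, _root_.Matrix.cons_val', _root_.Matrix.cons_val_fin_one, _root_.Matrix.cons_val_one, _root_.Matrix.cons_val_zero, _root_.MulZeroClass.mul_zero, _root_.mul_one, _root_.zero_add, _root_.Matrix.cons_val, _root_.add_zero]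
    ring
  · simp [Matrix.mul_apply, Fin.sum_univ_four]
  · simp [Matrix.mul_apply, Fin.sum_univ_four]
  · simp only [Matrix.mul_apply, Fin.sum_univ_four, _root_.Fin.reduceFinMk, _root_.Fin.zero_eta, _root_.Fin.isValue, _root_.Matrix.of_apply, _root_.Matrix.cons_val', _root_.Matrix.cons_val_fin_one, _root_.Matrix.cons_val, _root_.Matrix.cons_val_one, _root_.Matrix.cons_val_zero, _root_.mul_one, _root_.MulZeroClass.mul_zero, _root_.add_zero, _root_.one_mul, _root_.zero_add]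
    ring
  · simp [Matrix.mul_apply, Fin.sum_univ_four]
  · simp [Matrix.mul_apply, Fin.sum_univ_four]
  · simp [Matrix.mul_apply, Fin.sum_univ_four]
  · simp [Matrix.mul_apply, Fin.sum_univ_four]
  · simp [Matrix.mul_apply, Fin.sum_univ_four]
  · simp [Matrix.mul_apply, Fin.sum_univ_four]
  · simp [Matrix.mul_apply, Fin.sum_univ_four]

theorem mul_YY (h2 : (2 : F) = 0) {α : F} (hα : α ^ (5:ℕ) = α ^ (2:ℕ) + 1) :
    (!![α ^ (3:ℕ) + α ^ (2:ℕ) + 1, α ^ (2:ℕ) + α + 1, 1, 0;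
    α ^ (3:ℕ) + 1, α ^ (3:ℕ) + α ^ (2:ℕ), 0, 1;
    α ^ (3:ℕ) + α ^ (2:ℕ) + 1, 0, α ^ (3:ℕ) + α ^ (2:ℕ), α ^ (2:ℕ) + α + 1;
    0, α ^ (3:ℕ) + α ^ (2:ℕ) + 1, α ^ (3:ℕ) + 1, α ^ (3:ℕ) + α ^ (2:ℕ) + 1] : Matrix (Fin 4) (Fin 4) F) *
    !![α ^ (3:ℕ) + α ^ (2:ℕ) + 1, α ^ (2:ℕ) + α + 1, 1, 0;
    α ^ (3:ℕ) + 1, α ^ (3:ℕ) + α ^ (2:ℕ), 0, 1;
    α ^ (3:ℕ) + α ^ (2:ℕ) + 1, 0, α ^ (3:ℕ) + α ^ (2:ℕ), α ^ (2:ℕ) + α + 1;
    0, α ^ (3:ℕ) + α ^ (2:ℕ) + 1, α ^ (3:ℕ) + 1, α ^ (3:ℕ) + α ^ (2:ℕ) + 1] =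
    !![α ^ (3:ℕ) + α ^ (2:ℕ), α ^ (2:ℕ) + α + 1, 1, 0;
    α ^ (3:ℕ) + 1, α ^ (3:ℕ) + α ^ (2:ℕ) + 1, 0, 1;
    α ^ (3:ℕ) + α ^ (2:ℕ) + 1, 0, α ^ (3:ℕ) + α ^ (2:ℕ) + 1, α ^ (2:ℕ) + α + 1;
    0, α ^ (3:ℕ) + α ^ (2:ℕ) + 1, α ^ (3:ℕ) + 1, α ^ (3:ℕ) + α ^ (2:ℕ)] := by
  ext i j
  fin_cases i <;> fin_cases j
  · simp only [Matrix.mul_apply, Fin.sum_univ_four, _root_.Fin.zero_eta, _root_.Fin.isValue, _root_.Matrix.of_apply, _root_.Matrix.cons_val', _root_.Matrix.cons_val_fin_one, _root_.Matrix.cons_val_zero, _root_.Matrix.cons_val_one, _root_.Matrix.cons_val, _root_.one_mul, _root_.MulZeroClass.mul_zero, _root_.add_zero]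
    linear_combination (1 + α) * hα + (2 * 1 + α + 2 * α ^ 2 + 2 * α ^ 3 + α ^ 4 + α ^ 5) * h2
  · simp only [Matrix.mul_apply, Fin.sum_univ_four, _root_.Fin.zero_eta, _root_.Fin.isValue, _root_.Fin.mk_one, _root_.Matrix.of_apply, _root_.Matrix.cons_val', _root_.Matrix.cons_val_fin_one, _root_.Matrix.cons_val_zero, _root_.Matrix.cons_val_one, _root_.Matrix.cons_val, _root_.MulZeroClass.mul_zero, _root_.add_zero, _root_.MulZeroClass.zero_mul]
    linear_combination (0) * hα + (α ^ 2 + 2 * α ^ 3 + 2 * α ^ 4 + α ^ 5) * h2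
  · simp only [Matrix.mul_apply, Fin.sum_univ_four, _root_.Fin.zero_eta, _root_.Fin.isValue, _root_.Fin.reduceFinMk, _root_.Matrix.of_apply, _root_.Matrix.cons_val', _root_.Matrix.cons_val_fin_one, _root_.Matrix.cons_val_zero, _root_.Matrix.cons_val, _root_.mul_one, _root_.Matrix.cons_val_one, _root_.MulZeroClass.mul_zero, _root_.add_zero, _root_.one_mul, _root_.MulZeroClass.zero_mul]
    linear_combination (0) * hα + (α ^ 2 + α ^ 3) * h2
  · simp only [Matrix.mul_apply, Fin.sum_univ_four, _root_.Fin.zero_eta, _root_.Fin.isValue, _root_.Fin.reduceFinMk, _root_.Matrix.of_apply, _root_.Matrix.cons_val', _root_.Matrix.cons_val_fin_one, _root_.Matrix.cons_val_zero, _root_.Matrix.cons_val, _root_.MulZeroClass.mul_zero, _root_.Matrix.cons_val_one, _root_.mul_one, _root_.zero_add, _root_.one_mul, _root_.MulZeroClass.zero_mul, _root_.add_zero]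
    linear_combination (0) * hα + (1 + α + α ^ 2) * h2
  · simp only [Matrix.mul_apply, Fin.sum_univ_four, _root_.Fin.mk_one, _root_.Fin.isValue, _root_.Fin.zero_eta, _root_.Matrix.of_apply, _root_.Matrix.cons_val', _root_.Matrix.cons_val_fin_one, _root_.Matrix.cons_val_one, _root_.Matrix.cons_val_zero, _root_.Matrix.cons_val, _root_.MulZeroClass.zero_mul, _root_.add_zero, _root_.MulZeroClass.mul_zero]
    linear_combination (0) * hα + (α ^ 2 + α ^ 3 + α ^ 5 + α ^ 6) * h2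
  · simp only [Matrix.mul_apply, Fin.sum_univ_four, _root_.Fin.mk_one, _root_.Fin.isValue, _root_.Matrix.of_apply, _root_.Matrix.cons_val', _root_.Matrix.cons_val_fin_one, _root_.Matrix.cons_val_one, _root_.Matrix.cons_val_zero, _root_.Matrix.cons_val, _root_.MulZeroClass.mul_zero, _root_.add_zero, _root_.one_mul, _root_.add_eq_right]
    linear_combination (1 + α) * hα + (1 + α + α ^ 2 + α ^ 3 + α ^ 4 + α ^ 5) * h2
  · simp only [Matrix.mul_apply, Fin.sum_univ_four, _root_.Fin.mk_one, _root_.Fin.isValue, _root_.Fin.reduceFinMk, _root_.Matrix.of_apply, _root_.Matrix.cons_val', _root_.Matrix.cons_val_fin_one, _root_.Matrix.cons_val_one, _root_.Matrix.cons_val_zero, _root_.Matrix.cons_val, _root_.mul_one, _root_.MulZeroClass.mul_zero, _root_.add_zero, _root_.MulZeroClass.zero_mul, _root_.one_mul]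
    linear_combination (0) * hα + (1 + α ^ 3) * h2
  · simp only [Matrix.mul_apply, Fin.sum_univ_four, _root_.Fin.mk_one, _root_.Fin.isValue, _root_.Fin.reduceFinMk, _root_.Matrix.of_apply, _root_.Matrix.cons_val', _root_.Matrix.cons_val_fin_one, _root_.Matrix.cons_val_one, _root_.Matrix.cons_val_zero, _root_.Matrix.cons_val, _root_.MulZeroClass.mul_zero, _root_.mul_one, _root_.zero_add, _root_.MulZeroClass.zero_mul, _root_.add_zero, _root_.one_mul]
    linear_combination (0) * hα + (α ^ 2 + α ^ 3) * h2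
  · simp only [Matrix.mul_apply, Fin.sum_univ_four, _root_.Fin.reduceFinMk, _root_.Fin.zero_eta, _root_.Fin.isValue, _root_.Matrix.of_apply, _root_.Matrix.cons_val', _root_.Matrix.cons_val_fin_one, _root_.Matrix.cons_val, _root_.Matrix.cons_val_one, _root_.Matrix.cons_val_zero, _root_.MulZeroClass.zero_mul, _root_.add_zero, _root_.MulZeroClass.mul_zero]
    linear_combination (0) * hα + (α ^ 2 + α ^ 3 + α ^ 4 + 2 * α ^ 5 + α ^ 6) * h2
  · simp only [Matrix.mul_apply, Fin.sum_univ_four, _root_.Fin.reduceFinMk, _root_.Fin.mk_one, _root_.Fin.isValue, _root_.Matrix.of_apply, _root_.Matrix.cons_val', _root_.Matrix.cons_val_fin_one, _root_.Matrix.cons_val, _root_.Matrix.cons_val_one, _root_.Matrix.cons_val_zero, _root_.MulZeroClass.zero_mul, _root_.add_zero, _root_.MulZeroClass.mul_zero]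
    linear_combination (0) * hα + (1 + α + 2 * α ^ 2 + 2 * α ^ 3 + 2 * α ^ 4 + α ^ 5) * h2
  · simp only [Matrix.mul_apply, Fin.sum_univ_four, _root_.Fin.reduceFinMk, _root_.Fin.isValue, _root_.Matrix.of_apply, _root_.Matrix.cons_val', _root_.Matrix.cons_val_fin_one, _root_.Matrix.cons_val, _root_.Matrix.cons_val_one, _root_.Matrix.cons_val_zero, _root_.mul_one, _root_.MulZeroClass.mul_zero, _root_.add_zero]
    linear_combination (1 + α) * hα + (1 + α + α ^ 2 + α ^ 3 + α ^ 4 + α ^ 5) * h2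
  · simp only [Matrix.mul_apply, Fin.sum_univ_four, _root_.Fin.reduceFinMk, _root_.Fin.isValue, _root_.Matrix.of_apply, _root_.Matrix.cons_val', _root_.Matrix.cons_val_fin_one, _root_.Matrix.cons_val, _root_.Matrix.cons_val_one, _root_.Matrix.cons_val_zero, _root_.MulZeroClass.mul_zero, _root_.mul_one, _root_.add_zero, _root_.zero_add]
    linear_combination (0) * hα + (α ^ 2 + 2 * α ^ 3 + 2 * α ^ 4 + α ^ 5) * h2
  · simp only [Matrix.mul_apply, Fin.sum_univ_four, _root_.Fin.reduceFinMk, _root_.Fin.zero_eta, _root_.Fin.isValue, _root_.Matrix.of_apply, _root_.Matrix.cons_val', _root_.Matrix.cons_val_fin_one, _root_.Matrix.cons_val, _root_.Matrix.cons_val_one, _root_.Matrix.cons_val_zero, _root_.MulZeroClass.zero_mul, _root_.zero_add, _root_.MulZeroClass.mul_zero, _root_.add_zero]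
    linear_combination (0) * hα + (1 + α ^ 2 + 2 * α ^ 3 + α ^ 5 + α ^ 6) * h2
  · simp only [Matrix.mul_apply, Fin.sum_univ_four, _root_.Fin.reduceFinMk, _root_.Fin.mk_one, _root_.Fin.isValue, _root_.Matrix.of_apply, _root_.Matrix.cons_val', _root_.Matrix.cons_val_fin_one, _root_.Matrix.cons_val, _root_.Matrix.cons_val_one, _root_.Matrix.cons_val_zero, _root_.MulZeroClass.zero_mul, _root_.zero_add, _root_.MulZeroClass.mul_zero, _root_.add_zero]
    linear_combination (0) * hα + (α ^ 2 + α ^ 3 + α ^ 4 + 2 * α ^ 5 + α ^ 6) * h2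
  · simp only [Matrix.mul_apply, Fin.sum_univ_four, _root_.Fin.reduceFinMk, _root_.Fin.isValue, _root_.Matrix.of_apply, _root_.Matrix.cons_val', _root_.Matrix.cons_val_fin_one, _root_.Matrix.cons_val, _root_.Matrix.cons_val_one, _root_.Matrix.cons_val_zero, _root_.mul_one, _root_.MulZeroClass.mul_zero, _root_.add_zero, _root_.zero_add]
    linear_combination (0) * hα + (α ^ 2 + α ^ 3 + α ^ 5 + α ^ 6) * h2
  · simp only [Matrix.mul_apply, Fin.sum_univ_four, _root_.Fin.reduceFinMk, _root_.Fin.isValue, _root_.Matrix.of_apply, _root_.Matrix.cons_val', _root_.Matrix.cons_val_fin_one, _root_.Matrix.cons_val, _root_.Matrix.cons_val_one, _root_.Matrix.cons_val_zero, _root_.MulZeroClass.mul_zero, _root_.mul_one, _root_.zero_add]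
    linear_combination (1 + α) * hα + (2 * 1 + α + 2 * α ^ 2 + 2 * α ^ 3 + α ^ 4 + α ^ 5) * h2

theorem conjJ (A : Matrix (Fin 4) (Fin 4) F) : J F * Aᵀ * J F =
    !![A 3 3, A 2 3, A 1 3, A 0 3; A 3 2, A 2 2, A 1 2, A 0 2; A 3 1, A 2 1, A 1 1, A 0 1;
      A 3 0, A 2 0, A 1 0, A 0 0] := by
  ext i j
  rw [Matrix.mul_apply, Fin.sum_univ_four, Matrix.mul_apply, Matrix.mul_apply, Matrix.mul_apply, Matrix.mul_apply,
    Fin.sum_univ_four, Fin.sum_univ_four, Fin.sum_univ_four, Fin.sum_univ_four]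
  (revert i j; simp only [J, Matrix.transpose_apply, _root_.Fin.forall_fin_succ, Fin.isValue, _root_.Matrix.of_apply, _root_.Matrix.cons_val', _root_.Matrix.cons_val_zero, _root_.Matrix.cons_val_fin_one, _root_.Matrix.cons_val_one, _root_.Matrix.cons_val, _root_.MulZeroClass.mul_zero, _root_.add_zero, _root_.mul_one, _root_.zero_add, _root_.Matrix.cons_val_succ, _root_.forall_const, _root_.MulZeroClass.zero_mul, _root_.one_mul, _root_.and_self, _root_.implies_true])

theorem add_Y (h2 : (2 : F) = 0) {α : F} :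
    (!![α ^ (3:ℕ) + α ^ (2:ℕ), α ^ (2:ℕ) + α, α ^ (2:ℕ) + α + 1, α ^ (4:ℕ) + 1;
    α ^ (3:ℕ) + 1, α ^ (3:ℕ) + α ^ (2:ℕ) + 1, 1, α ^ (2:ℕ) + α;
    α ^ (3:ℕ) + α ^ (2:ℕ) + α + 1, α, 1, 1;
    α ^ (3:ℕ) + α ^ (2:ℕ) + 1, α, 0, 1] : Matrix (Fin 4) (Fin 4) F) +
    J F * (!![α ^ (3:ℕ) + α ^ (2:ℕ), α ^ (2:ℕ) + α, α ^ (2:ℕ) + α + 1, α ^ (4:ℕ) + 1;
    α ^ (3:ℕ) + 1, α ^ (3:ℕ) + α ^ (2:ℕ) + 1, 1, α ^ (2:ℕ) + α;
    α ^ (3:ℕ) + α ^ (2:ℕ) + α + 1, α, 1, 1;
    α ^ (3:ℕ) + α ^ (2:ℕ) + 1, α, 0, 1] : Matrix (Fin 4) (Fin 4) F)ᵀ * J F =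
    !![α ^ (3:ℕ) + α ^ (2:ℕ) + 1, α ^ (2:ℕ) + α + 1, 1, 0;
    α ^ (3:ℕ) + 1, α ^ (3:ℕ) + α ^ (2:ℕ), 0, 1;
    α ^ (3:ℕ) + α ^ (2:ℕ) + 1, 0, α ^ (3:ℕ) + α ^ (2:ℕ), α ^ (2:ℕ) + α + 1;
    0, α ^ (3:ℕ) + α ^ (2:ℕ) + 1, α ^ (3:ℕ) + 1, α ^ (3:ℕ) + α ^ (2:ℕ) + 1] := by
  rw [conjJ]
  ext i j
  fin_cases i <;> fin_cases j
  · simp
  · simp
  · simp
    linear_combination (α + α ^ 2) * h2
  · simp only [_root_.Fin.isValue, _root_.Matrix.of_apply, _root_.Matrix.cons_val', _root_.Matrix.cons_val, _root_.Matrix.cons_val_fin_one, _root_.Matrix.cons_val_one, _root_.Matrix.cons_val_zero, _root_.Fin.zero_eta, _root_.Fin.reduceFinMk, _root_.Matrix.add_apply]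
    linear_combination (1 + α ^ 4) * h2
  · simp
  · simp only [_root_.Fin.isValue, _root_.Matrix.of_apply, _root_.Matrix.cons_val', _root_.Matrix.cons_val, _root_.Matrix.cons_val_fin_one, _root_.Matrix.cons_val_one, _root_.Matrix.cons_val_zero, _root_.Fin.mk_one, _root_.Matrix.add_apply]
    linear_combination (1) * h2
  · simp only [_root_.Fin.isValue, _root_.Matrix.of_apply, _root_.Matrix.cons_val', _root_.Matrix.cons_val, _root_.Matrix.cons_val_fin_one, _root_.Matrix.cons_val_one, _root_.Matrix.cons_val_zero, _root_.Fin.mk_one, _root_.Fin.reduceFinMk, _root_.Matrix.add_apply]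
    linear_combination (1) * h2
  · simp
    linear_combination (α + α ^ 2) * h2
  · simp only [_root_.Fin.isValue, _root_.Matrix.of_apply, _root_.Matrix.cons_val', _root_.Matrix.cons_val, _root_.Matrix.cons_val_fin_one, _root_.Matrix.cons_val_one, _root_.Matrix.cons_val_zero, _root_.Fin.reduceFinMk, _root_.Fin.zero_eta, _root_.Matrix.add_apply]
    linear_combination (α) * h2
  · simp only [_root_.Fin.isValue, _root_.Matrix.of_apply, _root_.Matrix.cons_val', _root_.Matrix.cons_val, _root_.Matrix.cons_val_fin_one, _root_.Matrix.cons_val_one, _root_.Matrix.cons_val_zero, _root_.Fin.reduceFinMk, _root_.Fin.mk_one, _root_.Matrix.add_apply]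
    linear_combination (α) * h2
  · simp only [_root_.Fin.isValue, _root_.Matrix.of_apply, _root_.Matrix.cons_val', _root_.Matrix.cons_val, _root_.Matrix.cons_val_fin_one, _root_.Matrix.cons_val_one, _root_.Matrix.cons_val_zero, _root_.Fin.reduceFinMk, _root_.Matrix.add_apply]
    linear_combination (1) * h2
  · simp only [_root_.Fin.isValue, _root_.Matrix.of_apply, _root_.Matrix.cons_val', _root_.Matrix.cons_val, _root_.Matrix.cons_val_fin_one, _root_.Matrix.cons_val_one, _root_.Matrix.cons_val_zero, _root_.Fin.reduceFinMk, _root_.Matrix.add_apply]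
    ring
  · simp only [_root_.Fin.isValue, _root_.Matrix.of_apply, _root_.Matrix.cons_val', _root_.Matrix.cons_val, _root_.Matrix.cons_val_fin_one, _root_.Matrix.cons_val_one, _root_.Matrix.cons_val_zero, _root_.Fin.reduceFinMk, _root_.Fin.zero_eta, _root_.Matrix.add_apply]
    linear_combination (1 + α ^ 2 + α ^ 3) * h2
  · simp only [_root_.Fin.isValue, _root_.Matrix.of_apply, _root_.Matrix.cons_val', _root_.Matrix.cons_val, _root_.Matrix.cons_val_fin_one, _root_.Matrix.cons_val_one, _root_.Matrix.cons_val_zero, _root_.Fin.reduceFinMk, _root_.Fin.mk_one, _root_.Matrix.add_apply]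
    linear_combination (α) * h2
  · simp
  · simp only [_root_.Fin.isValue, _root_.Matrix.of_apply, _root_.Matrix.cons_val', _root_.Matrix.cons_val, _root_.Matrix.cons_val_fin_one, _root_.Matrix.cons_val_one, _root_.Matrix.cons_val_zero, _root_.Fin.reduceFinMk, _root_.Matrix.add_apply]
    ring

theorem add_YI (h2 : (2 : F) = 0) {α : F} :
    (!![α ^ (3:ℕ) + α ^ (2:ℕ), α ^ (2:ℕ) + α + 1, 1, 0;
    α ^ (3:ℕ) + 1, α ^ (3:ℕ) + α ^ (2:ℕ) + 1, 0, 1;
    α ^ (3:ℕ) + α ^ (2:ℕ) + 1, 0, α ^ (3:ℕ) + α ^ (2:ℕ) + 1, α ^ (2:ℕ) + α + 1;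
    0, α ^ (3:ℕ) + α ^ (2:ℕ) + 1, α ^ (3:ℕ) + 1, α ^ (3:ℕ) + α ^ (2:ℕ)] : Matrix (Fin 4) (Fin 4) F) =
    !![α ^ (3:ℕ) + α ^ (2:ℕ) + 1, α ^ (2:ℕ) + α + 1, 1, 0;
    α ^ (3:ℕ) + 1, α ^ (3:ℕ) + α ^ (2:ℕ), 0, 1;
    α ^ (3:ℕ) + α ^ (2:ℕ) + 1, 0, α ^ (3:ℕ) + α ^ (2:ℕ), α ^ (2:ℕ) + α + 1;
    0, α ^ (3:ℕ) + α ^ (2:ℕ) + 1, α ^ (3:ℕ) + 1, α ^ (3:ℕ) + α ^ (2:ℕ) + 1] + 1 := by
  ext i j
  fin_cases i <;> fin_cases j
  · simp only [_root_.Fin.zero_eta, _root_.Fin.isValue, _root_.Matrix.of_apply, _root_.Matrix.cons_val', _root_.Matrix.cons_val_zero, _root_.Matrix.cons_val_fin_one, _root_.Matrix.add_apply, _root_.Matrix.one_apply_eq]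
    linear_combination (-1) * h2
  · simp
  · simp
  · simp
  · simp
  · simp
  · simp
  · simp
  · simp
  · simp
  · simp
  · simp
  · simp
  · simp
  · simp
  · simp only [_root_.Fin.reduceFinMk, _root_.Matrix.of_apply, _root_.Fin.isValue, _root_.Matrix.cons_val', _root_.Matrix.cons_val, _root_.Matrix.cons_val_fin_one, _root_.Matrix.cons_val_one, _root_.Matrix.add_apply, _root_.Matrix.one_apply_eq]
    linear_combination (-1) * h2

end Mat

/-- `M ^ 5 = 1` from `Y = M + M⁻¹`, `Y² = Y + 1` in characteristic two -/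
theorem pow_five {R : Type*} [Ring R] (h2 : (2 : R) = 0) {M N : R} (h1 : M * N = 1) (h1' : N * M = 1)
    (h : (M + N) * (M + N) = M + N + 1) : M ^ 5 = 1 := by
  have hneg : ∀ x : R, x + x = 0 := fun x => by rw [← two_mul, h2, zero_mul]
  have e1 : M * M + N * N = M + N + 1 := by
    have h3 : (M + N) * (M + N) = M * M + N * N + (M * N + N * M) := by noncomm_ring
    rwa [h3, h1, h1', hneg, add_zero] at h
  have e2 : M ^ 4 + 1 = M ^ 3 + M + M ^ 2 := by
    have h3 : (M * M + N * N) * (M * M) = M ^ 4 + N * (N * M) * M := by noncomm_ring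
    have h4 : (M + N + 1) * (M * M) = M ^ 3 + N * M * M + M ^ 2 := by noncomm_ring
    rw [e1, h4, h1', one_mul, mul_one, h1'] at h3
    exact h3.symm
  have e3 : M ^ 5 + M = M ^ 4 + M ^ 2 + M ^ 3 := by
    have h3 : (M ^ 4 + 1) * M = M ^ 5 + M := by noncomm_ring
    have h4 : (M ^ 3 + M + M ^ 2) * M = M ^ 4 + M ^ 2 + M ^ 3 := by noncomm_ring
    rw [← h3, e2, h4]
  have e4 : M ^ 5 = 1 + ((M ^ 3 + M ^ 3) + (M ^ 2 + M ^ 2) - (1 + 1)) := by
    have h3 : M ^ 5 = M ^ 4 + M ^ 2 + M ^ 3 - M := eq_sub_of_add_eq e3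
    have h4 : M ^ 4 = M ^ 3 + M + M ^ 2 - 1 := eq_sub_of_add_eq e2
    rw [h3, h4]
    abel
  have e5 : (1 : R) + 1 = 0 := hneg 1
  rw [e4, hneg (M ^ 3), hneg (M ^ 2), e5]
  simp

/-- natural exponents -/
theorem exists_nat_pow {G : Type*} [Group G] {p : ℕ} (hp : 0 < p) {a : G} (h : a ^ p = 1) (j : ℤ) :
    ∃ m : ℕ, a ^ j = a ^ m := by
  refine ⟨(j % (p : ℤ)).toNat, ?_⟩
  have h1 : ((j % (p : ℤ)).toNat : ℤ) = j % (p : ℤ) :=
    Int.toNat_of_nonneg (Int.emod_nonneg _ (by exact_mod_cast hp.ne'))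
  rw [← zpow_natCast, h1]
  conv_lhs => rw [← Int.emod_add_mul_ediv j p]
  rw [zpow_add, zpow_mul, zpow_natCast, h, one_zpow, mul_one]

section Group

open Cfsg Cfsg.Agent.LieRecognition.SzMatrix Cfsg.Agent.H967.CopMat Cfsg.Agent.H967.CopSz
open Cfsg.Agent.H957.T5M Cfsg.Agent.H106.MT Cfsg.Agent.H533.T5 Cfsg.Agent.H28.T5RankOne

variable {F : Type} [Field F] [Fintype F] (hF : Fintype.card F = 2 ^ (2 * 2 + 1))

theorem fieldAut_u (σ : F ≃+* F) (a b : F) :
    fieldAut (stab_sz hF) σ ((good hF).u a b) = (good hF).u (σ a) (σ b) :=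
  H70.SzOut.fieldAut_u (good hF) σ a b

theorem fieldAut_w (σ : F ≃+* F) : fieldAut (stab_sz hF) σ (good hF).w = (good hF).w :=
  H70.SzOut.fieldAut_w (good hF) σ

open scoped Matrix in
/-- the element of order `5` -/
theorem x0_pow {α : F} (hα : α ^ 5 = α ^ 2 + 1) :
    ((good hF).u 1 (α ^ 2 + α + 1) * ((good hF).w * (good hF).u 0 α * (good hF).w)) ^ 5 = 1 ∧
      (good hF).u 1 (α ^ 2 + α + 1) * ((good hF).w * (good hF).u 0 α * (good hF).w) ≠ 1 := by
  have h2 : (2 : F) = 0 := (good hF).two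
  have hθ : theta hF α = α ^ 3 + α ^ 2 + 1 := by
    rw [theta_apply]
    linear_combination (α ^ 3 + 1) * hα
  obtain ⟨x, hx⟩ : ∃ x, x = (good hF).u 1 (α ^ 2 + α + 1) * ((good hF).w * (good hF).u 0 α * (good hF).w) := ⟨_, rfl⟩
  have hU : Umat (theta hF) 1 (α ^ 2 + α + 1) = !![1, 1, α ^ 2 + α + 1, α ^ 4 + 1;
    0, 1, 1, α ^ 2 + α;
    0, 0, 1, 1;
    0, 0, 0, 1] := by
    have e1 : 1 * (α ^ 2 + α + 1) + 1 ^ 2 * theta hF 1 + theta hF (α ^ 2 + α + 1) = α ^ 4 + 1 := by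
      rw [map_add, map_add, map_pow, map_one, hθ]
      linear_combination (α) * hα + (2 * 1 + α + 2 * α ^ 2 + 2 * α ^ 3 + α ^ 5) * h2
    have e2 : α ^ 2 + α + 1 + 1 * theta hF 1 = α ^ 2 + α := by
      rw [map_one]
      linear_combination h2
    rw [Umat_def, e1, e2, map_one]
  have hL : J F * Umat (theta hF) 0 α * J F = !![1, 0, 0, 0;
    0, 1, 0, 0;
    α, 0, 1, 0;
    α ^ 3 + α ^ 2 + 1, α, 0, 1] := by
    rw [Umat_def]
    ext i j
    (revert i j; simp only [J, Matrix.mul_apply, Fin.sum_univ_four, hθ, _root_.Fin.forall_fin_succ, _root_.MulZeroClass.zero_mul, _root_.ne_eq, _root_.OfNat.ofNat_ne_zero, _root_.not_false_eq_true, _root_.zero_pow, _root_.map_zero, _root_.MulZeroClass.mul_zero, _root_.add_zero, _root_.zero_add, _root_.Matrix.cons_mul, _root_.Nat.succ_eq_add_one, Nat.reduceAdd, _root_.Matrix.vecMul_cons, _root_.Matrix.head_cons, _root_.zero_smul, _root_.Matrix.tail_cons, _root_.one_smul, _root_.Matrix.empty_vecMul,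 _root_.Matrix.empty_mul, _root_.Equiv.symm_apply_apply, _root_.Matrix.of_apply, _root_.Matrix.cons_val', _root_.Matrix.cons_val_fin_one, Fin.isValue, _root_.Matrix.cons_val_zero, _root_.Matrix.cons_val_one, _root_.Matrix.cons_val, _root_.mul_one, _root_.Matrix.cons_val_succ, _root_.implies_true, _root_.and_self])
  have hM : (x.1 : Matrix (Fin 4) (Fin 4) F) = !![α ^ 3 + α ^ 2, α ^ 2 + α, α ^ 2 + α + 1, α ^ 4 + 1;
    α ^ 3 + 1, α ^ 3 + α ^ 2 + 1, 1, α ^ 2 + α;
    α ^ 3 + α ^ 2 + α + 1, α, 1, 1;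
    α ^ 3 + α ^ 2 + 1, α, 0, 1] := by
    rw [hx]
    show Umat (theta hF) 1 (α ^ 2 + α + 1) * (J F * Umat (theta hF) 0 α * J F) = _
    rw [hU, hL, mul_UL h2 hα]
  have hsp : (x.1 : Matrix (Fin 4) (Fin 4) F)ᵀ * J F * (x.1 : Matrix (Fin 4) (Fin 4) F) = J F :=
    (mem_Sp4_iff _).1 ((good hF).mem_Sz.1 x.2).1
  obtain ⟨N, hN⟩ : ∃ N, N = J F * (x.1 : Matrix (Fin 4) (Fin 4) F)ᵀ * J F := ⟨_, rfl⟩
  have h1 : N * (x.1 : Matrix (Fin 4) (Fin 4) F) = 1 := by
    rw [hN, Matrix.mul_assoc, Matrix.mul_assoc, ← Matrix.mul_assoc (_)ᵀ, hsp, J_mul_J]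
  have h1' : (x.1 : Matrix (Fin 4) (Fin 4) F) * N = 1 := mul_eq_one_comm.1 h1
  have hY : (x.1 : Matrix (Fin 4) (Fin 4) F) + N = !![α ^ 3 + α ^ 2 + 1, α ^ 2 + α + 1, 1, 0;
    α ^ 3 + 1, α ^ 3 + α ^ 2, 0, 1;
    α ^ 3 + α ^ 2 + 1, 0, α ^ 3 + α ^ 2, α ^ 2 + α + 1;
    0, α ^ 3 + α ^ 2 + 1, α ^ 3 + 1, α ^ 3 + α ^ 2 + 1] := by
    rw [hN, hM, add_Y h2]
  have hm2 : (2 : Matrix (Fin 4) (Fin 4) F) = 0 := by
    have h3 : (2 : Matrix (Fin 4) (Fin 4) F) = algebraMap F _ (2 : F) := (map_ofNat _ 2).symm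
    rw [h3, h2, map_zero]
  have h5 := pow_five hm2 h1' h1 (by rw [hY, mul_YY h2 hα, add_YI h2])
  rw [← hx]
  refine ⟨Subtype.ext (Units.ext ?_), fun h => ?_⟩
  · rw [SubmonoidClass.coe_pow, Units.val_pow_eq_pow_val, h5]
    rfl
  · have h6 : (x.1 : Matrix (Fin 4) (Fin 4) F) 1 2 = 1 := by rw [hM]; rfl
    rw [h] at h6
    have h7 : ((1 : Matrix (Fin 4) (Fin 4) F)) 1 2 = 1 := h6
    simp at h7

include hF in
/-- the automorphism of order `5` -/
theorem exists_frob {α : F} (hα : α ^ 5 = α ^ 2 + 1) : ∃ φ : F ≃+* F, orderOf φ = 5 ∧ ∀ a, φ a = a ^ 2 := by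
  have h2p : Fact (Nat.Prime 2) := ⟨Nat.prime_two⟩
  have hcF : CharP F 2 := charP_of_card Nat.prime_two hF
  have hpf : PerfectRing F 2 := inferInstance
  have h5p : Fact (Nat.Prime 5) := ⟨Nat.prime_five⟩
  have hap : ∀ a : F, frobeniusEquiv F 2 a = a ^ 2 := fun a => frobeniusEquiv_def F 2 a
  refine ⟨frobeniusEquiv F 2, orderOf_eq_prime ?_ ?_, hap⟩
  · rw [← iterateFrobeniusEquiv_eq_pow]
    ext a
    rw [iterateFrobeniusEquiv_def]
    have h1 := FiniteField.pow_card a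
    rw [hF] at h1
    exact h1
  · intro h
    have h1 : α ^ 2 = α := by
      rw [← hap, h]
      rfl
    have h2 : (1 : F) = 0 := by linear_combination (α ^ 3 + α ^ 2 + α + 1 - 1) * h1 - hα
    exact one_ne_zero h2

/-- **The pair.** -/
theorem mpair_base {φ : F ≃+* F} (hφ : ∀ a, φ a = a ^ 2) {α : F} (hα : α ^ 5 = α ^ 2 + 1) :
    MPair 5 (MulAut.conj : ↥(Cfsg.Lie.Sz F (2 ^ (2 + 1))) →* _).range
      (MulAut.conj ((good hF).u 1 (α ^ 2 + α + 1) * ((good hF).w * (good hF).u 0 α * (good hF).w)))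
      (fieldAut (stab_sz hF) φ) := by
  have h2 : (2 : F) = 0 := (good hF).two
  have hs : IsSimpleGroup ↥(Cfsg.Lie.Sz F (2 ^ (2 + 1))) := Cfsg.Agent.S1162.result (by norm_num) hF
  have hinj := conj_injective_of_simple (S := ↥(Cfsg.Lie.Sz F (2 ^ (2 + 1)))) (sz_na (by norm_num) hF)
  obtain ⟨Φ, hΦ⟩ : ∃ Φ, Φ = fieldAut (stab_sz hF) φ := ⟨_, rfl⟩
  rw [← hΦ]
  have hΦu : ∀ a b, Φ ((good hF).u a b) = (good hF).u (a ^ 2) (b ^ 2) := fun a b => by
    rw [hΦ, fieldAut_u, hφ, hφ]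
  have hΦw : Φ (good hF).w = (good hF).w := by rw [hΦ, fieldAut_w]
  have hcg : ∀ y, Φ * MulAut.conj y = MulAut.conj (Φ y) * Φ := fun y => by
    refine MulEquiv.ext fun a => ?_
    rw [MulAut.mul_apply, MulAut.mul_apply, MulAut.conj_apply, MulAut.conj_apply, map_mul, map_mul, map_inv]
  obtain ⟨g, hg⟩ : ∃ g, g = (good hF).w * (good hF).u 0 (α ^ 3) := ⟨_, rfl⟩
  -- `Φ g g⁻¹`
  have h3 : (good hF).w * (good hF).u 0 α * (good hF).w = Φ g * g⁻¹ := by
    have h4 : (good hF).u 0 ((α ^ 3) ^ 2) = (good hF).u 0 α * (good hF).u 0 (α ^ 3) := by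
      rw [(good hF).u_mul, map_zero, mul_zero, add_zero, add_zero]
      congr 1
      linear_combination α * hα
    rw [hg, map_mul, hΦw, hΦu, zero_pow two_ne_zero, h4, mul_inv_rev, (good hF).w_inv]
    group
  refine ⟨MulAut.conj g, ⟨g, rfl⟩, 1, 1, fun k hk => ?_⟩
  obtain ⟨u, hu⟩ : ∃ u, u = (good hF).u 1 (α ^ 2 + α + 1) := ⟨_, rfl⟩
  have h5 : MulAut.conj ((good hF).u 1 (α ^ 2 + α + 1) * ((good hF).w * (good hF).u 0 α * (good hF).w)) ^ 1 *
      (MulAut.conj g * Φ * (MulAut.conj g)⁻¹) ^ 1 = MulAut.conj u * Φ := by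
    rw [pow_one, pow_one, h3, ← hu, ← map_inv, mul_assoc (MulAut.conj g), hcg, map_mul, map_mul, map_inv Φ]
    simp only [map_inv]
    group
  rw [h5] at hk
  -- the fifth power
  have h6 : (MulAut.conj u * Φ) ^ 5 = MulAut.conj (u * Φ u * Φ (Φ u) * Φ (Φ (Φ u)) * Φ (Φ (Φ (Φ u)))) * Φ ^ 5 := by
    have h7 : ∀ y, Φ * MulAut.conj y = MulAut.conj (Φ y) * Φ := hcg
    calc (MulAut.conj u * Φ) ^ 5 = MulAut.conj u * (Φ * MulAut.conj u) * (Φ * MulAut.conj u) * (Φ * MulAut.conj u) *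
          (Φ * MulAut.conj u) * Φ := by simp only [pow_succ, pow_zero, one_mul, mul_assoc]
      _ = MulAut.conj u * MulAut.conj (Φ u) * (Φ * MulAut.conj (Φ u)) * (Φ * MulAut.conj (Φ u)) *
          (Φ * MulAut.conj (Φ u)) * Φ * Φ := by rw [h7]; simp only [mul_assoc]
      _ = MulAut.conj u * MulAut.conj (Φ u) * MulAut.conj (Φ (Φ u)) * (Φ * MulAut.conj (Φ (Φ u))) *
          (Φ * MulAut.conj (Φ (Φ u))) * Φ * Φ * Φ := by rw [h7]; simp only [mul_assoc]
      _ = MulAut.conj u * MulAut.conj (Φ u) * MulAut.conj (Φ (Φ u)) * MulAut.conj (Φ (Φ (Φ u))) *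
          (Φ * MulAut.conj (Φ (Φ (Φ u)))) * Φ * Φ * Φ * Φ := by rw [h7]; simp only [mul_assoc]
      _ = _ := by rw [h7]; simp only [map_mul, pow_succ, pow_zero, one_mul, mul_assoc]
  have hΦ5 : Φ ^ 5 = 1 := by
    rw [hΦ, ← map_pow]
    have h7 : φ ^ 5 = 1 := by
      ext a
      have h8 := FiniteField.pow_card a
      rw [hF] at h8
      have h9 : (φ ^ 5) a = φ (φ (φ (φ (φ a)))) := rfl
      rw [h9, hφ, hφ, hφ, hφ, hφ, ← pow_mul, ← pow_mul, ← pow_mul, ← pow_mul]
      exact h8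
    rw [h7, map_one]
  rw [hΦ5, mul_one] at h6
  obtain ⟨β, hβ⟩ : ∃ β, u * Φ u * Φ (Φ u) * Φ (Φ (Φ u)) * Φ (Φ (Φ (Φ u))) = (good hF).u 1 β := by
    have h7 : ∃ β, u * Φ u * Φ (Φ u) * Φ (Φ (Φ u)) * Φ (Φ (Φ (Φ u))) = (good hF).u (1 + 1 + 1 + 1 + 1) β := by
      rw [hu]
      simp only [hΦu, one_pow, (good hF).u_mul]
      exact ⟨_, rfl⟩
    obtain ⟨β, hβ⟩ := h7
    refine ⟨β, ?_⟩
    rw [hβ]
    congr 1
    linear_combination (2 : F) * h2
  rw [hβ] at h6
  have h8 : (good hF).u 1 β ^ 4 = 1 := by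
    have h9 : (good hF).u 1 β ^ 2 = (good hF).u 0 1 := by
      rw [pow_two, (good hF).u_mul, map_one]
      congr 1
      · linear_combination h2
      · linear_combination β * h2
    have h10 : (good hF).u 1 β ^ 4 = ((good hF).u 1 β ^ 2) ^ 2 := by rw [← pow_mul]
    rw [h10, h9, pow_two, (good hF).u_mul, map_zero, mul_zero, add_zero, add_zero,
      ← (good hF).u_zero]
    congr 1
    linear_combination h2
  have h9 : (MulAut.conj ((good hF).u 1 β)) ^ 5 ^ k = 1 := by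
    rw [← h6, ← pow_mul, mul_comm, pow_mul, hk, one_pow]
  rw [← map_pow] at h9
  have h10 : (good hF).u 1 β ^ 5 ^ k = 1 := hinj (by rw [h9, map_one])
  have h11 : (good hF).u 1 β = 1 := by
    have h12 : orderOf ((good hF).u 1 β) ∣ Nat.gcd 4 (5 ^ k) :=
      Nat.dvd_gcd (orderOf_dvd_of_pow_eq_one h8) (orderOf_dvd_of_pow_eq_one h10)
    have h13 : Nat.gcd 4 (5 ^ k) = 1 := Nat.Coprime.pow_right k (by norm_num)
    rw [h13] at h12
    exact orderOf_eq_one_iff.1 (Nat.dvd_one.1 h12)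
  rw [← (good hF).u_zero] at h11
  exact one_ne_zero ((good hF).u_inj h11).1

include hF in
/-- **Inner against outer.** -/
theorem mpair_io {x : ↥(Cfsg.Lie.Sz F (2 ^ (2 + 1)))} (hx : orderOf x = 5)
    {d : MulAut ↥(Cfsg.Lie.Sz F (2 ^ (2 + 1)))} (hd : orderOf d = 5) (hdo : ¬ ∃ g, d = MulAut.conj g) :
    MPair 5 (MulAut.conj : ↥(Cfsg.Lie.Sz F (2 ^ (2 + 1))) →* _).range (MulAut.conj x) d := by
  have h5p : Fact (Nat.Prime 5) := ⟨Nat.prime_five⟩
  have hcyc : IsCyclic (F ≃+* F) := LieRecognition.FieldSemilinear.isCyclic_ringAut F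
  have hfinR := finite_ringAut F
  obtain ⟨α, hα⟩ := exists_root (F := F) hF (good hF).two
  obtain ⟨φ, hφ5, hφ⟩ := exists_frob hF hα
  obtain ⟨x₀, hx₀⟩ : ∃ x₀, x₀ = (good hF).u 1 (α ^ 2 + α + 1) * ((good hF).w * (good hF).u 0 α * (good hF).w) :=
    ⟨_, rfl⟩
  obtain ⟨h1, h2⟩ := x0_pow hF hα
  have h3 := mpair_base hF hφ hα
  rw [← hx₀] at h1 h2 h3
  have hx₀5 : orderOf x₀ = 5 := orderOf_eq_prime h1 h2
  obtain ⟨P⟩ : Nonempty (Sylow 5 ↥(Cfsg.Lie.Sz F (2 ^ (2 + 1)))) := inferInstance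
  obtain ⟨s, j, hj⟩ := exists_conj_of_cyclic P (sz_cyc (by norm_num) hF (by norm_num) P) hx₀5 hx
  obtain ⟨σ, hσ, g, rfl⟩ := (sz_data (m := 2) (by norm_num) hF (by norm_num)).form hd hdo
  obtain ⟨k, hk⟩ := Subgroup.mem_zpowers_iff.1 (mem_zpowers_of_cyclic Nat.prime_five hφ5 hσ)
  obtain ⟨m, hm⟩ := exists_nat_pow (by norm_num : 0 < 5) (a := s * x * s⁻¹) (by
    rw [conj_pow, ← hx, pow_orderOf_eq_one, mul_one, mul_inv_cancel]) j
  obtain ⟨n, hn⟩ := exists_nat_pow (by norm_num : 0 < 5) (a := σ) (by rw [← hσ, pow_orderOf_eq_one]) k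
  refine MPair.conj_left (s := MulAut.conj s) ⟨s, rfl⟩ (MPair.conj_right (s := MulAut.conj g⁻¹) ⟨g⁻¹, rfl⟩
    (MPair.of_pow m n ?_))
  have e1 : (MulAut.conj s * MulAut.conj x * (MulAut.conj s)⁻¹) ^ m = MulAut.conj x₀ := by
    rw [← map_inv, ← map_mul, ← map_mul, ← map_pow, ← hm, hj]
  have e2 : (MulAut.conj g⁻¹ * (MulAut.conj g * fieldAut (stab_sz hF) σ * (MulAut.conj g)⁻¹) *
      (MulAut.conj g⁻¹)⁻¹) ^ n = fieldAut (stab_sz hF) φ := by
    rw [← hk, hn, map_pow, map_inv]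
    congr 1
    group
  rw [e1, e2]
  exact h3

end Group

section Rows

open Cfsg Cfsg.Agent.LieRecognition.SzMatrix Cfsg.Agent.H967.CopMat Cfsg.Agent.H967.CopSz
open Cfsg.Agent.H957.T5M Cfsg.Agent.H106.MT Cfsg.Agent.H106.MB Cfsg.Agent.H533.T5 Cfsg.Agent.H28.T5RankOne

/-- the middle row of `Sz(32)`, `p = 5` -/
theorem mrow_sz32 {F : Type} [Field F] [Fintype F] (hF : Fintype.card F = 2 ^ (2 * 2 + 1)) (hAA : AAHyp.{0} 5) :
    MRow 5 ↥(Cfsg.Lie.Sz F (2 ^ (2 + 1))) := by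
  have h5p : Fact (Nat.Prime 5) := ⟨Nat.prime_five⟩
  have hcyc : IsCyclic (F ≃+* F) := LieRecognition.FieldSemilinear.isCyclic_ringAut F
  have hfinR := finite_ringAut F
  have hs : IsSimpleGroup ↥(Cfsg.Lie.Sz F (2 ^ (2 + 1))) := Cfsg.Agent.S1162.result (by norm_num) hF
  have hna := sz_na (m := 2) (by norm_num) hF
  have hinj := conj_injective_of_simple (S := ↥(Cfsg.Lie.Sz F (2 ^ (2 + 1)))) hna
  obtain ⟨P⟩ : Nonempty (Sylow 5 ↥(Cfsg.Lie.Sz F (2 ^ (2 + 1)))) := inferInstance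
  intro c d hc hd
  by_cases hci : ∃ g, c = MulAut.conj g
  · obtain ⟨x, rfl⟩ := hci
    by_cases hdi : ∃ g, d = MulAut.conj g
    · obtain ⟨y, rfl⟩ := hdi
      rw [orderOf_injective _ hinj] at hc hd
      have := (mpair_of_cyclic hAA hna P (sz_cyc (by norm_num) hF (by norm_num) P) hc hd).of_injective
        (MulAut.conj : ↥(Cfsg.Lie.Sz F (2 ^ (2 + 1))) →* _) hinj
      rwa [← MonoidHom.range_eq_map] at this
    · rw [orderOf_injective _ hinj] at hc
      exact mpair_io hF hc hd hdi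
  · by_cases hdi : ∃ g, d = MulAut.conj g
    · obtain ⟨y, rfl⟩ := hdi
      rw [orderOf_injective _ hinj] at hd
      exact (mpair_io hF hd hc hci).symm
    · exact mpair_outer_outer hAA Nat.prime_five hna hc
        ((sz_data (m := 2) (by norm_num) hF (by norm_num)).conj hc hd hci hdi)

/-- the AA-theorem in a smaller universe -/
theorem aahyp_down {p : ℕ} (h : AAHyp.{u} p) : AAHyp.{0} p := by
  intro K _ _ x hx hgx
  let e : ULift.{u} K ≃* K := MulEquiv.ulift
  have h1 := h (ULift.{u} K) (e.symm x) (by rw [MulEquiv.orderOf_eq, hx]) (fun g => by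
    obtain ⟨k, hk⟩ := hgx (e g)
    refine ⟨k, e.injective ?_⟩
    rw [map_pow, map_mul, map_mul, map_mul, map_inv, e.apply_symm_apply, hk, map_one])
  have h2 : Subgroup.closure {y : K | ∃ g : K, y = g * x * g⁻¹} =
      (Subgroup.closure {y : ULift.{u} K | ∃ g : ULift.{u} K, y = g * e.symm x * g⁻¹}).map (e : ULift.{u} K →* K) := by
    rw [MonoidHom.map_closure]
    congr 1
    ext y
    constructor
    · rintro ⟨g, rfl⟩
      refine ⟨e.symm g * e.symm x * (e.symm g)⁻¹, ⟨e.symm g, rfl⟩, ?_⟩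
      show e (e.symm g * e.symm x * (e.symm g)⁻¹) = _
      rw [map_mul, map_mul, map_inv, e.apply_symm_apply, e.apply_symm_apply]
    · rintro ⟨_, ⟨g, rfl⟩, rfl⟩
      refine ⟨e g, ?_⟩
      show e (g * e.symm x * g⁻¹) = _
      rw [map_mul, map_mul, map_inv, e.apply_symm_apply]
  rw [h2]
  exact Group.isSolvable_of_surjective (f := (e : ULift.{u} K →* K).subgroupMap _)
    ((e : ULift.{u} K →* K).subgroupMap_surjective _)

/-- **The middle row of `Sz(q)`, `p` odd, `p ∤ q`**. -/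
theorem mrow_sz_all {S : Type u} [Group S] [Finite S] {F : Type} [Field F] [Fintype F] {m : ℕ} (hm : 1 ≤ m)
    (hF : Fintype.card F = 2 ^ (2 * m + 1)) {p : ℕ} (hpp : p.Prime) (hp2 : p ≠ 2)
    (e : S ≃* ↥(Cfsg.Lie.Sz F (2 ^ (m + 1)))) (hAA : AAHyp.{u} p) : MRow p S := by
  by_cases h5 : p = 5 ∧ m = 2
  · obtain ⟨rfl, rfl⟩ := h5
    exact MRow.congr e (mrow_sz32 hF (aahyp_down hAA))
  · exact mrow_sz hm hF hpp hp2 e hAA h5

end Rows

end Cfsg.Agent.H28.T5Sz32
end

-- part: H28/T5TwF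
section
set_option linter.all false
open scoped Cfsg.Agent.FastGrp

/-!
# T5 rows: `²F₄(q)`, `p ≥ 5`

`outerOk_twF4`, `homOk_twF4`, `wrow_twF4`, `mrow_twF4`.
-/

set_option autoImplicit false
set_option linter.unusedSectionVars false

namespace Cfsg.Agent.H28.T5TwF

open Subgroup Cfsg Cfsg.Lie Cfsg.Lie.ChevalleyDatum
open Cfsg.Agent.ChevalleyStructure Cfsg.Agent.ChevalleyStructure.Elts
open Cfsg.Agent.GpExc.Field (glMap emb coe_emb glMap_xG emb_injective coe_glMap)
open Cfsg.Agent.CpAut.RgdUntw (fld fld_coe fld_mul fld_one fld_pow)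
open Cfsg.Agent.BpExc.FamField Cfsg.Agent.BpExc.TowChev
open Cfsg.Agent.BpExc.FamUntw Cfsg.Agent.BpExc.FamInst
open Cfsg.Agent.H296.FFour (hp4 al sg al_phi_sq al_mul_fld lang4 le_fix fix_le gam_F4)
open Cfsg.Agent.ChevalleyStructure.TwF4.TwistedFix (exists_rln)
open Cfsg.Agent.KFacts.RgdChevCoord (TT)
open Cfsg.Agent.H628.ZTwF4Out
open Cfsg.Agent.H533.T5 Cfsg.Agent.H957.T5M Cfsg.Agent.H106.MT
open Cfsg.Agent.H28.T5Ok Cfsg.Agent.H28.T5Mid

universe u

section Main

variable {K : Type} [Field K] [Fintype K] [CharP K 2] [PerfectRing K 2] [h2 : Fact (Nat.Prime 2)] {m : ℕ}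
  (hK : Fintype.card K = 2 ^ (2 * m + 1)) (hm : 1 ≤ m) (f : K →+* AlgebraicClosure (ZMod 2)) {p : ℕ} (hpp : p.Prime)
  (hp2 : p ≠ 2)

/-- the fixed points of `σ` -/
theorem mem_range {z : ↥(chevF4.group (AlgebraicClosure (ZMod 2)))}
    (hz : (al (AlgebraicClosure (ZMod 2)) * phi chevF4 (AlgebraicClosure (ZMod 2)) 2 m) z = z) :
    z ∈ (em hK f).range := by
  have h1 : phi chevF4 (AlgebraicClosure (ZMod 2)) 2 (2 * m + 1) z = z := by
    rw [← al_phi_sq, MulAut.mul_apply, hz, hz]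
  have hn : Nat.card K = 2 ^ (2 * m + 1) := by rw [Nat.card_eq_fintype_card, hK]
  obtain ⟨b, rfl⟩ := H378.TorFin.fix_mem hp4 f 2 hn inv_F4 h1
  have h3 : sg (frb K 2 m) b = b := by
    apply emb_injective hp4.inList f
    rw [← sig_emb, hz]
  have h4 := fix_le hK (τ := frb K 2 m) (fun a => frb_apply K 2 m a) h3
  exact ⟨⟨b, h4⟩, rfl⟩

include hm hpp hp2 in
theorem casesF (x : MulAut ↥(twistedF4 K (2 ^ m))) (hx : orderOf x = p) (hxo : ¬ ∃ g, x = MulAut.conj g) :
    ∃ j s : ℕ, j = (2 * m + 1) / p / 2 ∧ p = 2 * s + 1 ∧ 2 * m + 1 = (2 * j + 1) * p ∧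
      ∃ (i : ℕ) (y : ↥(chevF4.group (AlgebraicClosure (ZMod 2)))), i.Coprime p ∧
      ∀ a, em hK f ((x ^ i) a) = (MulAut.conj y *
        (al (AlgebraicClosure (ZMod 2)) * phi chevF4 (AlgebraicClosure (ZMod 2)) 2 j)) (em hK f a) := by
  obtain ⟨g0, τ0, hx0⟩ := Cfsg.Agent.H71.FldAut.twF4_aut hm hK x
  have hτ : τ0 ≠ 1 := by
    intro hτ
    exact hxo ⟨g0, by rw [hx0, hτ, fldF_one, mul_one]⟩
  have hxp : x ^ p = 1 := by rw [← hx, pow_orderOf_eq_one]
  -- `τ0 ^ p = 1`
  have hτp : τ0 ^ p = 1 := by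
    obtain ⟨g, hg⟩ := pow_form (g0 := g0) (τ := τ0) p
    rw [← hx0, hxp] at hg
    obtain ⟨φ, hφ⟩ := exists_rln hK
    have h1 : ∀ y, g⁻¹ * y * g⁻¹⁻¹ = S2128.fld (τ0 ^ p) (2 ^ m) y := by
      intro y
      have h2 := congrArg (fun β : MulAut ↥(twistedF4 K (2 ^ m)) => g⁻¹ * β y * g) hg
      simp only [MulAut.one_apply, MulAut.mul_apply, MulAut.conj_apply] at h2
      rw [inv_inv, h2]
      group
    have h3 := S2128.eq_one_of_conj (Cfsg.Agent.KFacts.TwF4.Inst.full hK hφ) (g := g⁻¹) (τ := τ0 ^ p)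
      (fun a t => by rw [h1]; exact S2128.fld_ro _ hφ a t) (fun a q u => by rw [h1]; exact S2128.fld_re _ hφ a q u)
    exact RingEquiv.ext h3
  obtain ⟨i, e, hi, he0, hcard, hie⟩ := exists_field 2 hpp hτp hτ
  have hn : Nat.card K = 2 ^ (2 * m + 1) := by rw [Nat.card_eq_fintype_card, hK]
  have h1 : 2 * m + 1 = e * p := by
    rw [hn] at hcard
    exact Nat.pow_right_injective le_rfl hcard
  obtain ⟨s, rfl⟩ : ∃ s, p = 2 * s + 1 := by
    rcases Nat.even_or_odd p with h | h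
    · exact absurd ((Nat.Prime.even_iff hpp).1 h) hp2
    · exact h
  obtain ⟨j, rfl⟩ : ∃ j, e = 2 * j + 1 := by
    rcases Nat.even_or_odd e with ⟨a, ha⟩ | h
    · exfalso
      rw [ha] at h1
      have : (a + a) * (2 * s + 1) = 2 * (a * (2 * s + 1)) := by ring
      omega
    · exact h
  have h2' : m = (2 * j + 1) * s + j := by
    have : (2 * j + 1) * (2 * s + 1) = 2 * ((2 * j + 1) * s + j) + 1 := by ring
    omega
  -- the power
  have h3 : (τ0 ^ (i * (s + 1))) = frb K 2 (m + 1 + j) := by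
    ext a
    rw [pow_mul, pow_apply_of hie, frb_apply, h2']
    congr 2
    ring
  have hs0 : 0 < s := by
    rcases Nat.eq_zero_or_pos s with h | h
    · subst h
      exact absurd hpp (by norm_num)
    · exact h
  have hi' : (i * (s + 1)).Coprime (2 * s + 1) := by
    apply Nat.Coprime.mul_left hi
    rw [Nat.coprime_comm, Nat.Prime.coprime_iff_not_dvd hpp]
    intro h
    have := Nat.le_of_dvd (by omega) h
    omega
  obtain ⟨N, hN⟩ := pow_form (g0 := g0) (τ := τ0) (i * (s + 1))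
  rw [← hx0, h3] at hN
  refine ⟨j, s, ?_, rfl, h1, i * (s + 1), em hK f N, hi', fun a => ?_⟩
  · rw [h1, Nat.mul_div_cancel _ hpp.pos]
    omega
  · have h4 : (MulAut.conj (em hK f N) *
        (al (AlgebraicClosure (ZMod 2)) * phi chevF4 (AlgebraicClosure (ZMod 2)) 2 j)) (em hK f a) =
        em hK f N * (al (AlgebraicClosure (ZMod 2)) * phi chevF4 (AlgebraicClosure (ZMod 2)) 2 j) (em hK f a) *
        (em hK f N)⁻¹ := rfl
    rw [hN, h4, sig_em, MulAut.mul_apply, MulAut.conj_apply, map_mul, map_mul, map_inv]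

include hpp in
/-- **The frame.** -/
theorem stdF {j s : ℕ} (hs : p = 2 * s + 1) (h1 : 2 * m + 1 = (2 * j + 1) * p) :
    T5Mid.Std p (em hK f) (al (AlgebraicClosure (ZMod 2)) * phi chevF4 (AlgebraicClosure (ZMod 2)) 2 m)
      (al (AlgebraicClosure (ZMod 2)) * phi chevF4 (AlgebraicClosure (ZMod 2)) 2 j) := by
  subst hs
  have h2' : m = (2 * j + 1) * s + j := by
    have : (2 * j + 1) * (2 * s + 1) = 2 * ((2 * j + 1) * s + j) + 1 := by ring
    omega
  refine ⟨em_injective hK f, em_comm hK f, sig_em_self hK f, sig_pow h2', fun h => lang4 j h, fun u hu => ?_⟩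
  obtain ⟨s, hs⟩ := mem_range hK f hu
  exact ⟨1, s, map_one _, by rw [one_mul]; exact hs.symm⟩

/-- from the interface of `H270.StrP` -/
theorem sb_of_ff {p' q : ℕ} {g : ℕ → Cfsg.Agent.OrdDiv.Grp} {Y : Type*} [Group Y] {x : MulAut Y}
    (h : H270.StrP.FF p' g q x) : SB x := by
  obtain ⟨-, N, -, h1, h2, h3, h4, h5, -⟩ := h
  exact ⟨N, h1, h2, h3, h4, h5⟩

include hK hm hpp hp2 in
/-- the fixed points of the field automorphisms of order `p` -/
theorem sb_field {σ : K ≃+* K} (hσ : orderOf σ = p) : SB (S2128.fld σ (2 ^ m)) := by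
  have hE := Cfsg.Agent.H967.CopMat.card_Fx σ
  rw [hσ, Nat.card_eq_fintype_card, hK] at hE
  obtain ⟨m₀, j, h1, h2⟩ := Cfsg.Agent.H967.CopFix.exists_odd_exp Nat.prime_two hE
  have h3 : 2 * m + 1 = (2 * m₀ + 1) * p := by
    rw [h1, ← pow_mul] at hE
    exact Nat.pow_right_injective (le_refl 2) hE
  have hfinE : Fintype ↥(Cfsg.Agent.H967.CopMat.Fx σ) := Fintype.ofFinite _
  have hE' : Fintype.card ↥(Cfsg.Agent.H967.CopMat.Fx σ) = 2 ^ (2 * m₀ + 1) := by
    rw [← Nat.card_eq_fintype_card, h1]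
  have hqq : 2 ^ (2 * m + 1) = (2 ^ (2 * m₀ + 1)) ^ p := by rw [h3, pow_mul]
  obtain ⟨f, hf, hfix⟩ := H270.StrP.tf4_fixed hK σ h1 h2
  show SB (Cfsg.Agent.H967.CopMat.fieldAut (Cfsg.Agent.H967.CopSz.stab_f4 (K := K) (2 ^ m)) σ)
  rcases Nat.eq_zero_or_pos m₀ with h0 | h0
  · subst h0
    obtain ⟨c1, s1, na1, z1⟩ := H270.StrP.tf4_two (E := ↥(Cfsg.Agent.H967.CopMat.Fx σ)) (by rw [hE']; norm_num)
      (d := 2 ^ 0) (pow_zero 2)
    refine sb_of_ff (p' := p) (g := .tf4) (H270.StrP.ff_of_normal f hf hfix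
      (commutator ↥(twistedF4 ↥(Cfsg.Agent.H967.CopMat.Fx σ) (2 ^ 0))) s1 na1 z1 hqq ?_)
    rintro B ⟨e⟩
    refine Or.inr (Or.inr (Or.inr (Or.inr ⟨by norm_num, ?_⟩)))
    rw [← Nat.card_congr e.toEquiv, c1]
  · have hs₀ : IsSimpleGroup ↥(twistedF4 ↥(Cfsg.Agent.H967.CopMat.Fx σ) (2 ^ m₀)) :=
      (Cfsg.Agent.S1072.result h0 hE').1
    have hna₀ : ¬ IsMulCommutative ↥(twistedF4 ↥(Cfsg.Agent.H967.CopMat.Fx σ) (2 ^ m₀)) :=
      (Cfsg.Agent.S1072.result h0 hE').2
    refine sb_of_ff (p' := p) (g := .tf4) (H270.StrP.ff_of_range hs₀ hna₀ f hf hfix hqq ?_)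
    rintro B ⟨e⟩
    exact ⟨↥(Cfsg.Agent.H967.CopMat.Fx σ), inferInstance, hfinE, m₀, h0, hE', rfl, ⟨e.symm⟩⟩

include hK in
/-- `x ↦ x ^ 2 ^ (m + 1 + j)` has order `p` -/
theorem orderOf_frb {j s : ℕ} (hs : p = 2 * s + 1) (hs0 : 0 < s) (h1 : 2 * m + 1 = (2 * j + 1) * p) (hpp : p.Prime) :
    orderOf (frb K 2 (m + 1 + j)) = p := by
  have hn : Nat.card K = 2 ^ (2 * m + 1) := by rw [Nat.card_eq_fintype_card, hK]
  have h2' : m = (2 * j + 1) * s + j := by
    subst hs
    have : (2 * j + 1) * (2 * s + 1) = 2 * ((2 * j + 1) * s + j) + 1 := by ring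
    omega
  have hexp : m + 1 + j = (2 * j + 1) * (s + 1) := by rw [h2']; ring
  refine (orderOf_eq_prime_iff (hp := ⟨hpp⟩)).2 ⟨?_, ?_⟩
  · rw [frb_pow]
    ext a
    rw [frb_apply, (forall_pow_iff 2 hn _).2 ?_ a]
    · rfl
    · refine ⟨s + 1, ?_⟩
      rw [hexp, h1]
      ring
  · intro h
    have h3 : ∀ a : K, a ^ 2 ^ (m + 1 + j) = a := fun a => by
      rw [← frb_apply, h]
      rfl
    have h4 := (forall_pow_iff 2 hn _).1 h3
    rw [hexp, h1] at h4
    have h5 : p ∣ s + 1 := Nat.dvd_of_mul_dvd_mul_left (by omega : 0 < 2 * j + 1) h4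
    have := Nat.le_of_dvd (by omega) h5
    omega

include hK hm hpp hp2 in
theorem outerOkF : OuterOk p ↥(twistedF4 K (2 ^ m)) := by
  refine OuterOk.of_exists fun hex => ?_
  have : Fact p.Prime := ⟨hpp⟩
  obtain ⟨x₀, hx₀, hxo₀⟩ := hex
  obtain ⟨f⟩ := Cfsg.Agent.BpExc.RowsUntw.exists_emb 2 K
  obtain ⟨j, s, hj, hs, h1, -⟩ := casesF hK hm f hpp hp2 x₀ hx₀ hxo₀
  have hs0 : 0 < s := by
    rcases Nat.eq_zero_or_pos s with h | h
    · subst h
      rw [mul_zero, zero_add] at hs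
      exact absurd hs hpp.one_lt.ne'
    · exact h
  refine OuterOk.of_std hpp (stdF hK f hpp hs h1) (θ := S2128.fld (frb K 2 (m + 1 + j)) (2 ^ m))
    (fun a => (sig_em hK f j a).symm) (fun _ => sb_field hK hm hpp hp2 (orderOf_frb hK hs hs0 h1 hpp)) ?_
  intro x hx hxo
  obtain ⟨j', s', hj', hs', h1', h⟩ := casesF hK hm f hpp hp2 x hx hxo
  rwa [hj', ← hj] at h

include hpp in
theorem ndvdF (hp5 : 5 ≤ p) : ∀ x ∈ [2, 6, 8, 12], ¬ p ∣ x := by
  intro x hx h1
  have h2 : ∀ x ∈ [2, 6, 8, 12], x ∣ (Nat.factorial 4) ^ 3 := by decide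
  have h3 := (hpp.dvd_factorial).1 (hpp.dvd_of_dvd_pow (h1.trans (h2 x hx)))
  omega

include hK hpp in
/-- the `p`-subgroups are commutative -/
theorem commF (hp5 : 5 ≤ p) (E : Subgroup ↥(twistedF4 K (2 ^ m))) (hE : IsPGroup p E) :
    ∀ a ∈ E, ∀ b ∈ E, a * b = b * a := by
  have : Fact p.Prime := ⟨hpp⟩
  have hpK : ¬ p ∣ Fintype.card K := by
    rw [hK]
    intro h
    have := (Nat.prime_dvd_prime_iff_eq hpp Nat.prime_two).1 (hpp.dvd_of_dvd_pow h)
    omega
  intro a ha b hb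
  have h1 := H172.SI.deg_F4.comm (p := p) (ndvdF hpp hp5) hpK (E.map (inc hK)) (hE.map _) _
    (Subgroup.mem_map_of_mem _ ha) _ (Subgroup.mem_map_of_mem _ hb)
  rw [← map_mul, ← map_mul] at h1
  exact Subgroup.inclusion_injective _ h1

include hK hm hpp in
theorem homOkF (hp5 : 5 ≤ p) : HomOk p ↥(twistedF4 K (2 ^ m)) := by
  intro x hx hxo
  have hp2 : p ≠ 2 := by omega
  obtain ⟨f⟩ := Cfsg.Agent.BpExc.RowsUntw.exists_emb 2 K
  obtain ⟨j, s, hj, hs, h1, -⟩ := casesF hK hm f hpp hp2 x hx hxo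
  have hk : LocFin (AlgebraicClosure (ZMod 2)) := locFin_of_isAlgebraic 2 _
  refine HomOk.of_std hpp (stdF hK f hpp hs h1) (H28.T5Fus.fus hp4 hk (r := 2) H172.SI.deg_F4 hpp hp2
    (ndvdF hpp hp5)) (s := 2) (Q := 2 ^ (2 * j + 1)) ((Nat.coprime_primes Nat.prime_two hpp).2 hp2.symm)
    (fun h => hp2 ((Nat.prime_dvd_prime_iff_eq hpp Nat.prime_two).1 (hpp.dvd_of_dvd_pow h))) (fun t ht => ?_)
    (commF hK hpp hp5) (fun x hx hxo => ?_) x hx hxo
  · rw [pow_two, al_phi_sq]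
    exact H28.T5Fus.phi_TT hp4 _ ht
  · obtain ⟨j', s', hj', hs', h1', h⟩ := casesF hK hm f hpp hp2 x hx hxo
    rwa [hj', ← hj] at h

end Main

/-! ### the rows -/

section Rows

variable {S : Type u} [Group S] {K : Type} [Field K] [Fintype K] {m : ℕ} (hm : 1 ≤ m)
  (hK : Fintype.card K = 2 ^ (2 * m + 1)) {p : ℕ} (hpp : p.Prime) (hp5 : 5 ≤ p) (e : S ≃* ↥(twistedF4 K (2 ^ m)))

include hm hK hpp hp5 e in
theorem outerOk_twF4 : OuterOk p S := by
  have h2p : Fact (Nat.Prime 2) := ⟨Nat.prime_two⟩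
  have hcK : CharP K 2 := H967.CopSz.charP_of_card Nat.prime_two hK
  have hpK : PerfectRing K 2 := inferInstance
  exact OuterOk.congr e (outerOkF hK hm hpp (by omega))

include hm hK hpp hp5 e in
theorem homOk_twF4 : HomOk p S := by
  have h2p : Fact (Nat.Prime 2) := ⟨Nat.prime_two⟩
  have hcK : CharP K 2 := H967.CopSz.charP_of_card Nat.prime_two hK
  have hpK : PerfectRing K 2 := inferInstance
  exact HomOk.congr e (homOkF hK hm hpp hp5)

include hm hK hpp hp5 e in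
/-- **The middle row of `²F₄(q)`, `p ≥ 5`.** -/
theorem mrow_twF4 [Finite S] (hAA : AAHyp.{u} p)
    (hin : ∀ x y : S, orderOf x = p → orderOf y = p → MPair p (⊤ : Subgroup S) x y) : MRow p S := by
  have hs := (Cfsg.Agent.S1072.result hm hK).1
  have hna := (Cfsg.Agent.S1072.result hm hK).2
  have := e.isSimpleGroup
  refine mrow_of_ok hAA hpp (fun hc => hna ⟨⟨fun a b => e.symm.injective ?_⟩⟩)
    (outerOk_twF4 hm hK hpp hp5 e) (homOk_twF4 hm hK hpp hp5 e) hin
  rw [map_mul, map_mul]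
  exact hc.is_comm.comm _ _

end Rows

end Cfsg.Agent.H28.T5TwF
end
end
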