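import Mathlib
import Cfsg.Prelude.Def_GeometricClasses
import Cfsg.Agent.S0245
import Cfsg.Agent.S0287
import Cfsg.Agent.S0288
import Cfsg.Agent.ClassicalGeometry.SympBasic
import Cfsg.Agent.H955.QMinus
import Cfsg.Agent.H957.Bridge
set_option linter.all false
/-!
# The index of an orthogonal group in the symplectic group, characteristic two
-/

set_option autoImplicit false

namespace Cfsg.Agent.H957

open Module QuadraticMap Matrix
open scoped MatrixGroups
open Cfsg.Agent.LieClassical.OrthCore (Nondeg)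
open Cfsg.Agent.H955 (IsPlus)

section

variable {F : Type*} [Field F]

theorem mem_spGL {d : ℕ} {x : GL (Fin d ⊕ Fin d) F} :
    x ∈ Cfsg.spGL d F ↔ ∀ u v, Cfsg.sympForm d F ((x : Matrix _ _ F) *ᵥ u) ((x : Matrix _ _ F) *ᵥ v) =
      Cfsg.sympForm d F u v := Iff.rfl

/-- The order of `spGL`. -/
theorem card_spGL (d : ℕ) : Nat.card (Cfsg.spGL d F) = Nat.card (Matrix.symplecticGroup (Fin d) F) := by
  refine Nat.card_congr (Equiv.ofBijective
    (fun x => ⟨((x : GL (Fin d ⊕ Fin d) F) : Matrix _ _ F),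
      ClassicalGeometry.SympBasic.mem_symplecticGroup_iff.2 (mem_spGL.1 x.2)⟩) ⟨?_, ?_⟩)
  · intro x y h
    exact Subtype.ext (Units.ext (congrArg Subtype.val h))
  · intro A
    refine ⟨⟨⟨(A : Matrix _ _ F), ((A⁻¹ : Matrix.symplecticGroup (Fin d) F) : Matrix _ _ F), ?_, ?_⟩, ?_⟩, ?_⟩
    · have := congrArg Subtype.val (mul_inv_cancel A)
      exact this
    · have := congrArg Subtype.val (inv_mul_cancel A)
      exact this
    · exact ClassicalGeometry.SympBasic.mem_symplecticGroup_iff.1 A.2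
    · rfl

variable {ι ι' : Type} [Fintype ι] [DecidableEq ι] [Fintype ι'] [DecidableEq ι']

theorem card_isometryGroup (Q : QuadraticForm F (ι → F)) :
    Nat.card (Cfsg.isometryGroup F (⇑Q)) = Nat.card (isoQ Q) := by
  refine Nat.card_congr
    { toFun := fun x => ⟨eOf (x : GL ι F), eOf_mem x.2⟩
      invFun := fun g => ⟨glOf (g : (ι → F) ≃ₗ[F] (ι → F)), glOf_mem g.2⟩
      left_inv := fun x => Subtype.ext (glOf_eOf _)
      right_inv := fun g => Subtype.ext (eOf_glOf _) }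

theorem card_isoQ_congr {V V' : Type*} [AddCommGroup V] [Module F V] [AddCommGroup V'] [Module F V']
    {Q : QuadraticForm F V} {Q' : QuadraticForm F V'} (e : V ≃ₗ[F] V') (he : ∀ v, Q' (e v) = Q v) :
    Nat.card (isoQ Q) = Nat.card (isoQ Q') := by
  refine Nat.card_congr
    { toFun := fun g => ⟨(e.symm.trans (g : V ≃ₗ[F] V)).trans e, fun v => ?_⟩
      invFun := fun g => ⟨(e.trans (g : V' ≃ₗ[F] V')).trans e.symm, fun v => ?_⟩
      left_inv := fun g => ?_
      right_inv := fun g => ?_ }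
  · rw [LinearEquiv.trans_apply, LinearEquiv.trans_apply, he, g.2, ← he, LinearEquiv.apply_symm_apply]
  · rw [LinearEquiv.trans_apply, LinearEquiv.trans_apply, ← he, LinearEquiv.apply_symm_apply, g.2, he]
  · apply Subtype.ext
    apply LinearEquiv.ext
    intro v
    simp
  · apply Subtype.ext
    apply LinearEquiv.ext
    intro v
    simp

theorem card_isometryGroup_congr {Q : QuadraticForm F (ι → F)} {Q' : QuadraticForm F (ι' → F)}
    (e : (ι → F) ≃ₗ[F] (ι' → F)) (he : ∀ v, Q' (e v) = Q v) :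
    Nat.card (Cfsg.isometryGroup F (⇑Q)) = Nat.card (Cfsg.isometryGroup F (⇑Q')) := by
  rw [card_isometryGroup, card_isometryGroup, card_isoQ_congr e he]

/-- The order of the orthogonal group, plus type. -/
theorem card_isometryGroup_plus [Fintype F] (Q : QuadraticForm F (ι → F)) (hQ : Nondeg Q) {m : ℕ} (hm : 1 ≤ m)
    (hι : Fintype.card ι = 2 * m) (hP : IsPlus Q) :
    Nat.card (Cfsg.isometryGroup F (⇑Q)) = 2 * Fintype.card F ^ (m * (m - 1)) * (Fintype.card F ^ m - 1) *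
      ∏ i ∈ Finset.range (m - 1), (Fintype.card F ^ (2 * (i + 1)) - 1) := by
  obtain ⟨e, he⟩ := H955.exists_plus_equiv m Q hQ (by rw [Module.finrank_fintype_fun_eq_card, hι]) hP
  rw [card_isometryGroup_congr e he, LieClassical.QuadForms.coe_plusForm]
  exact Cfsg.Agent.S0287.result rfl m hm

/-- The order of the orthogonal group, minus type. -/
theorem card_isometryGroup_minus [Fintype F] (Q : QuadraticForm F (ι → F)) (hQ : Nondeg Q) {m : ℕ} (hm : 1 ≤ m)
    (hι : Fintype.card ι = 2 * m) (hP : ¬ IsPlus Q) :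
    Nat.card (Cfsg.isometryGroup F (⇑Q)) = 2 * Fintype.card F ^ (m * (m - 1)) * (Fintype.card F ^ m + 1) *
      ∏ i ∈ Finset.range (m - 1), (Fintype.card F ^ (2 * (i + 1)) - 1) := by
  obtain ⟨a, b, hab⟩ := H955.exists_aniso_coeff F
  obtain ⟨k, rfl⟩ : ∃ k, m = k + 1 := ⟨m - 1, by omega⟩
  obtain ⟨e, he⟩ := H955.exists_minus_equiv hab k Q hQ (by rw [Module.finrank_fintype_fun_eq_card, hι]) hP
  rw [card_isometryGroup_congr e he, LieClassical.QuadForms.coe_minusForm]
  exact Cfsg.Agent.S0288.result rfl (k + 1) hm a b hab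

end

/-- arithmetic of the index -/
theorem index_arith {q N d : ℕ} (hq : 2 ≤ q) (hd : 1 ≤ d) (ε : Bool)
    (h : (2 * q ^ (d * (d - 1)) * (if ε then q ^ d - 1 else q ^ d + 1) *
      ∏ i ∈ Finset.range (d - 1), (q ^ (2 * (i + 1)) - 1)) * N =
      q ^ (d ^ 2) * ∏ i ∈ Finset.range d, (q ^ (2 * (i + 1)) - 1)) :
    2 * N = q ^ d * (if ε then q ^ d + 1 else q ^ d - 1) := by
  obtain ⟨k, rfl⟩ : ∃ k, d = k + 1 := ⟨d - 1, by omega⟩
  rw [Finset.prod_range_succ] at h
  have e1 : q ^ ((k + 1) ^ 2) = q ^ ((k + 1) * k) * q ^ (k + 1) := by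
    rw [← pow_add]; ring_nf
  have hP : 0 < ∏ i ∈ Finset.range k, (q ^ (2 * (i + 1)) - 1) := by
    apply Finset.prod_pos
    intro i _
    have : 1 < q ^ (2 * (i + 1)) := Nat.one_lt_pow (by omega) (by omega)
    omega
  have hq1 : 1 < q ^ (k + 1) := Nat.one_lt_pow (by omega) (by omega)
  have e2 : q ^ (2 * (k + 1)) - 1 = (q ^ (k + 1) - 1) * (q ^ (k + 1) + 1) := by
    obtain ⟨y, hy⟩ : ∃ y, q ^ (k + 1) = y + 1 := ⟨q ^ (k + 1) - 1, by omega⟩
    rw [show 2 * (k + 1) = (k + 1) + (k + 1) by ring, pow_add, hy]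
    simp only [Nat.add_sub_cancel]
    rw [show (y + 1) * (y + 1) = y * (y + 1 + 1) + 1 by ring]
    simp
  rw [e1, e2] at h
  simp only [Nat.add_sub_cancel] at h
  have hq0 : 0 < q ^ ((k + 1) * k) := by positivity
  cases ε
  · simp only [Bool.false_eq_true, if_false] at h ⊢
    have h3 : (q ^ ((k + 1) * k) * (∏ i ∈ Finset.range k, (q ^ (2 * (i + 1)) - 1)) * (q ^ (k + 1) + 1)) * (2 * N) =
        (q ^ ((k + 1) * k) * (∏ i ∈ Finset.range k, (q ^ (2 * (i + 1)) - 1)) * (q ^ (k + 1) + 1)) *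
          (q ^ (k + 1) * (q ^ (k + 1) - 1)) := by
      linear_combination h
    exact Nat.eq_of_mul_eq_mul_left (by positivity) h3
  · simp only [if_true] at h ⊢
    have hpos : 0 < q ^ (k + 1) - 1 := by omega
    have h3 : (q ^ ((k + 1) * k) * (∏ i ∈ Finset.range k, (q ^ (2 * (i + 1)) - 1)) * (q ^ (k + 1) - 1)) * (2 * N) =
        (q ^ ((k + 1) * k) * (∏ i ∈ Finset.range k, (q ^ (2 * (i + 1)) - 1)) * (q ^ (k + 1) - 1)) *
          (q ^ (k + 1) * (q ^ (k + 1) + 1)) := by
      linear_combination h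
    exact Nat.eq_of_mul_eq_mul_left (by positivity) h3

end Cfsg.Agent.H957
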