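import Cfsg.Agent.H957.InvU5
import Cfsg.Agent.H957.T5RowPSL_m3
import Cfsg.Agent.H177.MeetPSU
import Cfsg.Agent.H106.MTwD4_m3
import Cfsg.Agent.H106.MOwnPSU_m3
import Cfsg.Agent.H533.T5.SporDefs_m3
import Cfsg.Agent.H106.MTools2
import Cfsg.Agent.Lib.CoprimeHyperplane
import Cfsg.Agent.Lib.Cores
import Cfsg.Agent.Lib.SylowNormalInf
import Cfsg.Agent.H818.StrP.Row_m3
import Cfsg.Agent.GH.AltOut
import Cfsg.Prelude.Def_Classification2
import Cfsg.Agent.H194.MOwn.PslCore
import Cfsg.Agent.H609.T5.MMidFive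
import Cfsg.Agent.H28.T5TwF_mg_m3
import Cfsg.Agent.CoOneType.CoW
import Cfsg.Agent.H194.MOwn.SpRow_m3
import Cfsg.Agent.OrdDiv.Table
import Cfsg.Agent.H609.Inv.Base
import Cfsg.Agent.H778.ExcMain
import Cfsg.Agent.H28.T5TwSix
import Cfsg.Agent.H28.T5TwFour
import Cfsg.Agent.H897.T5Inn
import Cfsg.Agent.H193.StrP.Main
import Cfsg.Agent.FastGrp
import Cfsg.Agent.Prune
set_option linter.all false

section
prune_inst 0x7ffcfef8ebb8addeffff7e7ffff5dffc3990dfffefdff94bffecfbff8fdf230e4be5abaf8de098fe1ef6623c10b87853fbffeabfe26fdc7ffffd5ff45ffbee1ff7ffbd2c71d6bc341ffe6ffffbf07f8e7f3fffffffffffffffffffffffffffbeffbfffffffff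

-- part: H957/T5RowPSU
section
set_option linter.all false
open scoped Cfsg.Agent.FastGrp

/-!
# The row `PSU_n(q)`, `p ≥ 5` not dividing `q` (T5)
-/

set_option autoImplicit false

namespace Cfsg.Agent.H957.T5RowPSU

open Cfsg Cfsg.Agent.LieClassical.HermBasic Cfsg.Agent.LieClassical.HermSiegel
open Cfsg.Agent.LieClassical.SUBasic Matrix
open Cfsg.Agent.ClassicalGeometry.PSUAutCount Cfsg.Agent.ClassicalGeometry.UnitAutBasic
open Cfsg.Agent.H957.T5V Cfsg.Agent.H957.T5M Cfsg.Agent.H957.T5Tr Cfsg.Agent.H957.T5U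
open Cfsg.Agent.H177.MeetPSU (rho rho_apply rho_injective yy yy_apply ind_yy uniq)
open Cfsg.Agent.H903.SylSemi (Ind)

variable {F : Type} [Field F] [Fintype F] {n q p : ℕ}

theorem mrow_PSU (hF : Fintype.card F = q ^ 2) (hn : 3 ≤ n) (h32 : ¬ (n = 3 ∧ q = 2))
    (hp : p.Prime) (hp5 : 5 ≤ p) (hpF : (p : F) ≠ 0) : MRow p (PSU n F q) := by
  have : Nonempty (Fin n) := ⟨⟨0, by omega⟩⟩
  have : Nontrivial (Fin n → F) := Function.nontrivial
  refine mrow_of (F := F) hp (π := pr n F q) pr_surjective (ρ := rho n F q) rho_injective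
    (fun s => (si_rho s).semi) (W := fun y => ∃ θ : F ≃+* F, SI q θ y) ?_ ?_ ?_ ?_ ?_
  · rintro y y' ⟨θ, h⟩ ⟨θ', h'⟩
    exact ⟨θ * θ', h.mul h'⟩
  · intro s
    exact ⟨1, si_rho s⟩
  · intro β _
    obtain ⟨A, θ, rfl⟩ := Cfsg.Agent.ClassicalGeometry.PSUAutMain.exists_toAut hF hn h32 β
    refine ⟨yy A θ, ⟨θ, ⟨fun u v => ?_, fun a v => ?_⟩, fun u v => herm_semi A θ u v⟩, ind_yy A θ⟩
    · rw [yy_apply, yy_apply, yy_apply, ← Matrix.mulVec_add]
      congr 1
      funext i
      exact map_add θ _ _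
    · rw [yy_apply, yy_apply, ← Matrix.mulVec_smul]
      congr 1
      funext i
      exact map_mul θ _ _
  · rintro y ⟨θ, hθ⟩ hy
    refine uniq hF hn ⟨θ, 1, one_ne_zero, ⟨hθ.semi.add, hθ.semi.smul⟩, fun u v => ?_⟩ hy
    rw [one_mul, hθ.herm]
  · rintro y z ⟨θ, hy⟩ ⟨θ', hz⟩ hyp hyn hzp hzn
    exact up_main hF hn hp hp5 hpF hy hyp hyn hz hzp hzn

/-- **The row PSU in cross characteristic.** -/
theorem row_PSU_cross {S : Type*} [Group S] (hF : Fintype.card F = q ^ 2)
    (hn : 3 ≤ n) (h32 : ¬ (n = 3 ∧ q = 2)) (hp : p.Prime) (hp5 : 5 ≤ p) (hpq : ¬ p ∣ q)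
    (e : S ≃* PSU n F q) : MRow p S := by
  refine Cfsg.Agent.H957.T5RowPSL.MRow.congr e (mrow_PSU hF hn h32 hp hp5 ?_)
  intro h0
  apply hpq
  have h1 : ringChar F ∣ p := (ringChar.spec F p).1 h0
  have h2 : ringChar F = p := ((Nat.dvd_prime hp).1 h1).resolve_left (CharP.ringChar_ne_one)
  obtain ⟨m, -, hm⟩ := FiniteField.card F (ringChar F)
  rw [h2, hF] at hm
  have h3 : p ∣ q ^ 2 := by
    rw [hm]
    exact dvd_pow_self _ m.ne_zero
  exact hp.dvd_of_dvd_pow h3

end Cfsg.Agent.H957.T5RowPSU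
end

-- part: H461/T5M/Conway
section
set_option linter.all false
open scoped Cfsg.Agent.FastGrp

/-!
# The certificate `mpair_of_cube` for subgroups of `Co0` (helper461)

The conjugating element is `gG ^ k`.
-/

set_option autoImplicit false
set_option maxRecDepth 100000

namespace Cfsg.Agent.H461.T5

open Subgroup Cfsg Cfsg.Agent.SporadicA Cfsg.Agent.SporadicStructure.Co0Matrix Cfsg.Agent.CoOneType.CoEval
open Cfsg.Agent.LThreeCo1.Ev Cfsg.Agent.LThreeMB.Fix Cfsg.Agent.H573.Spor.Co0 Cfsg.Agent.H533.T5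
open Cfsg.Agent.H957.T5M

/-- the word of `r_i (g ^ k s_j g ^ (-k)) ^ 2` -/
def wz (k i j : ℕ) : List ℕ := wr i ++ (List.replicate k 3 ++ (wr j ++ (wr j ++ List.replicate k 4)))

/-- its `p`-th power -/
def wzp (p k i j : ℕ) : List ℕ := (List.replicate p (wz k i j)).flatten

/-- the check for the pairs `i ≤ j` of representatives with first entry `i` -/
def chkM (M : ℕ → List (List ℤ)) (p k i : ℕ) : Bool :=
  (List.range (p + 2)).all fun j => bif Nat.blt j i then true else neB' M (wzp p k i j) []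

section Gen

variable {e : ℕ → Co0} {M : ℕ → List (List ℤ)}

theorem prod_wz (k i j : ℕ) (h34 : e 3 * e 4 = 1) : ((wz k i j).map e).prod =
    ((wr i).map e).prod ^ 1 * (e 3 ^ k * ((wr j).map e).prod * (e 3 ^ k)⁻¹) ^ 2 := by
  have h4 : e 4 = (e 3)⁻¹ := (inv_eq_of_mul_eq_one_right h34).symm
  simp only [wz, List.map_append, List.prod_append, List.map_replicate, List.prod_replicate, h4, inv_pow]
  generalize e 3 ^ k = g
  generalize ((wr j).map e).prod = s
  rw [pow_one, pow_two]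
  group

theorem prod_wzp (p k i j : ℕ) (h34 : e 3 * e 4 = 1) : ((wzp p k i j).map e).prod =
    (((wr i).map e).prod ^ 1 * (e 3 ^ k * ((wr j).map e).prod * (e 3 ^ k)⁻¹) ^ 2) ^ p := by
  have key : ∀ (n : ℕ) (w : List ℕ), ((List.replicate n w).flatten.map e).prod = (w.map e).prod ^ n := by
    intro n w
    induction n with
    | zero => simp
    | succ n ih => rw [List.replicate_succ, List.flatten_cons, List.map_append, List.prod_append, ih, pow_succ']
  rw [wzp, key, prod_wz k i j h34]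

theorem pow_ne_le (hM : ∀ i, Rep (e i) (M i)) {p k : ℕ} (h : ∀ i < p + 2, chkM M p k i = true) (h34 : e 3 * e 4 = 1)
    {i j : ℕ} (hi : i < p + 2) (hj : j < p + 2) (hij : i ≤ j) :
    (((wr i).map e).prod ^ 1 * (e 3 ^ k * ((wr j).map e).prod * (e 3 ^ k)⁻¹) ^ 2) ^ p ≠ 1 := by
  have h1 := List.all_eq_true.1 (h i hi) j (List.mem_range.2 hj)
  have h0 : Nat.blt j i = false := by
    rw [← Bool.not_eq_true, Nat.blt_eq]
    omega
  rw [h0, cond_false] at h1
  have h2 := ne_of_neB' hM h1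
  rwa [prod_wzp p k i j h34] at h2

theorem pow_ne (hM : ∀ i, Rep (e i) (M i)) {p k : ℕ} (h : ∀ i < p + 2, chkM M p k i = true) (h34 : e 3 * e 4 = 1)
    {r s : Co0} (hr : Rp p (e 0) (e 1) (e 2) r) (hs : Rp p (e 0) (e 1) (e 2) s) :
    (r ^ 1 * (e 3 ^ k * s * (e 3 ^ k)⁻¹) ^ 2) ^ p ≠ 1 ∨ (s ^ 1 * (e 3 ^ k * r * (e 3 ^ k)⁻¹) ^ 2) ^ p ≠ 1 := by
  obtain ⟨i, hi, rfl⟩ := Rp.word hr
  obtain ⟨j, hj, rfl⟩ := Rp.word hs
  rcases le_total i j with hij | hij
  · exact Or.inl (pow_ne_le hM h h34 hi hj hij)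
  · exact Or.inr (pow_ne_le hM h h34 hj hi hij)

/-- **the pairs**, for a subgroup `X` of `Co₀` -/
theorem mpair_of_le {p : ℕ} [Fact p.Prime] (hp2 : p ≠ 2) (k : ℕ) (X : Subgroup (Equiv.Perm leechLattice)) (hX : X ≤ Co0)
    (h4 : ¬ p ^ 4 ∣ Nat.card X) (hM : ∀ i, Rep (e i) (M i)) (h : ∀ i < p + 2, chkM M p k i = true) (h34 : e 3 * e 4 = 1)
    (m0 : (e 0).1 ∈ X) (m1 : (e 1).1 ∈ X) (m2 : (e 2).1 ∈ X) (m3 : (e 3).1 ∈ X) (ha : e 0 ^ p = 1) (hb : e 1 ^ p = 1)
    (hc : e 2 ^ p = 1) (hc1 : e 2 ≠ 1) (hac : e 0 * e 2 = e 2 * e 0) (hbc : e 1 * e 2 = e 2 * e 1)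
    (hab : e 0 * e 1 = e 1 * e 0 * e 2) {x y : X} (hx : orderOf x = p) (hy : orderOf y = p) :
    MPair p (⊤ : Subgroup X) x y := by
  have hfin : Finite X := by
    refine Nat.finite_of_card_ne_zero fun h => ?_
    rw [h] at h4
    exact h4 (dvd_zero _)
  have inj : Function.Injective (Subgroup.inclusion hX) := Subgroup.inclusion_injective hX
  refine mpair_of_cube hp2 h4 (a := ⟨_, m0⟩) (b := ⟨_, m1⟩) (c := ⟨_, m2⟩) (inj ?_) (inj ?_) (inj ?_) (fun hcon => hc1 ?_)
    (inj ?_) (inj ?_) (inj ?_) (fun r s hr hs => ?_) hx hy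
  · rw [map_pow, map_one]; exact ha
  · rw [map_pow, map_one]; exact hb
  · rw [map_pow, map_one]; exact hc
  · exact congrArg (Subgroup.inclusion hX) hcon
  · rw [map_mul, map_mul]; exact hac
  · rw [map_mul, map_mul]; exact hbc
  · rw [map_mul, map_mul, map_mul]; exact hab
  · rcases pow_ne hM h h34 (Rp.map (Subgroup.inclusion hX) hr) (Rp.map (Subgroup.inclusion hX) hs) with h6 | h6
    · refine Or.inl ⟨⟨_, m3⟩ ^ k, 1, 2, fun hcon => h6 ?_⟩
      have h5 := congrArg (Subgroup.inclusion hX) hcon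
      simp only [map_mul, map_inv, map_pow, map_one] at h5
      exact h5
    · refine Or.inr ⟨⟨_, m3⟩ ^ k, 1, 2, fun hcon => h6 ?_⟩
      have h5 := congrArg (Subgroup.inclusion hX) hcon
      simp only [map_mul, map_inv, map_pow, map_one] at h5
      exact h5

end Gen

end Cfsg.Agent.H461.T5

private theorem dce_e95b7c564f1d : _root_.True := by
  try have : _root_.True := by simp only [_root_.Cfsg.Agent.H461.T5.wz.eq_1]
  try have : _root_.True := by simp only [_root_.Cfsg.Agent.H461.T5.wzp.eq_1]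
  exact _root_.True.intro
end

-- part: H106/MAll
section
prune_inst 0x180000000000000000000000400000000000000000000005010001000000101000000000000000000000000000000000000000000000000000000000000000000000000000000000000000000000000000000000000000000000000
set_option linter.all false
open scoped Cfsg.Agent.FastGrp

-- part: H106/TwoRed
section
/-!
# Reduction of S2275 to the simple groups

`main`: if the middle row `MRow p S` (file `H957/T5M`) holds for all finite non-abelian simple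
groups `S`, then a finite group `G` generated by the class of `c₀` and by the class of `d₀`, in
which all `c ^ i * d ^ j` are `p`-elements, is a cyclic `p`-group.
-/

set_option autoImplicit false

universe u

namespace Cfsg.Agent.H106.TwoRed

open Cfsg.Agent.H533.T5 Cfsg.Agent.H957.T5M

variable {G : Type*} [Group G]

/-- All `x ^ i * y ^ j`, `x` conjugate to `c`, `y` conjugate to `d`, are `p`-elements. -/
def AllP (p : ℕ) (c d : G) : Prop :=
  ∀ g h : G, ∀ i j : ℤ, ∃ k : ℕ, ((g * c * g⁻¹) ^ i * (h * d * h⁻¹) ^ j) ^ p ^ k = 1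

/-- The group is generated by the conjugates of `c`. -/
def Gen (c : G) : Prop := ∀ H : Subgroup G, (∀ g : G, g * c * g⁻¹ ∈ H) → H = ⊤

theorem Gen.map {G' : Type*} [Group G'] {c : G} (h : Gen c) (φ : G →* G')
    (hφ : Function.Surjective φ) : Gen (φ c) := by
  intro H hH
  have h1 : H.comap φ = ⊤ := by
    refine h _ fun g => ?_
    rw [Subgroup.mem_comap, map_mul, map_mul, map_inv]
    exact hH _
  rw [eq_top_iff]
  intro y _
  obtain ⟨x, rfl⟩ := hφ y
  have : x ∈ H.comap φ := by rw [h1]; exact Subgroup.mem_top _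
  exact this

theorem AllP.map {G' : Type*} [Group G'] {p : ℕ} {c d : G} (h : AllP p c d) (φ : G →* G')
    (hφ : Function.Surjective φ) : AllP p (φ c) (φ d) := by
  intro g' h' i j
  obtain ⟨g, rfl⟩ := hφ g'
  obtain ⟨k, rfl⟩ := hφ h'
  obtain ⟨m, hm⟩ := h g k i j
  refine ⟨m, ?_⟩
  have := congrArg φ hm
  simpa only [_root_.conj_zpow, _root_.map_pow, _root_.map_mul, _root_.map_zpow, _root_.map_inv, _root_.map_one] using this

/-- A finite `p`-group generated by one conjugacy class is cyclic. -/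
theorem Gen.zpowers_of_pgroup [Finite G] {p : ℕ} [Fact p.Prime] {c : G} (h : Gen c)
    (hG : IsPGroup p G) : Subgroup.zpowers c = ⊤ := by
  by_contra hne
  have := hG.isNilpotent
  obtain ⟨M, hM, hle⟩ := (eq_top_or_exists_le_coatom (Subgroup.zpowers c)).resolve_left hne
  have hMn : M.Normal := Subgroup.NormalizerCondition.normal_of_coatom M
    Group.normalizerCondition_of_isNilpotent hM
  exact hM.1 (h M fun g => hMn.conj_mem _ (hle (Subgroup.mem_zpowers c)) g)

section minimal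

/-- `N` is a minimal normal subgroup. -/
structure MinNormal (N : Subgroup G) : Prop where
  normal : N.Normal
  ne_bot : N ≠ ⊥
  min : ∀ K : Subgroup G, K.Normal → K ≤ N → K ≠ ⊥ → K = N

theorem exists_minNormal [Finite G] [Nontrivial G] : ∃ N : Subgroup G, MinNormal N := by
  have hfin : {K : Subgroup G | K.Normal ∧ K ≠ ⊥}.Finite := Set.toFinite _
  have hne : {K : Subgroup G | K.Normal ∧ K ≠ ⊥}.Nonempty :=
    ⟨⊤, inferInstance, top_ne_bot⟩
  obtain ⟨N, hN⟩ := hfin.exists_minimal hne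
  refine ⟨N, hN.prop.1, hN.prop.2, fun K hK hKN hKb => ?_⟩
  exact le_antisymm hKN (hN.le_of_le ⟨hK, hKb⟩ hKN)

/-- `L` is a non-trivial subgroup of `N` normalised by `N`. -/
structure NormIn (N L : Subgroup G) : Prop where
  le : L ≤ N
  ne_bot : L ≠ ⊥
  conj : ∀ n ∈ N, ∀ l ∈ L, n * l * n⁻¹ ∈ L

/-- `L` is minimal among the non-trivial subgroups of `N` normalised by `N`. -/
structure MinIn (N L : Subgroup G) : Prop extends NormIn N L where
  min : ∀ K : Subgroup G, NormIn N K → K ≤ L → K = L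

theorem exists_minIn [Finite G] {N : Subgroup G} (hN : N ≠ ⊥) : ∃ L : Subgroup G, MinIn N L := by
  have hfin : {K : Subgroup G | NormIn N K}.Finite := Set.toFinite _
  have hne : {K : Subgroup G | NormIn N K}.Nonempty :=
    ⟨N, le_rfl, hN, fun n hn l hl => N.mul_mem (N.mul_mem hn hl) (N.inv_mem hn)⟩
  obtain ⟨L, hL⟩ := hfin.exists_minimal hne
  refine ⟨L, hL.prop, fun K hK hKL => ?_⟩
  exact le_antisymm hKL (hL.le_of_le hK hKL)

/-- The conjugate `g L g⁻¹`. -/
def cj (g : G) (L : Subgroup G) : Subgroup G := L.map (MulAut.conj g).toMonoidHom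

theorem mem_cj {g : G} {L : Subgroup G} {x : G} : x ∈ cj g L ↔ g⁻¹ * x * g ∈ L := by
  constructor
  · rintro ⟨l, hl, rfl⟩
    have : g⁻¹ * ((MulAut.conj g).toMonoidHom l) * g = l := by
      simp [MulAut.conj_apply, mul_assoc]
    rw [this]; exact hl
  · intro h
    refine ⟨g⁻¹ * x * g, h, ?_⟩
    simp only [MulAut.conj_apply, mul_assoc, _root_.MulEquiv.toMonoidHom_eq_coe, _root_.MonoidHom.coe_coe, _root_.mul_inv_cancel_left, _root_.mul_inv_cancel, _root_.mul_one]

theorem cj_cj (g h : G) (L : Subgroup G) : cj g (cj h L) = cj (g * h) L := by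
  ext x
  rw [mem_cj, mem_cj, mem_cj]
  have : h⁻¹ * (g⁻¹ * x * g) * h = (g * h)⁻¹ * x * (g * h) := by group
  rw [this]

theorem cj_one (L : Subgroup G) : cj 1 L = L := by
  ext x; rw [mem_cj]; simp

theorem MinIn.cj {N L : Subgroup G} (hN : N.Normal) (h : MinIn N L) (g : G) :
    MinIn N (cj g L) := by
  have key : ∀ (g : G) (K : Subgroup G), NormIn N K → NormIn N (TwoRed.cj g K) := by
    intro g K hK
    refine ⟨?_, ?_, ?_⟩
    · intro x hx
      rw [mem_cj] at hx
      have h1 := hN.conj_mem _ (hK.le hx) g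
      have : g * (g⁻¹ * x * g) * g⁻¹ = x := by group
      rwa [this] at h1
    · intro hb
      apply hK.ne_bot
      rw [eq_bot_iff]
      intro x hx
      have h1 : g * x * g⁻¹ ∈ TwoRed.cj g K := by
        rw [mem_cj]
        have : g⁻¹ * (g * x * g⁻¹) * g = x := by group
        rwa [this]
      rw [hb, Subgroup.mem_bot] at h1
      rw [Subgroup.mem_bot]
      calc x = g⁻¹ * (g * x * g⁻¹) * g := by group
        _ = 1 := by rw [h1]; group
    · intro n hn l hl
      rw [mem_cj] at hl ⊢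
      have h1 : g⁻¹ * n * g ∈ N := by
        have := hN.conj_mem _ hn g⁻¹
        simpa using this
      have h2 := hK.conj _ h1 _ hl
      have : g⁻¹ * n * g * (g⁻¹ * l * g) * (g⁻¹ * n * g)⁻¹ = g⁻¹ * (n * l * n⁻¹) * g := by group
      rwa [this] at h2
  refine ⟨key g L h.toNormIn, fun K hK hKL => ?_⟩
  have h1 : TwoRed.cj g⁻¹ K = L := by
    refine h.min _ (key _ _ hK) ?_
    intro x hx
    rw [mem_cj] at hx
    have h2 := hKL hx
    rw [mem_cj] at h2
    have : g⁻¹ * (g⁻¹⁻¹ * x * g⁻¹) * g = x := by group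
    rwa [this] at h2
  rw [← h1, cj_cj, mul_inv_cancel, cj_one]

/-- Two different minimal normal subgroups of `N` commute. -/
theorem MinIn.commute {N L M : Subgroup G} (hL : MinIn N L) (hM : MinIn N M) (hne : L ≠ M) :
    ∀ x ∈ L, ∀ y ∈ M, Commute x y := by
  have hdis : L ⊓ M = ⊥ := by
    by_contra hb
    have h1 : NormIn N (L ⊓ M) :=
      ⟨inf_le_left.trans hL.le, hb, fun n hn l hl => ⟨hL.conj n hn l hl.1, hM.conj n hn l hl.2⟩⟩
    exact hne ((hL.min _ h1 inf_le_left).symm.trans (hM.min _ h1 inf_le_right))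
  intro x hx y hy
  have h1 : x * y * x⁻¹ * y⁻¹ ∈ L ⊓ M := by
    refine ⟨?_, ?_⟩
    · have : x * y * x⁻¹ * y⁻¹ = x * (y * x⁻¹ * y⁻¹) := by group
      rw [this]
      exact L.mul_mem hx (hL.conj y (hM.le hy) _ (L.inv_mem hx))
    · exact M.mul_mem (hM.conj x (hL.le hx) y hy) (M.inv_mem hy)
  rw [hdis, Subgroup.mem_bot] at h1
  have h2 : x * y * x⁻¹ = y := by rwa [mul_inv_eq_one] at h1
  exact mul_inv_eq_iff_eq_mul.1 h2

end minimal

section structure_min

variable {N L : Subgroup G}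

/-- The elements of `N` centralising `L`. -/
def cen (N L : Subgroup G) : Subgroup G := N ⊓ Subgroup.centralizer (L : Set G)

theorem mem_cen {x : G} : x ∈ cen N L ↔ x ∈ N ∧ ∀ l ∈ L, Commute l x := by
  rw [cen, Subgroup.mem_inf, Subgroup.mem_centralizer_iff]
  exact Iff.rfl

/-- The subgroup `L C_N(L)`. -/
def prodSub (N L : Subgroup G) : Subgroup G where
  carrier := {x | ∃ l ∈ L, ∃ k ∈ cen N L, x = l * k}
  one_mem' := ⟨1, one_mem _, 1, one_mem _, by simp⟩
  mul_mem' := by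
    rintro _ _ ⟨l, hl, k, hk, rfl⟩ ⟨l', hl', k', hk', rfl⟩
    refine ⟨l * l', mul_mem hl hl', k * k', mul_mem hk hk', ?_⟩
    have := ((mem_cen.1 hk).2 l' hl').eq
    calc l * k * (l' * k') = l * (k * l') * k' := by group
      _ = l * (l' * k) * k' := by rw [this]
      _ = _ := by group
  inv_mem' := by
    rintro _ ⟨l, hl, k, hk, rfl⟩
    refine ⟨l⁻¹, inv_mem hl, k⁻¹, inv_mem hk, ?_⟩
    have := ((mem_cen.1 (inv_mem hk)).2 l⁻¹ (inv_mem hl)).eq
    rw [mul_inv_rev, this]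

theorem le_prodSub (hN : MinNormal N) (hL : MinIn N L) :
    ∀ x ∈ N, ∃ l ∈ L, ∃ k ∈ cen N L, x = l * k := by
  let K : Subgroup G := Subgroup.closure {x | ∃ g : G, ∃ l ∈ L, x = g * l * g⁻¹}
  have hKn : K.Normal := by
    constructor
    intro x hx g
    induction hx using Subgroup.closure_induction with
    | mem x hx =>
      obtain ⟨h, l, hl, rfl⟩ := hx
      exact Subgroup.subset_closure ⟨g * h, l, hl, by group⟩
    | one => simp
    | mul x y _ _ hx hy =>
      have : g * (x * y) * g⁻¹ = (g * x * g⁻¹) * (g * y * g⁻¹) := by group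
      rw [this]; exact mul_mem hx hy
    | inv x _ hx =>
      have : g * x⁻¹ * g⁻¹ = (g * x * g⁻¹)⁻¹ := by group
      rw [this]; exact inv_mem hx
  have hKN : K ≤ N := by
    rw [Subgroup.closure_le]
    rintro _ ⟨g, l, hl, rfl⟩
    exact hN.normal.conj_mem _ (hL.le hl) g
  have hLK : L ≤ K := fun l hl => Subgroup.subset_closure ⟨1, l, hl, by simp⟩
  have hKb : K ≠ ⊥ := by
    intro hb
    apply hL.ne_bot
    rw [eq_bot_iff, ← hb]
    exact hLK
  have hK := hN.min K hKn hKN hKb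
  have hle : K ≤ prodSub N L := by
    rw [Subgroup.closure_le]
    rintro _ ⟨g, l, hl, rfl⟩
    have hmem : g * l * g⁻¹ ∈ cj g L := by
      rw [mem_cj]
      have : g⁻¹ * (g * l * g⁻¹) * g = l := by group
      rwa [this]
    by_cases hg : L = cj g L
    · rw [← hg] at hmem
      exact ⟨_, hmem, 1, one_mem _, by simp⟩
    · refine ⟨1, one_mem _, g * l * g⁻¹, ?_, by simp⟩
      rw [mem_cen]
      refine ⟨(hL.cj hN.normal g).le hmem, fun l' hl' => ?_⟩
      exact hL.commute (hL.cj hN.normal g) hg l' hl' _ hmem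
  intro x hx
  rw [← hK] at hx
  exact hle hx

/-- If `L` is not abelian, it is simple. -/
theorem simple_of_minIn (hN : MinNormal N) (hL : MinIn N L) : IsSimpleGroup L := by
  have : Nontrivial L := by
    rw [Subgroup.nontrivial_iff_ne_bot]; exact hL.ne_bot
  refine ⟨fun K hK => ?_⟩
  by_cases hb : K = ⊥
  · exact Or.inl hb
  · right
    have h1 : NormIn N (K.map L.subtype) := by
      refine ⟨(Subgroup.map_subtype_le K).trans hL.le, ?_, ?_⟩
      · intro h2
        apply hb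
        exact (Subgroup.map_eq_bot_iff_of_injective K L.subtype_injective).1 h2
      · rintro n hn _ ⟨l, hl, rfl⟩
        obtain ⟨a, ha, k, hk, rfl⟩ := le_prodSub hN hL n hn
        have h3 : a * k * L.subtype l * (a * k)⁻¹ = a * L.subtype l * a⁻¹ := by
          have := ((mem_cen.1 hk).2 (L.subtype l) l.2).eq
          calc a * k * L.subtype l * (a * k)⁻¹
              = a * (k * L.subtype l) * k⁻¹ * a⁻¹ := by group
            _ = a * (L.subtype l * k) * k⁻¹ * a⁻¹ := by rw [this]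
            _ = _ := by group
        rw [h3]
        exact ⟨(⟨a, ha⟩ : L) * l * (⟨a, ha⟩ : L)⁻¹, hK.conj_mem _ hl _, by simp only [_root_.Subgroup.subtype_apply, _root_.Subgroup.coe_mul, _root_.InvMemClass.coe_inv]⟩
    have h2 := hL.min _ h1 (Subgroup.map_subtype_le K)
    rw [eq_top_iff]
    rintro ⟨x, hx⟩ _
    rw [← h2] at hx
    obtain ⟨y, hy, hyx⟩ := hx
    have : y = ⟨x, by rw [← h2]; exact ⟨y, hy, hyx⟩⟩ := Subtype.ext hyx
    rw [← this]; exact hy

end structure_min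

section main

theorem isPGroup_of_quot {p : ℕ} [Fact p.Prime] {N : Subgroup G} [N.Normal] (h : IsPGroup p N)
    (h' : IsPGroup p (G ⧸ N)) : IsPGroup p G := by
  intro x
  obtain ⟨k, hk⟩ := h' (x : G ⧸ N)
  have h1 : x ^ p ^ k ∈ N := by
    rw [← QuotientGroup.eq_one_iff]; exact hk
  obtain ⟨m, hm⟩ := h ⟨_, h1⟩
  refine ⟨k + m, ?_⟩
  rw [pow_add, pow_mul]
  exact congrArg Subtype.val hm

open Subgroup

theorem mem_top_quot {N : Subgroup G} [N.Normal] {c : G} (h : zpowers (c : G ⧸ N) = ⊤) (x : G) :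
    ∃ i : ℤ, (c ^ i)⁻¹ * x ∈ N := by
  have h1 : (x : G ⧸ N) ∈ zpowers (c : G ⧸ N) := by rw [h]; exact mem_top _
  obtain ⟨i, hi⟩ := mem_zpowers_iff.1 h1
  refine ⟨i, ?_⟩
  rw [← QuotientGroup.eq]
  rw [← hi]; rfl

/-- A finite non-abelian simple group has a non-`p`-element. -/
theorem exists_not_p {L : Type*} [Group L] [Finite L] {p : ℕ} [Fact p.Prime]
    (hL : IsSimpleGroup L) (hna : ¬ IsMulCommutative L) : ∃ y : L, ∀ k : ℕ, y ^ p ^ k ≠ 1 := by
  by_contra hcon
  push Not at hcon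
  have hP : IsPGroup p L := fun y => hcon y
  have hc : Subgroup.center L ≠ ⊥ := by
    have := hP.center_nontrivial
    rwa [Subgroup.nontrivial_iff_ne_bot] at this
  have h1 := (inferInstance : (Subgroup.center L).Normal).eq_bot_or_eq_top.resolve_left hc
  apply hna
  refine ⟨⟨fun a b => ?_⟩⟩
  have h2 : a ∈ Subgroup.center L := by rw [h1]; exact mem_top _
  exact (Subgroup.mem_center_iff.1 h2 b).symm

theorem isPGroup_of_zpowers {p : ℕ} [Fact p.Prime] {c : G} (h : zpowers c = ⊤) {k : ℕ}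
    (hk : c ^ p ^ k = 1) : IsPGroup p G := by
  intro x
  have h1 : x ∈ zpowers c := by rw [h]; exact mem_top _
  obtain ⟨i, rfl⟩ := mem_zpowers_iff.1 h1
  exact ⟨k, by rw [← zpow_natCast, ← zpow_mul, mul_comm, zpow_mul, zpow_natCast, hk, one_zpow]⟩

/-- **The reduction.** -/
theorem main (p : ℕ) [Fact p.Prime]
    (hM : ∀ (S : Type u) [Group S] [Finite S], IsSimpleGroup S → ¬ IsMulCommutative S →
      MRow p S) :
    ∀ (n : ℕ) (G : Type u) [Group G] [Finite G], Nat.card G = n → ∀ c d : G, Gen c → Gen d →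
      AllP p c d → zpowers c = ⊤ ∧ IsPGroup p G := by
  intro n
  induction n using Nat.strong_induction_on with
  | _ n ih =>
  intro G _ _ hn c d hc hd hA
  by_cases hP : IsPGroup p G
  · exact ⟨hc.zpowers_of_pgroup hP, hP⟩
  exfalso
  have : Nontrivial G := by
    by_contra h
    rw [not_nontrivial_iff_subsingleton] at h
    exact hP (fun x => ⟨0, Subsingleton.elim _ _⟩)
  obtain ⟨N, hN⟩ := exists_minNormal (G := G)
  have := hN.normal
  -- quotients are cyclic `p`-groups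
  have hquot : ∀ (K : Subgroup G) [K.Normal], K ≠ ⊥ →
      zpowers (c : G ⧸ K) = ⊤ ∧ zpowers (d : G ⧸ K) = ⊤ ∧ IsPGroup p (G ⧸ K) := by
    intro K _ hK
    have hlt : Nat.card (G ⧸ K) < n := by
      rw [← hn, ← Subgroup.index_eq_card]
      have h1 := K.index_mul_card
      have h2 : 1 < Nat.card K := by
        rw [Finite.one_lt_card_iff_nontrivial, nontrivial_iff_ne_bot]; exact hK
      have h3 : 0 < K.index := Nat.pos_of_ne_zero K.index_ne_zero_of_finite
      nlinarith only [h1, h2, h3]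
    have hs := QuotientGroup.mk'_surjective K
    have hA' := hA.map (QuotientGroup.mk' K) hs
    have h1 := ih _ hlt (G ⧸ K) rfl (c : G ⧸ K) (d : G ⧸ K) (hc.map _ hs) (hd.map _ hs) hA'
    refine ⟨h1.1, ?_, h1.2⟩
    exact (hd.map _ hs).zpowers_of_pgroup h1.2
  obtain ⟨hcN, hdN, hPN⟩ := hquot N hN.ne_bot
  have hcomm : ∀ a b : G, (a * b * a⁻¹ * b⁻¹) ∈ N := by
    intro a b
    obtain ⟨i, hi⟩ := mem_zpowers_iff.1 (show (a : G ⧸ N) ∈ zpowers (c : G ⧸ N) by
      rw [hcN]; exact mem_top _)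
    obtain ⟨j, hj⟩ := mem_zpowers_iff.1 (show (b : G ⧸ N) ∈ zpowers (c : G ⧸ N) by
      rw [hcN]; exact mem_top _)
    rw [← QuotientGroup.eq_one_iff]
    have h1 : ((a * b * a⁻¹ * b⁻¹ : G) : G ⧸ N) = (a : G ⧸ N) * b * (a : G ⧸ N)⁻¹ * (b : G ⧸ N)⁻¹ :=
      rfl
    rw [h1, ← hi, ← hj]
    group
  -- choose `i` with `x = c ^ i = d⁻¹` modulo `N`
  obtain ⟨i, hi⟩ := mem_top_quot hcN d⁻¹
  set x : G := c ^ i with hx
  have hxd : x * d ∈ N := by
    have h1 : d * x ∈ N := by
      have := inv_mem hi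
      rw [mul_inv_rev, inv_inv, inv_inv] at this
      exact this
    have h2 := hN.normal.conj_mem _ h1 x
    have : x * (d * x) * x⁻¹ = x * d := by group
    rwa [this] at h2
  have hPx : ∀ g : G, ∃ k : ℕ, (x * (g * d * g⁻¹)) ^ p ^ k = 1 := by
    intro g
    obtain ⟨k, hk⟩ := hA 1 g i 1
    refine ⟨k, ?_⟩
    simpa only [_root_.one_mul, _root_.inv_one, _root_.mul_one, _root_.zpow_ofNat, _root_.pow_one] using hk
  have hmem : ∀ g : G, x * (g * d * g⁻¹) ∈ N := by
    intro g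
    have h1 := mul_mem (hN.normal.conj_mem _ (hcomm g d) x) hxd
    have : x * (g * d * g⁻¹ * d⁻¹) * x⁻¹ * (x * d) = x * (g * d * g⁻¹) := by group
    rwa [this] at h1
  -- `N` is not abelian
  have hNna : ¬ ∀ a ∈ N, ∀ b ∈ N, Commute a b := by
    intro hab
    -- elements of `p`-power order of `N`
    let K : Subgroup G :=
      { carrier := {y | y ∈ N ∧ ∃ k : ℕ, y ^ p ^ k = 1}
        one_mem' := ⟨one_mem _, 0, by simp⟩
        mul_mem' := by
          rintro a b ⟨ha, k, hk⟩ ⟨hb, m, hm⟩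
          refine ⟨mul_mem ha hb, k + m, ?_⟩
          rw [(hab a ha b hb).mul_pow, pow_add, pow_mul, hk, one_pow, one_mul, mul_comm (p ^ k),
            pow_mul, hm, one_pow]
        inv_mem' := by
          rintro a ⟨ha, k, hk⟩
          exact ⟨inv_mem ha, k, by rw [inv_pow, hk, inv_one]⟩ }
    have hKn : K.Normal := by
      constructor
      rintro y ⟨hy, k, hk⟩ g
      exact ⟨hN.normal.conj_mem _ hy g, k, by rw [conj_pow, hk]; group⟩
    by_cases hKb : K = ⊥
    · -- all `x d ^ g = 1`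
      have h1 : ∀ g : G, x * (g * d * g⁻¹) = 1 := by
        intro g
        have h2 : x * (g * d * g⁻¹) ∈ K := ⟨hmem g, hPx g⟩
        rwa [hKb, mem_bot] at h2
      have h2 : ∀ g : G, g * d * g⁻¹ = d := by
        intro g
        have h3 := h1 g
        have h4 := h1 1
        rw [one_mul, inv_one, mul_one] at h4
        exact mul_left_cancel (h3.trans h4.symm)
      have h3 : zpowers d = ⊤ := hd _ fun g => by rw [h2 g]; exact mem_zpowers d
      obtain ⟨k, hk⟩ := hA 1 1 0 1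
      exact hP (isPGroup_of_zpowers h3 (k := k) (by simpa using hk))
    · have h1 := hN.min K hKn (fun y hy => hy.1) hKb
      apply hP
      have h2 : IsPGroup p N := by
        rintro ⟨y, hy⟩
        rw [← h1] at hy
        obtain ⟨-, k, hk⟩ := hy
        exact ⟨k, Subtype.ext hk⟩
      exact isPGroup_of_quot h2 hPN
  obtain ⟨L, hL⟩ := exists_minIn hN.ne_bot
  -- `L` is not abelian
  have hLna : ¬ ∀ a ∈ L, ∀ b ∈ L, Commute a b := by
    intro hab
    let Z : Subgroup G := cen N N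
    have hZn : Z.Normal := by
      constructor
      intro y hy g
      rw [mem_cen] at hy ⊢
      refine ⟨hN.normal.conj_mem _ hy.1 g, fun l hl => ?_⟩
      have h1 := hy.2 _ (by simpa using hN.normal.conj_mem _ hl g⁻¹)
      have h2 : Commute (g * (g⁻¹ * l * g) * g⁻¹) (g * y * g⁻¹) := by
        have := h1.map (MulAut.conj g)
        simpa only [MulAut.conj_apply, _root_.Commute.conj_iff] using this
      have h3 : g * (g⁻¹ * l * g) * g⁻¹ = l := by group
      rwa [h3] at h2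
    have hLZ : L ≤ Z := by
      intro l hl
      rw [mem_cen]
      refine ⟨hL.le hl, fun m hm => ?_⟩
      obtain ⟨a, ha, k, hk, rfl⟩ := le_prodSub hN hL m hm
      exact (hab a ha l hl).mul_left ((mem_cen.1 hk).2 l hl).symm
    have hZb : Z ≠ ⊥ := by
      intro hb
      apply hL.ne_bot
      rw [eq_bot_iff, ← hb]
      exact hLZ
    have hZ := hN.min Z hZn inf_le_left hZb
    apply hNna
    intro a ha b hb
    rw [← hZ] at hb
    exact (mem_cen.1 hb).2 a ha
  have hLs := simple_of_minIn hN hL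
  have hLna' : ¬ IsMulCommutative L := by
    intro h
    apply hLna
    intro a ha b hb
    have h1 : (⟨a, ha⟩ : L) * ⟨b, hb⟩ = ⟨b, hb⟩ * ⟨a, ha⟩ := mul_comm' _ _
    exact congrArg Subtype.val h1
  have hxN : zpowers (x : G ⧸ N) = ⊤ := by
    have h1 : (x : G ⧸ N) = (d : G ⧸ N)⁻¹ := by
      rw [eq_inv_iff_mul_eq_one]
      exact (QuotientGroup.eq_one_iff _).2 hxd
    rw [h1, zpowers_inv]; exact hdN
  -- the stabiliser of `L`
  let St : Subgroup G :=
    { carrier := {g | cj g L = L}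
      one_mem' := cj_one L
      mul_mem' := by
        intro a b ha hb
        change cj (a * b) L = L
        rw [← cj_cj, show cj b L = L from hb, show cj a L = L from ha]
      inv_mem' := by
        intro a ha
        change cj a⁻¹ L = L
        have h1 : cj a⁻¹ (cj a L) = L := by rw [cj_cj, inv_mul_cancel, cj_one]
        rwa [show cj a L = L from ha] at h1 }
  have hNSt : N ≤ St := by
    intro g hg
    change cj g L = L
    ext y
    rw [mem_cj]
    constructor
    · intro hy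
      have := hL.conj g hg _ hy
      have h2 : g * (g⁻¹ * y * g) * g⁻¹ = y := by group
      rwa [h2] at this
    · intro hy
      have := hL.conj g⁻¹ (N.inv_mem hg) _ hy
      rwa [inv_inv] at this
  by_cases hLx : cj x L = L
  · -- `L` is normal in `G`
    have hStx : x ∈ St := hLx
    have hSt : ∀ g : G, g ∈ St := by
      intro g
      obtain ⟨j, hj⟩ := mem_top_quot hxN g
      have h1 := St.mul_mem (St.zpow_mem hStx j) (hNSt hj)
      have : x ^ j * ((x ^ j)⁻¹ * g) = g := by group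
      rwa [this] at h1
    have hLn : L.Normal := by
      constructor
      intro l hl g
      have h1 : cj g L = L := hSt g
      rw [← h1, mem_cj]
      have : g⁻¹ * (g * l * g⁻¹) * g = l := by group
      rwa [this]
    have hLN : L = N := hN.min L hLn hL.le hL.ne_bot
    subst hLN
    -- the centraliser is trivial
    have hCn : (cen ⊤ L).Normal := by
      constructor
      intro y hy g
      rw [mem_cen] at hy ⊢
      refine ⟨mem_top _, fun l hl => ?_⟩
      have h1 := hy.2 _ (by simpa using hN.normal.conj_mem _ hl g⁻¹)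
      have h2 : Commute (g * (g⁻¹ * l * g) * g⁻¹) (g * y * g⁻¹) := by
        have := h1.map (MulAut.conj g)
        simpa only [MulAut.conj_apply, _root_.Commute.conj_iff] using this
      have h3 : g * (g⁻¹ * l * g) * g⁻¹ = l := by group
      rwa [h3] at h2
    have hCb : cen ⊤ L = ⊥ := by
      by_contra hb
      obtain ⟨h1, -, -⟩ := hquot (cen ⊤ L) hb
      apply hLna
      -- `L` embeds in an abelian group
      have hinf : ∀ y ∈ L, y ∈ cen ⊤ L → y = 1 := by
        intro y hy hy'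
        by_contra hne
        let Z : Subgroup G := cen L L
        have hZn : Z.Normal := by
          constructor
          intro y hy g
          rw [mem_cen] at hy ⊢
          refine ⟨hN.normal.conj_mem _ hy.1 g, fun l hl => ?_⟩
          have h1 := hy.2 _ (by simpa using hN.normal.conj_mem _ hl g⁻¹)
          have h2 : Commute (g * (g⁻¹ * l * g) * g⁻¹) (g * y * g⁻¹) := by
            have := h1.map (MulAut.conj g)
            simpa only [MulAut.conj_apply, _root_.Commute.conj_iff] using this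
          have h3 : g * (g⁻¹ * l * g) * g⁻¹ = l := by group
          rwa [h3] at h2
        have hyZ : y ∈ Z := mem_cen.2 ⟨hy, (mem_cen.1 hy').2⟩
        have hZb : Z ≠ ⊥ := by
          intro hb
          rw [hb, mem_bot] at hyZ
          exact hne hyZ
        have hZ := hN.min Z hZn inf_le_left hZb
        apply hLna
        intro a ha b hb
        rw [← hZ] at hb
        exact (mem_cen.1 hb).2 a ha
      intro a ha b hb
      have h2 : a * b * a⁻¹ * b⁻¹ ∈ cen ⊤ L := by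
        obtain ⟨i, hi⟩ := mem_zpowers_iff.1 (show (a : G ⧸ cen ⊤ L) ∈ zpowers _ by
          rw [h1]; exact mem_top _)
        obtain ⟨j, hj⟩ := mem_zpowers_iff.1 (show (b : G ⧸ cen ⊤ L) ∈ zpowers _ by
          rw [h1]; exact mem_top _)
        rw [← QuotientGroup.eq_one_iff]
        have h1 : ((a * b * a⁻¹ * b⁻¹ : G) : G ⧸ cen ⊤ L)
            = (a : G ⧸ cen ⊤ L) * b * (a : G ⧸ cen ⊤ L)⁻¹ * (b : G ⧸ cen ⊤ L)⁻¹ := rfl
        rw [h1, ← hi, ← hj]
        group
      have h3 : a * b * a⁻¹ * b⁻¹ ∈ L :=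
        L.mul_mem (L.mul_mem (L.mul_mem ha hb) (L.inv_mem ha)) (L.inv_mem hb)
      have h4 := hinf _ h3 h2
      have h5 : a * b * a⁻¹ = b := by rwa [mul_inv_eq_one] at h4
      exact mul_inv_eq_iff_eq_mul.1 h5
    have hinj : Function.Injective (MulAut.conjNormal : G →* MulAut L) := by
      rw [injective_iff_map_eq_one]
      intro g hg
      have : g ∈ cen ⊤ L := by
        rw [mem_cen]
        refine ⟨mem_top _, fun l hl => ?_⟩
        have h1 := congrArg (fun f : MulAut L => (f ⟨l, hl⟩ : G)) hg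
        simp only [MulAut.conjNormal_apply, MulAut.one_apply] at h1
        exact (mul_inv_eq_iff_eq_mul.1 h1).symm
      rwa [hCb, mem_bot] at this
    -- elements of order `p`
    have hpow : ∀ y : G, Gen y → (∃ k : ℕ, y ^ p ^ k = 1) → ∃ m : ℕ, orderOf (y ^ m) = p := by
      intro y hy ⟨k, hk⟩
      have h1 : orderOf y ∣ p ^ k := orderOf_dvd_of_pow_eq_one hk
      obtain ⟨a, -, ha⟩ := (Nat.dvd_prime_pow Fact.out).1 h1
      have ha0 : a ≠ 0 := by
        rintro rfl
        rw [pow_zero, orderOf_eq_one_iff] at ha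
        have h2 : (⊥ : Subgroup G) = ⊤ := hy ⊥ fun g => by rw [ha]; simp only [_root_.mul_one, _root_.mul_inv_cancel, _root_.OneMemClass.one_mem]
        exact bot_ne_top h2
      refine ⟨orderOf y / p, ?_⟩
      exact orderOf_pow_orderOf_div (orderOf_pos y).ne' (by rw [ha]; exact dvd_pow_self p ha0)
    obtain ⟨m, hm⟩ := hpow c hc (by
      obtain ⟨k, hk⟩ := hA 1 1 1 0
      exact ⟨k, by simpa using hk⟩)
    obtain ⟨m', hm'⟩ := hpow d hd (by
      obtain ⟨k, hk⟩ := hA 1 1 0 1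
      exact ⟨k, by simpa using hk⟩)
    obtain ⟨_, ⟨n', rfl⟩, i', j', hcon⟩ := hM L hLs hLna'
      (MulAut.conjNormal (c ^ m)) (MulAut.conjNormal (d ^ m'))
      (by rw [orderOf_injective _ hinj, hm]) (by rw [orderOf_injective _ hinj, hm'])
    obtain ⟨k, hk⟩ := hA 1 n' (m * i' : ℕ) (m' * j' : ℕ)
    apply hcon k
    have h1 : (MulAut.conj n' : MulAut L) = MulAut.conjNormal (n' : G) := by
      ext y; simp only [_root_.MulAut.conj_apply, _root_.Subgroup.coe_mul, _root_.InvMemClass.coe_inv, _root_.MulAut.conjNormal_apply]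
    rw [h1, ← map_pow, ← map_mul, ← map_inv, ← map_mul, ← map_pow, ← map_mul, ← map_pow]
    rw [← map_one (MulAut.conjNormal : G →* MulAut L)]
    congr 1
    rw [← hk]
    congr 1
    simp only [zpow_natCast, pow_mul, conj_pow, one_mul, inv_one, mul_one]
  · -- `x` moves `L`
    obtain ⟨⟨y, hyL⟩, hy⟩ := exists_not_p (p := p) hLs hLna'
    obtain ⟨l', hl', k', hk', he⟩ := le_prodSub hN hL _ hxd
    -- `n = x⁻¹ l x`
    have hne : L ≠ cj x⁻¹ L := by
      intro h
      apply hLx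
      conv_lhs => rw [h]
      rw [cj_cj, mul_inv_cancel, cj_one]
    set l : G := y * l'⁻¹ with hl
    have hlL : l ∈ L := L.mul_mem hyL (L.inv_mem hl')
    have hnmem : x⁻¹ * l * x ∈ cj x⁻¹ L := by
      rw [mem_cj]
      have : x⁻¹⁻¹ * (x⁻¹ * l * x) * x⁻¹ = l := by group
      rwa [this]
    have hncen : x⁻¹ * l * x ∈ cen N L := by
      rw [mem_cen]
      refine ⟨(hL.cj hN.normal x⁻¹).le hnmem, fun l' hl' => ?_⟩
      exact hL.commute (hL.cj hN.normal x⁻¹) hne l' hl' _ hnmem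
    have hz : x * (x⁻¹ * l * x * d * (x⁻¹ * l * x)⁻¹) = y * (k' * (x⁻¹ * l * x)⁻¹) := by
      calc x * (x⁻¹ * l * x * d * (x⁻¹ * l * x)⁻¹) = l * (x * d) * (x⁻¹ * l * x)⁻¹ := by group
        _ = y * (k' * (x⁻¹ * l * x)⁻¹) := by rw [he, hl]; group
    have hkc : k' * (x⁻¹ * l * x)⁻¹ ∈ cen N L := (cen N L).mul_mem hk' ((cen N L).inv_mem hncen)
    obtain ⟨k, hk⟩ := hPx (x⁻¹ * l * x)
    rw [hz, ((mem_cen.1 hkc).2 y hyL).mul_pow] at hk
    -- `y ^ p ^ k` is central in `L`
    have h1 : y ^ p ^ k ∈ cen N L := by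
      have h2 : y ^ p ^ k = ((k' * (x⁻¹ * l * x)⁻¹) ^ p ^ k)⁻¹ := eq_inv_of_mul_eq_one_left hk
      rw [h2]
      exact (cen N L).inv_mem ((cen N L).pow_mem hkc _)
    have h2 : (⟨y, hyL⟩ : L) ^ p ^ k ∈ Subgroup.center L := by
      rw [Subgroup.mem_center_iff]
      rintro ⟨a, ha⟩
      apply Subtype.ext
      exact (mem_cen.1 h1).2 a ha
    have h3 : Subgroup.center L = ⊥ := by
      refine (hLs.eq_bot_or_eq_top_of_normal _ inferInstance).resolve_right fun ht => hLna' ?_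
      refine ⟨⟨fun a b => ?_⟩⟩
      have h2 : a ∈ Subgroup.center L := by rw [ht]; exact mem_top _
      exact (Subgroup.mem_center_iff.1 h2 b).symm
    rw [h3, mem_bot] at h2
    exact hy k h2

end main


/-- The form of S2275. -/
theorem s2275_of (p : ℕ) (hp : p.Prime)
    (hM : ∀ (S : Type u) [Group S] [Finite S], IsSimpleGroup S → ¬ IsMulCommutative S →
      MRow p S) {G : Type u} [Group G] [Finite G] (c₀ d₀ : G)
    (hC : Subgroup.closure (ConjClasses.mk c₀).carrier = ⊤)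
    (hD : Subgroup.closure (ConjClasses.mk d₀).carrier = ⊤)
    (h : ∀ c ∈ (ConjClasses.mk c₀).carrier, ∀ d ∈ (ConjClasses.mk d₀).carrier, ∀ i j : ℤ,
      ∃ k : ℕ, orderOf (c ^ i * d ^ j) = p ^ k) :
    IsCyclic G ∧ IsPGroup p G := by
  have := Fact.mk hp
  have hgen : ∀ c : G, Subgroup.closure (ConjClasses.mk c).carrier = ⊤ → Gen c := by
    intro c hc H hH
    rw [eq_top_iff, ← hc, Subgroup.closure_le]
    intro x hx
    rw [ConjClasses.mem_carrier_iff_mk_eq, ConjClasses.mk_eq_mk_iff_isConj, isConj_comm,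
      isConj_iff] at hx
    obtain ⟨g, rfl⟩ := hx
    exact hH g
  have hmem : ∀ c g : G, g * c * g⁻¹ ∈ (ConjClasses.mk c).carrier := by
    intro c g
    rw [ConjClasses.mem_carrier_iff_mk_eq, ConjClasses.mk_eq_mk_iff_isConj, isConj_comm,
      isConj_iff]
    exact ⟨g, rfl⟩
  have hA : AllP p c₀ d₀ := by
    intro g h' i j
    obtain ⟨k, hk⟩ := h _ (hmem c₀ g) _ (hmem d₀ h') i j
    exact ⟨k, by rw [← hk, pow_orderOf_eq_one]⟩
  obtain ⟨h1, h2⟩ := main p hM (Nat.card G) G rfl c₀ d₀ (hgen _ hC) (hgen _ hD) hA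
  refine ⟨⟨c₀, fun x => ?_⟩, h2⟩
  exact Subgroup.mem_zpowers_iff.1 (show x ∈ Subgroup.zpowers c₀ by
    rw [h1]; exact Subgroup.mem_top _)

end Cfsg.Agent.H106.TwoRed
end

-- part: H106/AbSyl
section
/-!
# Groups with an abelian Sylow `p`-subgroup and the condition `TT`

`TT p a b`: all `a ^ i * (g b g⁻¹) ^ j` are `p`-elements.

`exists_normal`: `P` an abelian Sylow `p`-subgroup of `K`, `V ≤ P` elementary abelian, `V = ⟨X⟩ = ⟨Y⟩`,
`TT p a b` for all `a ∈ X`, `b ∈ Y`, and `MRow p L` for the simple groups `L` of order less than `n`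
(`|K| < n`): then `V` lies in a normal `p`-subgroup of `K`.
-/

set_option autoImplicit false

universe u

namespace Cfsg.Agent.H106.AbSyl

open Cfsg.Agent.H533.T5 Cfsg.Agent.H957.T5M Cfsg.Agent.H106.MB Cfsg.Agent.H106.MT
open Cfsg.Agent.H106.TwoRed Subgroup

variable {G : Type*} [Group G] {p : ℕ}

/-- All `a ^ i * (g b g⁻¹) ^ j` are `p`-elements. -/
def TT (p : ℕ) (a b : G) : Prop :=
  ∀ g : G, ∀ i j : ℤ, ∃ k : ℕ, (a ^ i * (g * b * g⁻¹) ^ j) ^ p ^ k = 1

theorem TT.map {a b : G} (h : TT p a b) {G' : Type*} [Group G'] (φ : G →* G')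
    (hφ : Function.Surjective φ) : TT p (φ a) (φ b) := by
  intro g' i j
  obtain ⟨g, rfl⟩ := hφ g'
  obtain ⟨k, hk⟩ := h g i j
  refine ⟨k, ?_⟩
  have := congrArg φ hk
  simpa only [_root_.conj_zpow, _root_.map_pow, _root_.map_mul, _root_.map_zpow, _root_.map_inv, _root_.map_one] using this

theorem TT.sub {a b : G} (h : TT p a b) {H : Subgroup G} (ha : a ∈ H) (hb : b ∈ H) :
    TT p (⟨a, ha⟩ : H) ⟨b, hb⟩ := by
  intro g i j
  obtain ⟨k, hk⟩ := h g i j
  exact ⟨k, Subtype.ext (by simpa only [_root_.conj_zpow, _root_.SubmonoidClass.coe_pow, _root_.Subgroup.coe_mul, _root_.SubgroupClass.coe_zpow, _root_.InvMemClass.coe_inv, _root_.OneMemClass.coe_one] using hk)⟩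

/-- **Coprime action**: `V` elementary abelian generated by `X` and by `Y`, `N` a `p'`-group
normalised by `V`, and `TT p a b`: then `V` centralises `N`. -/
theorem commute_of_coprime [Finite G] [hp : Fact p.Prime] {V N : Subgroup G}
    (hVc : ∀ a ∈ V, ∀ b ∈ V, Commute a b) (hVp : ∀ v ∈ V, v ^ p = 1) (hN : ¬ p ∣ Nat.card N)
    (hVN : V ≤ normalizer (N : Set G)) {X Y : Set G} (hX : X ⊆ V) (hY : Y ⊆ V)
    (hXV : closure X = V) (hYV : closure Y = V) (hT : ∀ a ∈ X, ∀ b ∈ Y, TT p a b) :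
    ∀ v ∈ V, ∀ n ∈ N, Commute v n := by
  have hpp : p.Prime := hp.out
  by_cases hV1 : V = ⊥
  · intro v hv n _
    rw [hV1, mem_bot] at hv
    rw [hv]; exact Commute.one_left n
  have hE : Cfsg.IsElementaryAbelian p V := by
    refine ⟨⟨⟨fun a b => ?_⟩⟩, hVp⟩
    exact Subtype.ext (hVc a a.2 b b.2).eq
  have hgen := Cfsg.Agent.Lib.CoprimeHyperplane.iSup_centralizer_hyperplane hE hV1 hN hVN
  -- it suffices to treat `C_N(B)`
  have key : ∀ B : Subgroup G, B ≤ V → B.relIndex V = p →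
      ∀ v ∈ V, ∀ n ∈ N ⊓ centralizer (B : Set G), Commute v n := by
    intro B hB hidx
    have hex : ∀ Z : Set G, Z ⊆ V → closure Z = V → ∃ z ∈ Z, z ∉ B := by
      intro Z hZ hZV
      by_contra hcon
      push Not at hcon
      have h1 : V ≤ B := by
        rw [← hZV, closure_le]; exact hcon
      have h2 : B.relIndex V = 1 := relIndex_eq_one.2 h1
      rw [hidx] at h2
      exact hpp.one_lt.ne' h2
    obtain ⟨a, haX, haB⟩ := hex X hX hXV
    obtain ⟨b, hbY, hbB⟩ := hex Y hY hYV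
    have haV := hX haX
    have hbV := hY hbY
    obtain ⟨j, hj⟩ := exists_zpow_mem hB hVc hidx (inv_mem haV) hbV hbB
    rw [inv_inv] at hj
    -- `a` centralises `C_N(B)`
    have ha : ∀ n ∈ N ⊓ centralizer (B : Set G), Commute a n := by
      rintro u ⟨huN, huB⟩
      have huB' : ∀ z ∈ B, Commute z u := fun z hz => mem_centralizer_iff.1 huB z hz
      set z := a * b ^ j with hz
      have hbj : b ^ j ∈ V := zpow_mem hbV j
      -- `w = (b⁻ʲ u bʲ) u⁻¹`
      set w := (b ^ j)⁻¹ * u * b ^ j * u⁻¹ with hw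
      have hwN : w ∈ N := by
        refine mul_mem ?_ (inv_mem huN)
        have := (mem_normalizer_iff.1 (hVN (inv_mem hbj)) u).1 huN
        simpa using this
      have hzw : Commute z w := by
        have h1 : Commute z u := huB' z hj
        have h2 : Commute z (b ^ j) := hVc _ (hB hj) _ hbj
        exact ((h2.inv_right.mul_right h1).mul_right h2).mul_right h1.inv_right
      have heq : a ^ (1 : ℤ) * (u * b * u⁻¹) ^ j = z * w := by
        rw [zpow_one, conj_zpow, hz, hw]; group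
      obtain ⟨k, hk⟩ := hT a haX b hbY u 1 j
      rw [heq, hzw.mul_pow] at hk
      have hzp : z ^ p ^ k * z ^ (p ^ k * (p - 1)) = 1 := by
        rw [← pow_add]
        have h3 : p ^ k + p ^ k * (p - 1) = p * p ^ k := by
          have := hpp.one_lt
          obtain ⟨q, rfl⟩ : ∃ q, p = q + 1 := ⟨p - 1, by omega⟩
          simp only [_root_.add_tsub_cancel_right]; ring
        rw [h3, pow_mul, hVp z (hB hj), one_pow]
      have hwp : w ^ p ^ (k + 1) = 1 := by
        rw [pow_succ, pow_mul]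
        have h4 : w ^ p ^ k = (z ^ p ^ k)⁻¹ := eq_inv_of_mul_eq_one_right hk
        rw [h4, inv_pow, ← pow_mul, mul_comm, pow_mul, hVp z (hB hj), one_pow, inv_one]
      have hw1 : w = 1 := by
        have h5 : orderOf w ∣ p ^ (k + 1) := orderOf_dvd_of_pow_eq_one hwp
        have h6 : orderOf w ∣ Nat.card N := by
          have h7 := _root_.orderOf_dvd_natCard (⟨w, hwN⟩ : N)
          rwa [Subgroup.orderOf_mk] at h7
        have h7 : Nat.Coprime (p ^ (k + 1)) (Nat.card N) :=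
          Nat.Coprime.pow_left _ ((Nat.Prime.coprime_iff_not_dvd hpp).2 hN)
        have h8 : orderOf w = 1 := Nat.eq_one_of_dvd_coprimes h7 h5 h6
        exact orderOf_eq_one_iff.1 h8
      have hbu : Commute (b ^ j) u := by
        rw [hw, mul_inv_eq_one] at hw1
        have : u * b ^ j = b ^ j * u := by
          calc u * b ^ j = b ^ j * ((b ^ j)⁻¹ * u * b ^ j) := by group
            _ = _ := by rw [hw1]
        exact this.symm
      have h9 : a = z * (b ^ j)⁻¹ := by rw [hz]; group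
      rw [h9]
      exact (huB' z hj).mul_left hbu.inv_left
    -- `V = B ⟨a⟩`
    intro v hv n hn
    obtain ⟨i, hi⟩ := exists_zpow_mem hB hVc hidx hv haV haB
    have h1 : v = a ^ i * (v⁻¹ * a ^ i)⁻¹ := by group
    rw [h1]
    refine ((ha n hn).zpow_left i).mul_left ?_
    exact (mem_centralizer_iff.1 hn.2 _ (inv_mem hi) : Commute _ n)
  intro v hv n hn
  rw [← hgen] at hn
  -- the centraliser of `v` contains all `C_N(B)`
  have hle : (⨆ B : {B : Subgroup G // B ≤ V ∧ B.relIndex V = p},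
      N ⊓ centralizer ((B : Subgroup G) : Set G)) ≤ centralizer ({v} : Set G) := by
    refine iSup_le ?_
    rintro ⟨B, hB, hidx⟩ n hn
    rw [mem_centralizer_singleton_iff]
    exact (key B hB hidx v hv n hn).symm
  exact (mem_centralizer_singleton_iff.1 (hle hn) : n * v = v * n).symm

theorem le_pCore_of_central [Finite G] [hp : Fact p.Prime] {N V : Subgroup G} [N.Normal]
    (hNc : N ≤ center G) (hV : IsPGroup p V)
    (h : V.map (QuotientGroup.mk' N) ≤ Cfsg.pCore p (G ⧸ N)) : V ≤ Cfsg.pCore p G := by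
  set W : Subgroup G := (Cfsg.pCore p (G ⧸ N)).comap (QuotientGroup.mk' N) with hW
  have hWn : W.Normal := by
    have := Lib.Cores.pCore_normal (G := G ⧸ N) p
    exact this.comap _
  have hVW : V ≤ W := by
    rw [hW, ← map_le_iff_le_comap]; exact h
  have hNW : N ≤ W := by
    intro x hx
    rw [hW, mem_comap, QuotientGroup.mk'_apply, (QuotientGroup.eq_one_iff x).2 hx]
    exact one_mem _
  -- `W` is nilpotent
  let f : W →* Cfsg.pCore p (G ⧸ N) :=
    ((QuotientGroup.mk' N).comp W.subtype).codRestrict (Cfsg.pCore p (G ⧸ N)) (fun w => w.2)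
  have hker : f.ker ≤ center W := by
    intro w hw
    rw [mem_center_iff]
    intro g
    have h1 : (w : G) ∈ N := by
      have h2 := congrArg Subtype.val (MonoidHom.mem_ker.1 hw)
      exact (QuotientGroup.eq_one_iff _).1 h2
    exact Subtype.ext (mem_center_iff.1 (hNc h1) g)
  have hnil : Group.IsNilpotent (Cfsg.pCore p (G ⧸ N)) :=
    (Lib.Cores.pCore_isPGroup (G := G ⧸ N) p).isNilpotent
  have hWnil : Group.IsNilpotent W := Subgroup.isNilpotent_of_ker_le_center f hker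
  have hsyl := ((Group.isNilpotent_of_finite_tfae (G := W)).out 0 3).1 hWnil
  have hVp : IsPGroup p (V.subgroupOf W) := hV.comap_subtype
  obtain ⟨Q, hQ⟩ := hVp.exists_le_sylow
  have hQn : (Q : Subgroup W).Normal := hsyl p hp Q
  have h1 : V.subgroupOf W ≤ Cfsg.pCore p W := hQ.trans (Lib.Cores.le_pCore hQn Q.isPGroup')
  have h2 := Lib.Cores.map_subtype_pCore p hWn
  intro v hv
  have h3 : v ∈ (Cfsg.pCore p W).map W.subtype := ⟨⟨v, hVW hv⟩, h1 hv, rfl⟩
  rw [h2] at h3
  exact h3.2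

section components

variable {N L : Subgroup G}

theorem closure_conj_eq (hN : MinNormal N) (hL : MinIn N L) :
    _root_.Subgroup.closure {x : G | ∃ g : G, ∃ l ∈ L, x = g * l * g⁻¹} = N := by
  set K : Subgroup G := _root_.Subgroup.closure {x | ∃ g : G, ∃ l ∈ L, x = g * l * g⁻¹} with hKdef
  have hKn : K.Normal := by
    constructor
    intro x hx g
    induction hx using Subgroup.closure_induction with
    | mem x hx =>
      obtain ⟨h, l, hl, rfl⟩ := hx
      exact Subgroup.subset_closure ⟨g * h, l, hl, by group⟩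
    | one => simp
    | mul x y _ _ hx hy =>
      have : g * (x * y) * g⁻¹ = (g * x * g⁻¹) * (g * y * g⁻¹) := by group
      rw [this]; exact mul_mem hx hy
    | inv x _ hx =>
      have : g * x⁻¹ * g⁻¹ = (g * x * g⁻¹)⁻¹ := by group
      rw [this]; exact inv_mem hx
  have hKN : K ≤ N := by
    rw [hKdef, Subgroup.closure_le]
    rintro _ ⟨g, l, hl, rfl⟩
    exact hN.normal.conj_mem _ (hL.le hl) g
  have hLK : L ≤ K := fun l hl => Subgroup.subset_closure ⟨1, l, hl, by simp⟩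
  have hKb : K ≠ ⊥ := by
    intro hb
    apply hL.ne_bot
    rw [eq_bot_iff, ← hb]
    exact hLK
  exact hN.min K hKn hKN hKb

theorem cen_normal [hn : N.Normal] : (cen N N).Normal := by
  constructor
  intro y hy g
  rw [mem_cen] at hy ⊢
  refine ⟨hn.conj_mem _ hy.1 g, fun l hl => ?_⟩
  have h1 := hy.2 _ (by simpa using hn.conj_mem _ hl g⁻¹)
  have h2 : Commute (g * (g⁻¹ * l * g) * g⁻¹) (g * y * g⁻¹) := by
    have := h1.map (MulAut.conj g)
    simpa only [MulAut.conj_apply, _root_.Commute.conj_iff] using this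
  have h3 : g * (g⁻¹ * l * g) * g⁻¹ = l := by group
  rwa [h3] at h2

theorem cen_eq_bot (hN : MinNormal N) (hNna : ¬ ∀ a ∈ N, ∀ b ∈ N, Commute a b) :
    cen N N = ⊥ := by
  by_contra hb
  have := hN.normal
  have hZ := hN.min (cen N N) cen_normal inf_le_left hb
  apply hNna
  intro a ha b hb
  rw [← hZ] at hb
  exact (mem_cen.1 hb).2 a ha

theorem not_comm_of_minIn (hN : MinNormal N) (hL : MinIn N L)
    (hNna : ¬ ∀ a ∈ N, ∀ b ∈ N, Commute a b) : ¬ ∀ a ∈ L, ∀ b ∈ L, Commute a b := by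
  intro hab
  have hLZ : L ≤ cen N N := by
    intro l hl
    rw [mem_cen]
    refine ⟨hL.le hl, fun m hm => ?_⟩
    obtain ⟨a, ha, k, hk, rfl⟩ := le_prodSub hN hL m hm
    exact (hab a ha l hl).mul_left ((mem_cen.1 hk).2 l hl).symm
  apply hL.ne_bot
  rw [eq_bot_iff, ← cen_eq_bot hN hNna]
  exact hLZ

theorem center_minIn (hN : MinNormal N) (hL : MinIn N L)
    (hNna : ¬ ∀ a ∈ N, ∀ b ∈ N, Commute a b) {x : G} (hx : x ∈ L) (h : ∀ l ∈ L, Commute l x) :
    x = 1 := by
  have h1 : x ∈ cen N N := by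
    rw [mem_cen]
    refine ⟨hL.le hx, fun m hm => ?_⟩
    obtain ⟨a, ha, k, hk, rfl⟩ := le_prodSub hN hL m hm
    exact (h a ha).mul_left ((mem_cen.1 hk).2 x hx).symm
  rwa [cen_eq_bot hN hNna, mem_bot] at h1

theorem dvd_card_minIn [Finite G] [hp : Fact p.Prime] (hN : MinNormal N) (hL : MinIn N L)
    (hNna : ¬ ∀ a ∈ N, ∀ b ∈ N, Commute a b) (hpN : p ∣ Nat.card N) : p ∣ Nat.card L := by
  by_contra hcon
  obtain ⟨⟨z, hzN⟩, hz⟩ := exists_prime_orderOf_dvd_card' p hpN
  have hz' : orderOf z = p := by rwa [Subgroup.orderOf_mk] at hz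
  -- `z` commutes with all conjugates of `L`
  have h1 : ∀ g : G, ∀ l ∈ cj g L, Commute l z := by
    intro g l hl
    have hLg := hL.cj hN.normal g
    obtain ⟨a, ha, c, hc, hac⟩ := le_prodSub hN hLg z hzN
    have hcomm : Commute a c := (mem_cen.1 hc).2 a ha
    have h2 : a ^ p * c ^ p = 1 := by
      rw [← hcomm.mul_pow, ← hac, ← hz', pow_orderOf_eq_one]
    have h3 : a ^ p = 1 := by
      apply center_minIn hN hLg hNna (pow_mem ha p)
      intro l' hl'
      have h4 : a ^ p = (c ^ p)⁻¹ := eq_inv_of_mul_eq_one_left h2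
      rw [h4]
      exact (((mem_cen.1 hc).2 l' hl').pow_right p).inv_right
    have h5 : a = 1 := by
      have h6 : orderOf a ∣ p := orderOf_dvd_of_pow_eq_one h3
      have h7 : orderOf a ∣ Nat.card L := by
        have h8 : orderOf (⟨a, ha⟩ : cj g L) ∣ Nat.card (cj g L) := _root_.orderOf_dvd_natCard _
        rw [Subgroup.orderOf_mk] at h8
        have h9 : Nat.card (cj g L) = Nat.card L :=
          Subgroup.card_map_of_injective (MulAut.conj g).injective
        rwa [h9] at h8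
      have h8 : Nat.Coprime p (Nat.card L) := (Nat.Prime.coprime_iff_not_dvd hp.out).2 hcon
      exact orderOf_eq_one_iff.1 (Nat.eq_one_of_dvd_coprimes h8 h6 h7)
    rw [hac, h5, one_mul]
    exact (mem_cen.1 hc).2 l hl
  have h2 : z ∈ cen N N := by
    rw [mem_cen]
    refine ⟨hzN, ?_⟩
    intro n hn
    rw [← closure_conj_eq hN hL] at hn
    induction hn using Subgroup.closure_induction with
    | mem x hx =>
      obtain ⟨g, l, hl, rfl⟩ := hx
      apply h1 g
      rw [mem_cj]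
      have : g⁻¹ * (g * l * g⁻¹) * g = l := by group
      rwa [this]
    | one => exact Commute.one_left z
    | mul x y _ _ hx hy => exact hx.mul_left hy
    | inv x _ hx => exact hx.inv_left
  rw [cen_eq_bot hN hNna, mem_bot] at h2
  rw [h2, orderOf_one] at hz'
  exact hp.out.one_lt.ne hz'

end components

section main

theorem closure_image_map {G' : Type*} [Group G'] (φ : G →* G') {X : Set G} {V : Subgroup G}
    (h : closure X = V) : _root_.Subgroup.closure (φ '' X) = V.map φ := by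
  rw [← h, MonoidHom.map_closure]

theorem closure_sub {X : Set G} {V C : Subgroup G} (hVC : V ≤ C) (h : closure X = V) :
    _root_.Subgroup.closure (((↑) : C → G) ⁻¹' X) = V.subgroupOf C := by
  have hX : X ⊆ C := by
    intro x hx
    exact hVC (by rw [← h]; exact _root_.Subgroup.subset_closure hx)
  apply Subgroup.map_injective C.subtype_injective
  rw [MonoidHom.map_closure, Subgroup.subgroupOf_map_subtype, inf_eq_left.2 hVC, ← h]
  congr 1
  ext x
  constructor
  · rintro ⟨y, hy, rfl⟩; exact hy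
  · intro hx; exact ⟨⟨x, hX hx⟩, hx, rfl⟩

/-- **`V` lies in a normal `p`-subgroup.** -/
theorem le_pCore_of_TT [hp : Fact p.Prime] (n : ℕ)
    (hM : ∀ (L : Type u) [Group L] [Finite L], IsSimpleGroup L → ¬ IsMulCommutative L →
      Nat.card L < n → MRow p L) :
    ∀ (m : ℕ), m < n → ∀ (K : Type u) [Group K] [Finite K], Nat.card K = m →
      ∀ (P : Sylow p K) (V : Subgroup K), (∀ a ∈ P, ∀ b ∈ P, Commute a b) →
      V ≤ (P : Subgroup K) → (∀ v ∈ V, v ^ p = 1) → ∀ X Y : Set K, closure X = V →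
      closure Y = V → (∀ a ∈ X, ∀ b ∈ Y, TT p a b) → V ≤ Cfsg.pCore p K := by
  intro m
  induction m using Nat.strong_induction_on with
  | _ m ih =>
  intro hmn K _ _ hm P V hPc hVP hVp X Y hX hY hT
  have hpp : p.Prime := hp.out
  by_cases hV1 : V = ⊥
  · rw [hV1]; exact bot_le
  have hK : Nontrivial K := by
    by_contra h
    rw [not_nontrivial_iff_subsingleton] at h
    exact hV1 (Subsingleton.elim _ _)
  have hVc : ∀ a ∈ V, ∀ b ∈ V, Commute a b := fun a ha b hb => hPc a (hVP ha) b (hVP hb)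
  have hXV : X ⊆ V := by rw [← hX]; exact _root_.Subgroup.subset_closure
  have hYV : Y ⊆ V := by rw [← hY]; exact _root_.Subgroup.subset_closure
  obtain ⟨N, hN⟩ := exists_minNormal (G := K)
  have hNn := hN.normal
  -- reduction to the centraliser of `N`
  have hcent : (∀ v ∈ V, ∀ x ∈ N, Commute v x) → centralizer (N : Set K) ≠ ⊤ →
      V ≤ Cfsg.pCore p K := by
    intro hVN hC
    set C : Subgroup K := centralizer (N : Set K) with hCdef
    have hCn : C.Normal := Subgroup.normal_centralizer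
    have hVC : V ≤ C := by
      intro v hv
      rw [hCdef, mem_centralizer_iff]
      intro x hx
      exact (hVN v hv x hx).symm.eq
    have hlt : Nat.card C < m := by
      rw [← hm]
      have h1 := C.card_mul_index
      have h2 : C.index ≠ 1 := by rwa [Ne, index_eq_one]
      have h3 : 0 < C.index := Nat.pos_of_ne_zero C.index_ne_zero_of_finite
      have h4 : 0 < Nat.card C := Nat.card_pos
      have h5 : 2 ≤ C.index := by omega
      have h6 : Nat.card C * 2 ≤ Nat.card C * C.index := Nat.mul_le_mul_left _ h5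
      omega
    -- the Sylow subgroup of `C`
    have hPC : IsPGroup p ((P : Subgroup K).subgroupOf C) := P.isPGroup'.comap_subtype
    have hidx : ¬ p ∣ ((P : Subgroup K).subgroupOf C).index :=
      Lib.SylowNormalInf.not_dvd_relIndex P C
    let P' : Sylow p C := hPC.toSylow hidx
    have h1 := ih (Nat.card C) hlt (hlt.trans hmn) C rfl P' (V.subgroupOf C)
      (fun a ha b hb => Subtype.ext (hPc a ha b hb).eq) (fun v hv => hVP hv)
      (fun v hv => Subtype.ext (hVp v hv)) _ _ (closure_sub hVC hX) (closure_sub hVC hY)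
      (fun a ha b hb => (hT a ha b hb).sub a.2 b.2)
    have h2 := Lib.Cores.map_subtype_pCore p hCn
    intro v hv
    have h3 : v ∈ (Cfsg.pCore p C).map C.subtype := ⟨⟨v, hVC hv⟩, h1 hv, rfl⟩
    rw [h2] at h3
    exact h3.2
  -- the quotient by `N`
  have hquot : V.map (QuotientGroup.mk' N) ≤ Cfsg.pCore p (K ⧸ N) := by
    have hs := QuotientGroup.mk'_surjective N
    have hlt : Nat.card (K ⧸ N) < m := by
      rw [← hm, ← Subgroup.index_eq_card]
      have h1 := N.card_mul_index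
      have h2 : 1 < Nat.card N := by
        rw [Finite.one_lt_card_iff_nontrivial, nontrivial_iff_ne_bot]; exact hN.ne_bot
      have h3 : 0 < N.index := Nat.pos_of_ne_zero N.index_ne_zero_of_finite
      nlinarith only [h1, h2, h3]
    have hPm : IsPGroup p ((P : Subgroup K).map (QuotientGroup.mk' N)) := P.isPGroup'.map _
    have hidx : ¬ p ∣ ((P : Subgroup K).map (QuotientGroup.mk' N)).index := by
      intro h
      exact P.not_dvd_index (h.trans (Subgroup.index_map_dvd _ hs))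
    let P' : Sylow p (K ⧸ N) := hPm.toSylow hidx
    refine ih (Nat.card (K ⧸ N)) hlt (hlt.trans hmn) (K ⧸ N) rfl P' _ ?_
      (Subgroup.map_mono hVP) ?_ _ _ (closure_image_map _ hX) (closure_image_map _ hY) ?_
    · rintro _ ⟨a, ha, rfl⟩ _ ⟨b, hb, rfl⟩
      exact (hPc a ha b hb).map (QuotientGroup.mk' N)
    · rintro _ ⟨v, hv, rfl⟩
      rw [← map_pow, hVp v hv, map_one]
    · rintro _ ⟨a, ha, rfl⟩ _ ⟨b, hb, rfl⟩
      exact (hT a ha b hb).map _ hs
  by_cases hpN : p ∣ Nat.card N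
  swap
  · -- `N` is a `p'`-group
    have hVN : ∀ v ∈ V, ∀ x ∈ N, Commute v x :=
      commute_of_coprime hVc hVp hpN (by rw [normalizer_eq_top]; exact le_top) hXV hYV hX hY hT
    by_cases hC : centralizer (N : Set K) = ⊤
    · refine le_pCore_of_central (N := N) ?_ (P.isPGroup'.to_le hVP) hquot
      intro x hx
      rw [mem_center_iff]
      intro g
      have hg : g ∈ centralizer (N : Set K) := by rw [hC]; exact mem_top g
      exact (mem_centralizer_iff.1 hg x hx).symm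
    · exact hcent hVN hC
  by_cases hNab : ∀ a ∈ N, ∀ b ∈ N, Commute a b
  · -- `N` is an elementary abelian `p`-group
    let E : Subgroup K :=
      { carrier := {y | y ∈ N ∧ ∃ k : ℕ, y ^ p ^ k = 1}
        one_mem' := ⟨one_mem _, 0, by simp⟩
        mul_mem' := by
          rintro a b ⟨ha, k, hk⟩ ⟨hb, m, hm⟩
          refine ⟨mul_mem ha hb, k + m, ?_⟩
          rw [(hNab a ha b hb).mul_pow, pow_add, pow_mul, hk, one_pow, one_mul, mul_comm (p ^ k),
            pow_mul, hm, one_pow]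
        inv_mem' := by
          rintro a ⟨ha, k, hk⟩
          exact ⟨inv_mem ha, k, by rw [inv_pow, hk, inv_one]⟩ }
    have hEn : E.Normal := by
      constructor
      rintro y ⟨hy, k, hk⟩ g
      exact ⟨hN.normal.conj_mem _ hy g, k, by rw [conj_pow, hk]; group⟩
    have hEb : E ≠ ⊥ := by
      intro hb
      obtain ⟨⟨z, hzN⟩, hz⟩ := exists_prime_orderOf_dvd_card' p hpN
      have hz' : orderOf z = p := by rwa [Subgroup.orderOf_mk] at hz
      have h1 : z ∈ E := ⟨hzN, 1, by rw [pow_one, ← hz', pow_orderOf_eq_one]⟩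
      rw [hb, mem_bot] at h1
      rw [h1, orderOf_one] at hz'
      exact hpp.one_lt.ne hz'
    have hE := hN.min E hEn (fun y hy => hy.1) hEb
    have hNp : IsPGroup p N := by
      rintro ⟨y, hy⟩
      rw [← hE] at hy
      obtain ⟨-, k, hk⟩ := hy
      exact ⟨k, Subtype.ext hk⟩
    rw [← Lib.Cores.comap_mk_pCore p hNp, ← map_le_iff_le_comap]
    exact hquot
  -- `N` is not abelian
  by_cases hVN : ∀ v ∈ V, ∀ x ∈ N, Commute v x
  · refine hcent hVN ?_
    intro hC
    apply hNab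
    intro a ha b hb
    have h1 : b ∈ centralizer (N : Set K) := by rw [hC]; exact mem_top b
    exact mem_centralizer_iff.1 h1 a ha
  exfalso
  obtain ⟨L0, hL0⟩ := exists_minIn hN.ne_bot
  -- a conjugate `L` of `L0` not centralised by `V`
  obtain ⟨g0, hg0⟩ : ∃ g : K, ¬ ∀ v ∈ V, ∀ x ∈ cj g L0, Commute v x := by
    by_contra hcon
    push Not at hcon
    apply hVN
    intro v hv x hx
    rw [← closure_conj_eq hN hL0] at hx
    induction hx using Subgroup.closure_induction with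
    | mem x hx =>
      obtain ⟨g, l, hl, rfl⟩ := hx
      apply hcon g v hv
      rw [mem_cj]
      have : g⁻¹ * (g * l * g⁻¹) * g = l := by group
      rwa [this]
    | one => exact Commute.one_right v
    | mul x y _ _ hx hy => exact hx.mul_right hy
    | inv x _ hx => exact hx.inv_right
  set L : Subgroup K := cj g0 L0 with hLdef
  have hL : MinIn N L := hL0.cj hN.normal g0
  have hLs := simple_of_minIn hN hL
  have hLna := not_comm_of_minIn hN hL hNab
  have hLna' : ¬ IsMulCommutative L := by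
    intro h
    apply hLna
    intro a ha b hb
    have h1 : (⟨a, ha⟩ : L) * ⟨b, hb⟩ = ⟨b, hb⟩ * ⟨a, ha⟩ := mul_comm' _ _
    exact congrArg Subtype.val h1
  -- an element of order `p` of `L` lies in `P`
  obtain ⟨x, hxL, hxP, hx1⟩ : ∃ x ∈ L, x ∈ P ∧ x ≠ 1 := by
    obtain ⟨⟨z, hzL⟩, hz⟩ := exists_prime_orderOf_dvd_card' p (dvd_card_minIn hN hL hNab hpN)
    have hz' : orderOf z = p := by rwa [Subgroup.orderOf_mk] at hz
    have hPN : IsPGroup p ((P : Subgroup K).subgroupOf N) := P.isPGroup'.comap_subtype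
    have hidx : ¬ p ∣ ((P : Subgroup K).subgroupOf N).index :=
      Lib.SylowNormalInf.not_dvd_relIndex P N
    let P' : Sylow p N := hPN.toSylow hidx
    obtain ⟨⟨k, hk⟩, hkz⟩ := exists_conj_mem_sylow P' (z := (⟨z, hL.le hzL⟩ : N))
      (by rw [Subgroup.orderOf_mk, hz'])
    have hkz' : k * z * k⁻¹ ∈ P := hkz
    refine ⟨k * z * k⁻¹, hL.conj k hk z hzL, hkz', ?_⟩
    intro h1
    have h2 : orderOf (k * z * k⁻¹) = p := by rw [orderOf_cj, hz']
    rw [h1, orderOf_one] at h2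
    exact hpp.one_lt.ne h2
  -- `V` normalises `L`
  have hVL : ∀ v ∈ V, cj v L = L := by
    intro v hv
    by_contra hne
    have hcom := hL.commute (hL.cj hN.normal v) (fun h => hne h.symm)
    apply hx1
    refine center_minIn hN hL hNab hxL fun l hl => ?_
    refine hcom l hl x ?_
    rw [mem_cj]
    have h1 : v⁻¹ * x * v = x := by
      have := (hPc v (hVP hv) x hxP).eq
      rw [mul_assoc, ← this]; group
    rwa [h1]
  have hVnorm : ∀ v ∈ V, v ∈ normalizer (L : Set K) := by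
    intro v hv
    rw [mem_normalizer_iff]
    intro y
    have h1 := hVL v hv
    constructor
    · intro hy
      have : v * y * v⁻¹ ∈ cj v L := by
        rw [mem_cj]
        have : v⁻¹ * (v * y * v⁻¹) * v = y := by group
        rwa [this]
      rwa [h1] at this
    · intro hy
      have hy' : v * y * v⁻¹ ∈ cj v L := by rw [h1]; exact hy
      rw [mem_cj] at hy'
      have : v⁻¹ * (v * y * v⁻¹) * v = y := by group
      rwa [this] at hy'
  -- elements of `X` and `Y` which do not centralise `L`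
  have hex : ∀ Z : Set K, closure Z = V → ∃ z ∈ Z, ∃ r ∈ L, ¬ Commute r z := by
    intro Z hZ
    by_contra hcon
    push Not at hcon
    apply hg0
    intro v hv y hy
    rw [← hZ] at hv
    induction hv using Subgroup.closure_induction with
    | mem z hz => exact (hcon z hz y hy).symm
    | one => exact Commute.one_left y
    | mul x y _ _ hx hy => exact hx.mul_left hy
    | inv x _ hx => exact hx.inv_left
  obtain ⟨a, haX, ha⟩ := hex X hX
  obtain ⟨b, hbY, hb⟩ := hex Y hY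
  have hord : ∀ v ∈ V, (∃ r ∈ L, ¬ Commute r v) → orderOf v = p := by
    intro v hv hne
    refine orderOf_eq_prime (hVp v hv) ?_
    rintro rfl
    obtain ⟨r, -, hr⟩ := hne
    exact hr (Commute.one_right r)
  have hcardL : Nat.card L < n := by
    refine lt_of_le_of_lt ?_ hmn
    rw [← hm]
    exact Subgroup.card_le_card_group L
  have hpair := mpair_of_simple hpp (S := ⊤) (L := L) le_top (hM L hLs hLna' hcardL)
    (hord a (hXV haX) ha) (hord b (hYV hbY) hb) (hVnorm a (hXV haX)) (hVnorm b (hYV hbY)) ha hb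
  obtain ⟨g, -, i, j, hcon⟩ := hpair
  obtain ⟨k, hk⟩ := hT a haX b hbY g i j
  exact hcon k (by simpa only [_root_.conj_pow, _root_.zpow_natCast] using hk)

end main

end Cfsg.Agent.H106.AbSyl
end

-- part: H106/AbSylR
section
/-!
# Simple groups with an abelian Sylow `p`-subgroup: pairs of elements of order `p`

`mpair_of_abelian`: `S` simple, `P` abelian, `N(P)` irreducible on `Ω₁(P)` (S5303), no strongly
`p`-embedded subgroup, `MRow p L` for the smaller simple groups: then `MPair` for all pairs of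
elements of order `p` of `S`.
-/

set_option autoImplicit false

universe u

namespace Cfsg.Agent.H106.AbSyl

open Cfsg.Agent.H533.T5 Cfsg.Agent.H957.T5M Cfsg.Agent.H106.MB Cfsg.Agent.H106.MT
open Cfsg.Agent.H106.TwoRed Subgroup
open Cfsg.Agent.H818.StrP (NoSP)

theorem TT.conj {G : Type*} [Group G] {p : ℕ} {a b : G} (h : TT p a b) (s t : G) :
    TT p (s * a * s⁻¹) (t * b * t⁻¹) := by
  intro g i j
  obtain ⟨k, hk⟩ := h (s⁻¹ * g * t) i j
  refine ⟨k, ?_⟩
  have h1 : (s * a * s⁻¹) ^ i * (g * (t * b * t⁻¹) * g⁻¹) ^ j =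
      s * (a ^ i * (s⁻¹ * g * t * b * (s⁻¹ * g * t)⁻¹) ^ j) * s⁻¹ := by
    have h2 : g * (t * b * t⁻¹) * g⁻¹ = s * (s⁻¹ * g * t * b * (s⁻¹ * g * t)⁻¹) * s⁻¹ := by group
    rw [h2, conj_zpow, conj_zpow]
    group
  rw [h1, conj_pow, hk]
  group

theorem mpair_of_abelian {S : Type u} [Group S] [Finite S] [hSs : IsSimpleGroup S] {p : ℕ}
    (hSna : ¬ IsMulCommutative S)
    [hp : Fact p.Prime] (P : Sylow p S) (hPab : ∀ a ∈ P, ∀ b ∈ P, Commute a b)
    {Ω : Subgroup S} (hΩ : ∀ x : S, x ∈ Ω ↔ x ∈ (P : Subgroup S) ∧ x ^ p = 1)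
    (hirr : ∀ B : Subgroup S, B ≤ Ω →
      (∀ n ∈ normalizer ((P : Subgroup S) : Set S), ∀ b ∈ B, n * b * n⁻¹ ∈ B) → B = ⊥ ∨ B = Ω)
    (hSE : NoSP p S)
    (hM : ∀ (L : Type u) [Group L] [Finite L], IsSimpleGroup L → ¬ IsMulCommutative L →
      Nat.card L < Nat.card S → MRow p L)
    {x y : S} (hx : orderOf x = p) (hy : orderOf y = p) : MPair p (⊤ : Subgroup S) x y := by
  have hpp : p.Prime := hp.out
  by_contra hcon
  rw [not_mpair_iff (isOfFinOrder_of_finite x) (isOfFinOrder_of_finite y)] at hcon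
  have hTT : TT p x y := fun g => hcon g (mem_top g)
  have hΩP : Ω ≤ (P : Subgroup S) := fun z hz => ((hΩ z).1 hz).1
  have hΩab : ∀ a ∈ Ω, ∀ b ∈ Ω, Commute a b := fun a ha b hb => hPab a (hΩP ha) b (hΩP hb)
  have hNΩ : ∀ n ∈ normalizer ((P : Subgroup S) : Set S), ∀ w ∈ Ω, n * w * n⁻¹ ∈ Ω := by
    intro n hn w hw
    rw [hΩ] at hw ⊢
    refine ⟨(mem_normalizer_iff.1 hn w).1 hw.1, ?_⟩
    rw [conj_pow, hw.2]; group
  -- conjugates of an element of order `p` in `Ω`
  have hcl : ∀ z : S, orderOf z = p →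
      _root_.Subgroup.closure {w : S | w ∈ Ω ∧ ∃ g : S, w = g * z * g⁻¹} = Ω := by
    intro z hz
    set B : Subgroup S := _root_.Subgroup.closure {w : S | w ∈ Ω ∧ ∃ g : S, w = g * z * g⁻¹} with hB
    have hBΩ : B ≤ Ω := by
      rw [hB, closure_le]; exact fun w hw => hw.1
    have hBn : ∀ n ∈ normalizer ((P : Subgroup S) : Set S), ∀ b ∈ B, n * b * n⁻¹ ∈ B := by
      intro n hn b hb
      rw [hB] at hb
      induction hb using closure_induction with
      | mem b hb =>
        obtain ⟨h1, g, rfl⟩ := hb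
        exact subset_closure ⟨hNΩ n hn _ h1, n * g, by group⟩
      | one => simp
      | mul a b _ _ ha hb =>
        have : n * (a * b) * n⁻¹ = (n * a * n⁻¹) * (n * b * n⁻¹) := by group
        rw [this]; exact mul_mem ha hb
      | inv a _ ha =>
        have : n * a⁻¹ * n⁻¹ = (n * a * n⁻¹)⁻¹ := by group
        rw [this]; exact inv_mem ha
    rcases hirr B hBΩ hBn with hb | hb
    · exfalso
      obtain ⟨g, hg⟩ := exists_conj_mem_sylow P hz
      have h2 : orderOf (g * z * g⁻¹) = p := by rw [orderOf_cj, hz]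
      have hgΩ : g * z * g⁻¹ ∈ Ω := by
        rw [hΩ]
        exact ⟨hg, by rw [← h2]; exact pow_orderOf_eq_one _⟩
      have h1 : g * z * g⁻¹ ∈ B := subset_closure ⟨hgΩ, g, rfl⟩
      rw [hb, mem_bot] at h1
      rw [h1, orderOf_one] at h2
      exact hpp.one_lt.ne h2
    · exact hb
  have hX := hcl x hx
  have hY := hcl y hy
  set X : Set S := {w : S | w ∈ Ω ∧ ∃ g : S, w = g * x * g⁻¹} with hXdef
  set Y : Set S := {w : S | w ∈ Ω ∧ ∃ g : S, w = g * y * g⁻¹} with hYdef
  have hT : ∀ a ∈ X, ∀ b ∈ Y, TT p a b := by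
    rintro a ⟨-, s, rfl⟩ b ⟨-, t, rfl⟩
    exact hTT.conj s t
  have hΩb : Ω ≠ ⊥ := by
    intro hb
    obtain ⟨g, hg⟩ := exists_conj_mem_sylow P hx
    have h2 : orderOf (g * x * g⁻¹) = p := by rw [orderOf_cj, hx]
    have h1 : g * x * g⁻¹ ∈ Ω := by
      rw [hΩ]
      exact ⟨hg, by rw [← h2]; exact pow_orderOf_eq_one _⟩
    rw [hb, mem_bot] at h1
    rw [h1, orderOf_one] at h2
    exact hpp.one_lt.ne h2
  -- `S` is not abelian
  have hcomm : ¬ ∀ a b : S, Commute a b := by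
    intro h
    exact hSna ⟨⟨fun a b => h a b⟩⟩
  -- centralisers
  have hcent : ∀ h ∈ Ω, h ≠ 1 → ∀ c : S, Commute c h → ∀ v ∈ Ω, c * v * c⁻¹ ∈ Ω := by
    intro h hh h1 c hc v hv
    set C : Subgroup S := centralizer ({h} : Set S) with hC
    have hCt : C ≠ ⊤ := by
      intro ht
      have h2 : h ∈ center S := by
        rw [mem_center_iff]
        intro g
        have h3 : g ∈ C := by rw [ht]; exact mem_top g
        exact (mem_centralizer_iff.1 h3 h rfl).symm
      rcases (inferInstance : (center S).Normal).eq_bot_or_eq_top with h4 | h4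
      · rw [h4, mem_bot] at h2
        exact h1 h2
      · apply hcomm
        intro a b
        have h5 : b ∈ center S := by rw [h4]; exact mem_top b
        exact mem_center_iff.1 h5 a
    have hlt : Nat.card C < Nat.card S := by
      have h2 := C.card_mul_index
      have h3 : C.index ≠ 1 := by rwa [Ne, index_eq_one]
      have h4 : 0 < C.index := Nat.pos_of_ne_zero C.index_ne_zero_of_finite
      have h5 : 0 < Nat.card C := Nat.card_pos
      have h6 : 2 ≤ C.index := by omega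
      have h7 : Nat.card C * 2 ≤ Nat.card C * C.index := Nat.mul_le_mul_left _ h6
      omega
    have hPC : (P : Subgroup S) ≤ C := by
      intro z hz
      rw [hC, mem_centralizer_iff]
      rintro _ rfl
      exact hPab _ (hΩP hh) z hz
    have hΩC : Ω ≤ C := hΩP.trans hPC
    let P' : Sylow p C := P.subtype hPC
    have hP' : ∀ z : C, z ∈ P' ↔ (z : S) ∈ P := fun z => Iff.rfl
    have h2 := le_pCore_of_TT (p := p) (Nat.card S) hM (Nat.card C) hlt C rfl P' (Ω.subgroupOf C)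
      (fun a ha b hb => Subtype.ext (hPab a ha b hb).eq) (fun v hv => hΩP hv)
      (fun v hv => Subtype.ext ((hΩ _).1 hv).2) _ _ (closure_sub hΩC hX) (closure_sub hΩC hY)
      (fun a ha b hb => (hT a ha b hb).sub a.2 b.2)
    have hcC : c ∈ C := by
      rw [hC, mem_centralizer_iff]
      rintro _ rfl
      exact hc.eq.symm
    have h3 : (⟨v, hΩC hv⟩ : C) ∈ Cfsg.pCore p C := h2 hv
    have h4 := (Lib.Cores.pCore_normal (G := C) p).conj_mem _ h3 ⟨c, hcC⟩
    have h5 := Lib.Cores.pCore_le_sylow P' h4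
    rw [hΩ]
    refine ⟨h5, ?_⟩
    rw [conj_pow, ((hΩ v).1 hv).2]; group
  -- the normaliser of `Ω`
  set M : Subgroup S := normalizer (Ω : Set S) with hMdef
  have hPM : (P : Subgroup S) ≤ M := by
    intro z hz
    rw [hMdef, mem_normalizer_iff]
    intro w
    constructor
    · intro hw
      have h1 := hPab z hz w (hΩP hw)
      rw [h1.eq, mul_inv_cancel_right]
      exact hw
    · intro hw
      have h1 := hPab z hz _ (hΩP hw)
      have h2 : w = z⁻¹ * (z * w * z⁻¹) * z := by group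
      have h3 : z⁻¹ * (z * w * z⁻¹) * z = z * w * z⁻¹ := by
        rw [mul_assoc, ← h1.eq]; group
      rw [h2, h3]; exact hw
  have hMelt : ∀ z ∈ M, z ^ p = 1 → z ∈ Ω := by
    intro z hz hzp
    by_cases hz1 : z = 1
    · rw [hz1]; exact one_mem _
    have hzo : orderOf z = p := orderOf_eq_prime hzp hz1
    let P' : Sylow p M := P.subtype hPM
    obtain ⟨k, hk⟩ := exists_conj_mem_sylow P' (z := (⟨z, hz⟩ : M)) (by rw [Subgroup.orderOf_mk, hzo])
    have h1 : (k : S) * z * (k : S)⁻¹ ∈ P := hk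
    have h2 : (k : S) * z * (k : S)⁻¹ ∈ Ω := by
      rw [hΩ]
      exact ⟨h1, by rw [conj_pow, hzp]; group⟩
    exact (mem_normalizer_iff.1 k.2 z).2 h2
  apply hSE M
  apply H818.StrP.of_normIn'
  · -- `p ∣ |M|`
    obtain ⟨g, hg⟩ := exists_conj_mem_sylow P hx
    have h2 : orderOf (g * x * g⁻¹) = p := by rw [orderOf_cj, hx]
    have h3 : g * x * g⁻¹ ∈ M := hPM hg
    rw [← h2, ← Subgroup.orderOf_mk _ h3]
    exact _root_.orderOf_dvd_natCard _
  · intro hMt
    have h1 : Ω.Normal := by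
      rw [← normalizer_eq_top_iff]; exact hMt
    rcases h1.eq_bot_or_eq_top with h2 | h2
    · exact hΩb h2
    · apply hcomm
      intro a b
      exact hΩab a (by rw [h2]; exact mem_top a) b (by rw [h2]; exact mem_top b)
  · intro Q hQ hQM hQ1
    -- an element of order `p` of `Q`
    obtain ⟨h, hhQ, hho⟩ : ∃ h ∈ Q, orderOf h = p := by
      have h1 : p ∣ Nat.card Q := by
        have hQn : Nontrivial Q := (nontrivial_iff_ne_bot Q).2 hQ1
        obtain ⟨n, hn⟩ := IsPGroup.iff_card.1 hQ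
        have h2 : 1 < Nat.card Q := Finite.one_lt_card
        rw [hn] at h2 ⊢
        refine dvd_pow_self p ?_
        rintro rfl
        simp at h2
      obtain ⟨⟨z, hzQ⟩, hz⟩ := exists_prime_orderOf_dvd_card' p h1
      exact ⟨z, hzQ, by rwa [Subgroup.orderOf_mk] at hz⟩
    have hone : ∀ g ∈ normalizer (Q : Set S), ∀ w ∈ Ω, g * w * g⁻¹ ∈ Ω := by
      intro g hg w hw
      have h0 : h ∈ Ω := hMelt h (hQM hhQ) (by rw [← hho]; exact pow_orderOf_eq_one _)
      have h1 : g * h * g⁻¹ ∈ Q := (mem_normalizer_iff.1 hg h).1 hhQ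
      have h2 : orderOf (g * h * g⁻¹) = p := by rw [orderOf_cj, hho]
      have h3 : g * h * g⁻¹ ∈ Ω := hMelt _ (hQM h1) (by rw [← h2]; exact pow_orderOf_eq_one _)
      have h4 : g * h * g⁻¹ ≠ 1 := by
        intro h5
        rw [h5, orderOf_one] at h2
        exact hpp.one_lt.ne h2
      have h5 : Commute (g * w * g⁻¹) (g * h * g⁻¹) := by
        have := (hΩab w hw h h0).map (MulAut.conj g).toMonoidHom
        simpa only [MulAut.conj_apply, _root_.Commute.conj_iff, _root_.MulEquiv.toMonoidHom_eq_coe, _root_.MonoidHom.coe_coe] using this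
      have h6 := hcent _ h3 h4 _ h5
      apply hMelt
      · rw [hMdef, mem_normalizer_iff]
        have h7 := hcent _ h3 h4 (g * w * g⁻¹)⁻¹ h5.inv_left
        intro v
        constructor
        · exact fun hv => h6 v hv
        · intro hv
          have h8 := h7 _ hv
          have h9 : (g * w * g⁻¹)⁻¹ * (g * w * g⁻¹ * v * (g * w * g⁻¹)⁻¹) * (g * w * g⁻¹)⁻¹⁻¹ = v := by
            group
          rwa [h9] at h8
      · rw [conj_pow, ((hΩ w).1 hw).2]; group
    intro g hg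
    rw [hMdef, mem_normalizer_iff]
    intro v
    constructor
    · exact fun hv => hone g hg v hv
    · intro hv
      have h8 := hone g⁻¹ (inv_mem hg) _ hv
      have h9 : g⁻¹ * (g * v * g⁻¹) * g⁻¹⁻¹ = v := by group
      rwa [h9] at h8

end Cfsg.Agent.H106.AbSyl
end

-- part: H106/InnerAb
section
/-!
# Inner pairs when the Sylow `p`-subgroups are abelian

`IrrHyp` : S5303 (first part); `SEHyp` : S2120 for simple groups.
`inner_of_abelian` : all pairs of elements of order `p` of a simple group with abelian Sylow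
`p`-subgroups, from these and the rows of the smaller simple groups.
-/

set_option autoImplicit false

universe u

namespace Cfsg.Agent.H106.InnerAb

open Cfsg.Agent.H533.T5 Cfsg.Agent.H957.T5M Cfsg.Agent.H106.MB Cfsg.Agent.H106.MT
open Cfsg.Agent.H106.AbSyl Subgroup
open Cfsg.Agent.H818.StrP (NoSP)

/-- The first part of S5303. -/
def IrrHyp (p : ℕ) : Prop :=
  ∀ (G : Type u) [Group G] [Finite G] [IsSimpleGroup G], ¬ IsMulCommutative G → ∀ (P : Sylow p G),
    (P : Subgroup G) ≠ ⊥ → IsMulCommutative (P : Subgroup G) → ∀ Ω : Subgroup G,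
    (∀ x : G, x ∈ Ω ↔ x ∈ (P : Subgroup G) ∧ x ^ p = 1) → ∀ B : Subgroup G, B ≤ Ω →
    (∀ n ∈ normalizer ((P : Subgroup G) : Set G), ∀ b ∈ B, n * b * n⁻¹ ∈ B) → B = ⊥ ∨ B = Ω

/-- The exceptions of S2120, `p ≥ 5`, noncyclic Sylow subgroups. -/
def Exc (p : ℕ) (Y : Type u) [Group Y] : Prop :=
  (∃ (F : Type) (_ : Field F) (_ : Fintype F), CharP F p ∧
    Nonempty (Y ≃* Matrix.ProjectiveSpecialLinearGroup (Fin 2) F)) ∨
  (∃ (F : Type) (_ : Field F) (_ : Fintype F) (n : ℕ), 1 ≤ n ∧ Fintype.card F = p ^ (2 * n) ∧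
    Nonempty (Y ≃* Cfsg.PSU 3 F (p ^ n))) ∨
  (∃ (K : Type) (_ : Field K) (_ : Fintype K) (m : ℕ), 1 ≤ m ∧ Fintype.card K = 3 ^ (2 * m + 1) ∧
    Nonempty (Y ≃* ↥(Cfsg.Lie.twistedG2 K (3 ^ m)))) ∨
  Nonempty (Y ≃* ↥(alternatingGroup (Fin (2 * p)))) ∨
  (p = 5 ∧ (Cfsg.Lie.IsoTits Y ∨
    (∃ (F : Type) (_ : Field F) (_ : Fintype F), Fintype.card F = 32 ∧
      Nonempty (Y ≃* ↥(Cfsg.Lie.Sz F 8))) ∨ Cfsg.Spor.IsoMcL Y ∨ Cfsg.Spor.IsoFi22 Y)) ∨
  (p = 11 ∧ Cfsg.Spor.IsoJ4 Y)

/-- S2120 for simple groups, `p ≥ 5`. -/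
def SEHyp (p : ℕ) : Prop :=
  ∀ (G : Type u) [Group G] [Finite G] [IsSimpleGroup G], ¬ IsMulCommutative G →
    (¬ ∀ P : Sylow p G, IsCyclic ↥(P : Subgroup G)) → ¬ Exc p G → NoSP p G

/-- **Inner pairs, abelian Sylow subgroups.** -/
theorem inner_of_abelian {p : ℕ} [hp : Fact p.Prime] (hAA : AAHyp.{u} p) (hIrr : IrrHyp.{u} p)
    (hSE : SEHyp.{u} p) {S : Type u} [Group S] [Finite S] [IsSimpleGroup S]
    (hSna : ¬ IsMulCommutative S) (hex : ¬ Exc p S)
    (P : Sylow p S) (hP : ∀ a ∈ P, ∀ b ∈ P, Commute a b)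
    (hM : ∀ (L : Type u) [Group L] [Finite L], IsSimpleGroup L → ¬ IsMulCommutative L →
      Nat.card L < Nat.card S → MRow p L) :
    ∀ x y : S, orderOf x = p → orderOf y = p → MPair p (⊤ : Subgroup S) x y := by
  intro x y hx hy
  by_cases hc : IsCyclic ↥(P : Subgroup S)
  · exact mpair_of_cyclic hAA hSna P hc hx hy
  · have hPab : IsMulCommutative (P : Subgroup S) :=
      ⟨⟨fun a b => Subtype.ext (hP a a.2 b b.2).eq⟩⟩
    have hPb : (P : Subgroup S) ≠ ⊥ := by
      intro h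
      apply hc
      have : Subsingleton ↥(P : Subgroup S) := by
        rw [h]; infer_instance
      exact isCyclic_of_subsingleton
    -- the subgroup of the elements of order dividing `p`
    let Ω : Subgroup S :=
      { carrier := {z | z ∈ P ∧ z ^ p = 1}
        one_mem' := ⟨one_mem _, one_pow _⟩
        mul_mem' := by
          rintro a b ⟨ha, ha'⟩ ⟨hb, hb'⟩
          exact ⟨mul_mem ha hb, by rw [(hP a ha b hb).mul_pow, ha', hb', one_mul]⟩
        inv_mem' := by
          rintro a ⟨ha, ha'⟩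
          exact ⟨inv_mem ha, by rw [inv_pow, ha', inv_one]⟩ }
    have hΩ : ∀ z : S, z ∈ Ω ↔ z ∈ (P : Subgroup S) ∧ z ^ p = 1 := fun z => Iff.rfl
    exact mpair_of_abelian hSna P hP hΩ (hIrr S hSna P hPb hPab Ω hΩ)
      (hSE S hSna (fun h => hc (h P)) hex) hM hx hy

/-- The same from the row of S2120. -/
theorem inner_of_row {p : ℕ} [hp : Fact p.Prime] (hAA : AAHyp.{u} p) (hIrr : IrrHyp.{u} p)
    {S : Type u} [Group S] [Finite S] [IsSimpleGroup S] (hSna : ¬ IsMulCommutative S)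
    (hrow : Cfsg.Agent.H818.StrP.Row p S) (hP : ∀ P : Sylow p S, IsMulCommutative (P : Subgroup S))
    (hM : ∀ (L : Type u) [Group L] [Finite L], IsSimpleGroup L → ¬ IsMulCommutative L →
      Nat.card L < Nat.card S → MRow p L) :
    ∀ x y : S, orderOf x = p → orderOf y = p → MPair p (⊤ : Subgroup S) x y := by
  intro x y hx hy
  obtain ⟨P⟩ : Nonempty (Sylow p S) := inferInstance
  have hP' : ∀ a ∈ P, ∀ b ∈ P, Commute a b := fun a ha b hb =>
    congrArg Subtype.val ((hP P).is_comm.comm (⟨a, ha⟩ : ↥(P : Subgroup S)) ⟨b, hb⟩)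
  by_cases hc : IsCyclic ↥(P : Subgroup S)
  · exact mpair_of_cyclic hAA hSna P hc hx hy
  have hSE : NoSP p S := hrow.resolve_left (fun h => hc (h P))
  have hPb : (P : Subgroup S) ≠ ⊥ := by
    intro h
    apply hc
    have : Subsingleton ↥(P : Subgroup S) := by
      rw [h]; infer_instance
    exact isCyclic_of_subsingleton
  let Ω : Subgroup S :=
    { carrier := {z | z ∈ P ∧ z ^ p = 1}
      one_mem' := ⟨one_mem _, one_pow _⟩
      mul_mem' := by
        rintro a b ⟨ha, ha'⟩ ⟨hb, hb'⟩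
        exact ⟨mul_mem ha hb, by rw [(hP' a ha b hb).mul_pow, ha', hb', one_mul]⟩
      inv_mem' := by
        rintro a ⟨ha, ha'⟩
        exact ⟨inv_mem ha, by rw [inv_pow, ha', inv_one]⟩ }
  have hΩ : ∀ z : S, z ∈ Ω ↔ z ∈ (P : Subgroup S) ∧ z ^ p = 1 := fun z => Iff.rfl
  exact mpair_of_abelian hSna P hP' hΩ (hIrr S hSna P hPb (hP P) Ω hΩ) hSE hM hx hy

end Cfsg.Agent.H106.InnerAb
end

-- part: H194/MOwn/PslRow
section
/-!
# The row `PSL_n(q)`, `p ≥ 5` dividing `q` (all automorphisms of order `p`, all `n ≥ 2`)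
-/

set_option autoImplicit false

universe u

namespace Cfsg.Agent.H194.MOwn

open Matrix
open Cfsg.Agent.H957.T5V Cfsg.Agent.H957.T5M Cfsg.Agent.H957.T5Tr
open Cfsg.Agent.H199.PslAut
open Cfsg.Agent.ClassicalGeometry.AutPSL.Root
open Cfsg.Agent.ClassicalGeometry.AutPSL.Auto
open Cfsg.Agent.H897.MeetPSL
open Cfsg.Agent.H903.SylSemi (Ind scal scal_apply)

theorem mrow_psl_type {F : Type} [Field F] [Fintype F] {n p : ℕ} (hn : 2 ≤ n) [Fact p.Prime]
    (hp5 : 5 ≤ p) [CharP F p] :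
    MRow p (Matrix.ProjectiveSpecialLinearGroup (Fin n) F) := by
  have hp : p.Prime := Fact.out
  have : Nonempty (Fin n) := ⟨⟨0, by omega⟩⟩
  have : Nontrivial (Fin n → F) := Function.nontrivial
  refine mrow_of (F := F) hp (π := (pr : Matrix.SpecialLinearGroup (Fin n) F →*
      Matrix.ProjectiveSpecialLinearGroup (Fin n) F)) pr_surjective (ρ := rho n F) rho_injective
    ?_ (W := fun y => ∃ θ : F ≃+* F, Semi θ y) ?_ ?_ ?_ ?_ ?_
  · intro s
    refine ⟨fun u v => ?_, fun b v => ?_⟩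
    · rw [rho_apply, rho_apply, rho_apply, mulVec_add]
    · rw [rho_apply, rho_apply, mulVec_smul]
      rfl
  · rintro y y' ⟨θ, h⟩ ⟨θ', h'⟩
    exact ⟨θ * θ', h.mul h'⟩
  · intro s
    refine ⟨1, fun u v => ?_, fun b v => ?_⟩
    · rw [rho_apply, rho_apply, rho_apply, mulVec_add]
    · rw [rho_apply, rho_apply, mulVec_smul]
      rfl
  · intro β hβ
    have hP : IsPGroup p ↥(Subgroup.zpowers β) :=
      IsPGroup.of_card (n := 1) (by rw [Nat.card_zpowers, hβ, pow_one])
    obtain ⟨g, σ, rfl⟩ := form_of_pgroup hn (by omega) hP (Subgroup.mem_zpowers β)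
    exact ⟨smap g σ, ⟨σ, (semi_smap g σ).1, (semi_smap g σ).2⟩, ind_smap g σ⟩
  · rintro y ⟨θ, hθ⟩ hy
    obtain ⟨A, rfl⟩ := exists_smap (show Cfsg.Agent.H903.SylSemi.Semi F y θ from ⟨hθ.add, hθ.smul⟩)
    have h1 : Psi n F A * phi n F θ = 1 :=
      Ind.unique pr_surjective rho_injective (ind_smap A θ) hy
    obtain ⟨⟨u, rfl⟩, h2⟩ := Psi_phi_eq hn (g := A) (σ := θ) (τ := 1) (by rw [h1, map_one])
    refine ⟨u, ?_⟩
    ext v : 1
    rw [smap_apply, h2, scal_apply, Cfsg.Agent.H199.PslAut.coe_scal]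
    change (scalar (Fin n) (u : F)) *ᵥ v = (u : F) • v
    rw [Matrix.scalar_apply, Matrix.diagonal_const_mulVec]
  · rintro y z ⟨θ, hy⟩ ⟨θ', hz⟩ hyp hyn hzp hzn
    obtain ⟨g, hg, i, j, h⟩ := mp_own (p := p) (V := Fin n → F) hp5
      (by rw [Module.finrank_fintype_fun_eq_card, Fintype.card_fin]; exact hn) hy hyp hyn
      hz hzp hzn
    have hd : (LinearMap.toMatrix' (g : (Fin n → F) →ₗ[F] (Fin n → F))).det = 1 := by
      rw [LinearMap.det_toMatrix', ← LinearEquiv.coe_det, hg, Units.val_one]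
    refine ⟨⟨LinearMap.toMatrix' (g : (Fin n → F) →ₗ[F] (Fin n → F)), hd⟩, i, j, ?_⟩
    have hs : rho n F ⟨LinearMap.toMatrix' (g : (Fin n → F) →ₗ[F] (Fin n → F)), hd⟩ = toA g := by
      ext v : 1
      refine (rho_apply _ v).trans ?_
      change (LinearMap.toMatrix' (g : (Fin n → F) →ₗ[F] (Fin n → F))) *ᵥ v = g v
      rw [LinearMap.toMatrix'_mulVec]
      rfl
    rw [hs]
    exact h

/-- A finite field has a copy in `Type`. -/
theorem exists_type (F : Type u) [Field F] [Fintype F] :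
    ∃ (F' : Type) (_ : Field F') (_ : Fintype F'), Nonempty (F ≃+* F') := by
  have : Small.{0} F := inferInstance
  have : Fintype (Shrink.{0} F) := Fintype.ofEquiv F (equivShrink F)
  exact ⟨Shrink.{0} F, inferInstance, this, ⟨(Shrink.ringEquiv F).symm⟩⟩

/-- **The row `PSL_n(q)` in own characteristic.** -/
theorem mrow_psl_own {S : Type*} [Group S] {F : Type*} [Field F] [Fintype F] {n p : ℕ} (hn : 2 ≤ n)
    [Fact p.Prime] (hp5 : 5 ≤ p) [CharP F p]
    (e : S ≃* Matrix.ProjectiveSpecialLinearGroup (Fin n) F) : MRow p S := by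
  obtain ⟨F', _, _, ⟨f⟩⟩ := exists_type F
  have : CharP F' p := (RingHom.charP_iff f.toRingHom f.injective p).1 inferInstance
  refine MRow.congr (e.trans ?_) (mrow_psl_type (F := F') hn hp5)
  let g : Matrix.SpecialLinearGroup (Fin n) F ≃* Matrix.SpecialLinearGroup (Fin n) F' :=
    { Matrix.SpecialLinearGroup.map f.toRingHom with
      invFun := Matrix.SpecialLinearGroup.map f.symm.toRingHom
      left_inv := fun x => by
        ext i j
        simp
      right_inv := fun x => by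
        ext i j
        simp }
  exact QuotientGroup.congr _ _ g (by
    ext x
    constructor
    · rintro ⟨y, hy, rfl⟩
      rw [Subgroup.mem_center_iff]
      intro z
      obtain ⟨w, rfl⟩ := g.surjective z
      have := Subgroup.mem_center_iff.1 hy w
      change g w * g y = g y * g w
      rw [← map_mul, this, map_mul]
    · intro hx
      refine ⟨g.symm x, ?_, by simp⟩
      change g.symm x ∈ Subgroup.center _
      rw [Subgroup.mem_center_iff]
      intro z
      apply g.injective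
      have := Subgroup.mem_center_iff.1 hx (g z)
      rw [map_mul, map_mul, g.apply_symm_apply]
      exact this)

end Cfsg.Agent.H194.MOwn
end

-- part: H106/MAll
section
/-!
# The middle rows: assembly

`RowFam p Fam` : the row for the simple groups of a family, given the rows of the smaller groups.
`mrow_all` : the rows of all simple groups from the rows of the families.
-/

set_option autoImplicit false

universe u

namespace Cfsg.Agent.H106.MAll

open Cfsg Cfsg.Agent.H533.T5 Cfsg.Agent.H957.T5M Cfsg.Agent.H106.MB Cfsg.Agent.H106.MT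

/-- The rows of the simple groups of order less than `n`. -/
def Below (p n : ℕ) : Prop :=
  ∀ (L : Type u) [Group L] [Finite L], IsSimpleGroup L → ¬ IsMulCommutative L →
    Nat.card L < n → MRow p L

/-- The row of a family, given the rows of the smaller groups. -/
def RowFam (p : ℕ) (Fam : ∀ (S : Type u) [Group S], Prop) : Prop :=
  ∀ (S : Type u) [Group S] [Finite S] [IsSimpleGroup S], ¬ IsMulCommutative S → Fam S →
    Below.{u} p (Nat.card S) → MRow p S

theorem rowFam_alt {p : ℕ} (hp : p.Prime) (h5 : 5 ≤ p) :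
    RowFam.{u} p (fun S _ => IsAlternating S) := by
  rintro S _ _ _ - ⟨n, hn, ⟨e⟩⟩ -
  exact MRow.congr e (H201.T5Alt.mrow_alt hn hp h5)

theorem charP_of_dvd {p : ℕ} (hp : p.Prime) {F : Type} [Field F] [Fintype F]
    (h : p ∣ Fintype.card F) : CharP F p := by
  obtain ⟨n, hr, hn⟩ := FiniteField.card F (ringChar F)
  rw [hn] at h
  have h1 := (Nat.prime_dvd_prime_iff_eq hp hr).1 (hp.dvd_of_dvd_pow h)
  rw [h1]
  infer_instance

theorem rowFam_psl {p : ℕ} (hp : p.Prime) (h5 : 5 ≤ p) :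
    RowFam.{u} p (fun S _ => IsPSL S) := by
  rintro S _ _ _ - ⟨F, _, _, n, hn, -, ⟨e⟩⟩ -
  have := Fact.mk hp
  by_cases h : p ∣ Fintype.card F
  · have := charP_of_dvd hp h
    exact H194.MOwn.mrow_psl_own hn h5 e
  · exact H957.T5RowPSL.row_PSL_cross hn hp h5 h e

/-- **All rows.** -/
theorem mrow_all {p : ℕ} (hp : p.Prime) (h5 : 5 ≤ p)
    (hK : ∀ (S : Type u) [Group S] [Finite S] [IsSimpleGroup S], IsKnownSimple' S)
    (psp : RowFam.{u} p (fun S _ => IsPSp S)) (psu : RowFam.{u} p (fun S _ => IsPSU S))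
    (odd : RowFam.{u} p (fun S _ => IsPOmegaOdd S)) (plus : RowFam.{u} p (fun S _ => IsPOmegaPlus S))
    (minus : RowFam.{u} p (fun S _ => IsPOmegaMinus S))
    (exc : RowFam.{u} p (fun S _ => IsExceptionalLieType S))
    (spor : RowFam.{u} p (fun S _ => IsSporadicGroup S)) :
    ∀ (S : Type u) [Group S] [Finite S], IsSimpleGroup S → ¬ IsMulCommutative S → MRow p S := by
  have key : ∀ (n : ℕ) (S : Type u) [Group S] [Finite S], IsSimpleGroup S →
      ¬ IsMulCommutative S → Nat.card S = n → MRow p S := by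
    intro n
    induction n using Nat.strong_induction_on with
    | _ n ih =>
    intro S _ _ hs hna hn
    have hlt : Below.{u} p (Nat.card S) := by
      intro L _ _ hL hLna hLc
      exact ih _ (by rwa [← hn]) L hL hLna rfl
    rcases hK S with h | h | h | h | h | h | h | h | h | h
    · exfalso
      apply hna
      have := Fact.mk (show (Nat.card S).Prime from h)
      have : IsCyclic S := isCyclic_of_prime_card (p := Nat.card S) rfl
      let _ := IsCyclic.commGroup (α := S)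
      exact ⟨⟨fun a b => mul_comm a b⟩⟩
    · exact rowFam_alt hp h5 S hna h hlt
    · exact rowFam_psl hp h5 S hna h hlt
    · exact psp S hna h hlt
    · exact psu S hna h hlt
    · exact odd S hna h hlt
    · exact plus S hna h hlt
    · exact minus S hna h hlt
    · exact exc S hna h hlt
    · exact spor S hna h hlt
  intro S _ _ hs hna
  exact key _ S hs hna rfl

end Cfsg.Agent.H106.MAll
end

private theorem dce_d7feed3f82ef : _root_.True := by
  try have : _root_.True := by simp only [_root_.Cfsg.Agent.H106.TwoRed.cen.eq_1]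
  exact _root_.True.intro
end

-- part: H752/MFiveCo
section
set_option linter.all false
open scoped Cfsg.Agent.FastGrp

/-!
# The middle pair rows `p = 5` of the groups `McL`, `Co3`, `Co2`, `Co1` (helper752)

The pairs found in `McLPairs`, `CoOnePairs` have a product of order prime to 5, so they are middle pairs.
-/

set_option autoImplicit false

namespace Cfsg.Agent.H752.MFiveCo

open Cfsg Subgroup Cfsg.Agent.SporadicStructure.Co0Base Cfsg.Agent.CoOneType.CoEval
open Cfsg.Agent.CpAutCoOneFive Cfsg.Agent.CpAutCoOneFive.Mat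
open Cfsg.Agent.CpAutCoOneFive.Elem (a b c d)
open Cfsg.Agent.H533.T5 Cfsg.Agent.H957.T5M Cfsg.Agent.H106.MB
open Cfsg.Agent.H752.TFiveCo Cfsg.Agent.SporadicA Cfsg.Agent.SporadicStructure.Co0Matrix

universe u

/-- a product of order prime to `p` gives a middle pair -/
theorem mpair_of_coprime {G : Type*} [Group G] {S : Subgroup G} {p : ℕ} {x y g : G} (hg : g ∈ S) {n : ℕ}
    (hn : Nat.Coprime n p) (h1 : (x * (g * y * g⁻¹)) ^ n = 1) (h2 : x * (g * y * g⁻¹) ≠ 1) : MPair p S x y := by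
  refine ⟨g, hg, 1, 1, fun m h3 => h2 ?_⟩
  rw [pow_one, pow_one] at h3
  have h4 := pow_gcd_eq_one.mpr ⟨h1, h3⟩
  rwa [(Nat.Coprime.pow_right m hn : Nat.gcd n (p ^ m) = 1), pow_one] at h4

section mcl

open Cfsg.Agent.H752.McLPairs Cfsg.Agent.CpAutCoOneFive.Nf Cfsg.Agent.CpAutCoOneFive.Cls

theorem pair_rv_le {S : Subgroup Co0} (ha : a ∈ S) (hb : b ∈ S) (hk : k ∈ S) {i j : ℕ} (hij : i ≤ j) (hj : j < 7) :
    MPair 5 S (rv i) (rv j) := by
  have h := good_all hij hj
  unfold good at h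
  rw [Bool.and_eq_true, Bool.and_eq_true] at h
  obtain ⟨⟨h1, h2⟩, h3⟩ := h
  have hw : vl (wd i j) = rv i * (vl (gt i j).1 * rv j * (vl (gt i j).1)⁻¹) := by
    unfold wd
    rw [vl_append, vl_append, vl_append, vl_iw (gt_lt i (by omega) j hj)]
    unfold rv
    simp only [mul_assoc]
  refine mpair_of_coprime (g := vl (gt i j).1) (vl_mem ha hb hk _) (n := (gt i j).2) ?_ ?_ ?_
  · rw [Nat.coprime_comm, Nat.Prime.coprime_iff_not_dvd five]
    intro hd
    have h4 : (gt i j).2 % 5 = 0 := Nat.mod_eq_zero_of_dvd hd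
    rw [h4] at h3
    exact absurd h3 (by decide)
  · rw [← hw, ← vl_flatten]
    exact eq_one_of_oneB rep3 h1
  · rw [← hw]
    intro h4
    have h5 := ne_one_of_neB rep3 h2
    apply h5
    rw [map_prod_pr]
    change pr (vl (wd i j)) = 1
    rw [h4]
    exact map_one _

theorem pair_rv {S : Subgroup Co0} (ha : a ∈ S) (hb : b ∈ S) (hk : k ∈ S) {i j : ℕ} (hi : i < 7) (hj : j < 7) :
    MPair 5 S (rv i) (rv j) := by
  rcases le_total i j with h | h
  · exact pair_rv_le ha hb hk h hj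
  · exact (pair_rv_le ha hb hk h hi).symm

theorem pair_P3 {S : Subgroup Co0} (ha : a ∈ S) (hb : b ∈ S) (hk : k ∈ S) {x y : Co0} (hx : x ∈ P3 quad)
    (hx1 : x ≠ 1) (hy : y ∈ P3 quad) (hy1 : y ≠ 1) : MPair 5 S x y := by
  obtain ⟨i, hi, n, w, hw, h1⟩ := exists_rep ha hb hx hx1
  obtain ⟨j, hj, m, v, hv, h2⟩ := exists_rep ha hb hy hy1
  have h3 := pair_rv ha hb hk hi hj
  rw [← h1, ← h2] at h3
  exact MPair.of_pow n m ((h3.conj_left hw).conj_right hv)

/-- **All pairs of elements of order five of a subgroup with Sylow subgroup `P3`.** -/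
theorem pair_all {S : Subgroup Co0} (ha : a ∈ S) (hb : b ∈ S) (hk : k ∈ S) (hS : ¬ 5 ^ 4 ∣ Nat.card ↥S) {x y : Co0}
    (hxS : x ∈ S) (hyS : y ∈ S) (hx : orderOf x = 5) (hy : orderOf y = 5) : MPair 5 S x y := by
  have hfin : Finite Co0 := CpAutBig.CoZero.finite_co0
  have hP : P3 quad ≤ S := by
    rintro _ ⟨i, m, j, rfl⟩
    unfold N E
    rw [pw_zero, mul_one]
    have hcS : c ∈ S := by
      rw [← rv0]
      exact vl_mem ha hb hk _
    exact mul_mem (mul_mem (pow_mem ha _) (pow_mem hcS _)) (pow_mem hb _)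
  have hcard : ¬ 5 * Nat.card ↥(P3 quad) ∣ Nat.card ↥S := by
    rw [card_P3]
    exact hS
  have hone : ∀ z : Co0, orderOf z = 5 → z ≠ 1 := by
    rintro z hz rfl
    rw [orderOf_one] at hz
    norm_num at hz
  obtain ⟨w, hw, h1⟩ := conj_into five hP isPGroup_P3 hcard (by rw [← hx, pow_orderOf_eq_one]) hxS
  obtain ⟨v, hv, h2⟩ := conj_into five hP isPGroup_P3 hcard (by rw [← hy, pow_orderOf_eq_one]) hyS
  have h3 := pair_P3 ha hb hk h1 (fun h => hone x hx (by
    rwa [mul_inv_eq_one, mul_eq_left] at h)) h2 (fun h => hone y hy (by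
    rwa [mul_inv_eq_one, mul_eq_left] at h))
  exact (h3.conj_left hw).conj_right hv

/-- the same in a group isomorphic to `S` -/
theorem pair_group {G : Type*} [Group G] {S : Subgroup Co0} (e : G ≃* ↥S) (ha : a ∈ S) (hb : b ∈ S) (hk : k ∈ S)
    (hG : ¬ 5 ^ 4 ∣ Nat.card G) {x y : G} (hx : orderOf x = 5) (hy : orderOf y = 5) :
    MPair 5 (⊤ : Subgroup G) x y := by
  let φ : G →* Co0 := S.subtype.comp e.toMonoidHom
  have hφ : Function.Injective φ := S.subtype_injective.comp e.injective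
  refine MPair.of_hom φ (T := S) ?_ (pair_all ha hb hk (by rwa [← Nat.card_congr e.toEquiv]) (e x).2 (e y).2 ?_ ?_)
  · intro s hs
    exact ⟨e.symm ⟨s, hs⟩, mem_top _, congrArg Subtype.val (e.apply_symm_apply ⟨s, hs⟩)⟩
  · rw [← hx]
    exact orderOf_injective φ hφ x
  · rw [← hy]
    exact orderOf_injective φ hφ y

/-- **the row from an isomorphism with a subgroup of `Co0` containing `a, b, k`** -/
theorem mrow_of {G : Type*} [Group G] [Finite G] [IsSimpleGroup G] {S : Subgroup Co0} (e : G ≃* ↥S) (ha : a ∈ S)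
    (hb : b ∈ S) (hk : k ∈ S) (hG : ¬ 5 ^ 4 ∣ Nat.card G) (hp : ¬ (Nat.card G).Prime)
    (hinn : ∀ α : MulAut G, orderOf α = 5 → α ∈ (MulAut.conj : G →* MulAut G).range) : MRow 5 G :=
  MRow.of_inner (not_comm_of_card hp) hinn fun _ _ hx hy => pair_group e ha hb hk hG hx hy

theorem mrow_co2 (K : Type u) [Group K] [Finite K] [IsSimpleGroup K] (h : Spor.IsoCo2 K) : MRow 5 K := by
  obtain ⟨e⟩ := h
  obtain ⟨hv, hn, ha, hb, hk⟩ := exists_vec fix32a fix32b fixK32
  obtain ⟨s⟩ := stab_equiv (Or.inl rfl) norm_leechU (w := ⟨vec l32, hv⟩) hn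
  have hcard : Nat.card K = 42305421312000 := by
    rw [Nat.card_congr e.toEquiv, Schreier.CoTwoStab.card]
  refine mrow_of ((e.trans equivCo2).trans s) ha hb hk (by rw [hcard]; norm_num) (by rw [hcard]; norm_num) ?_
  intro α _
  obtain ⟨g, hg⟩ := KFacts.CoTwo.Main.allInner_iso e α
  exact ⟨g, hg.symm⟩

theorem mrow_co3 (K : Type u) [Group K] [Finite K] [IsSimpleGroup K] (h : Spor.IsoCo3 K) : MRow 5 K := by
  obtain ⟨e⟩ := h
  obtain ⟨hv, hn, ha, hb, hk⟩ := exists_vec fix48a fix48b fixK48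
  obtain ⟨s⟩ := stab_equiv (Or.inr (Or.inl rfl)) norm_leechV (w := ⟨vec l48, hv⟩) hn
  have hcard : Nat.card K = 495766656000 := by
    rw [Nat.card_congr (e.trans SporRec.Co3.Model.equivCo3.symm).toEquiv, SporRec.Co3.Chain.isCo3_G3.2]
  refine mrow_of ((e.trans equivCo3).trans s) ha hb hk (by rw [hcard]; norm_num) (by rw [hcard]; norm_num) ?_
  intro α _
  obtain ⟨g, hg⟩ := KFacts.Co3.Sheet.inner_of (e.trans SporRec.Co3.Model.equivCo3.symm).symm α
  exact ⟨g, hg.symm⟩

end mcl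

section co1

open Cfsg.Agent.H752.CoOnePairs Cfsg.Agent.CpAutCoOneFive.Cls

theorem pair_rv_le1 {i j : ℕ} (hij : i ≤ j) (hj : j < 3) : MPair 5 (⊤ : Subgroup Spor.Co1) (rv i) (rv j) := by
  have h := good_all hij hj
  unfold good at h
  rw [Bool.and_eq_true, Bool.and_eq_true] at h
  obtain ⟨⟨h1, h2⟩, h3⟩ := h
  have hw : vl (wd i j) = rv i * (vl (gt i j).1 * rv j * (vl (gt i j).1)⁻¹) := by
    unfold wd
    rw [vl_append, vl_append, vl_append, vl_iw (gt_lt i (by omega) j hj)]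
    unfold rv
    simp only [mul_assoc]
  refine mpair_of_coprime (g := vl (gt i j).1) (mem_top _) (n := (gt i j).2) ?_ ?_ ?_
  · rw [Nat.coprime_comm, Nat.Prime.coprime_iff_not_dvd five]
    intro hd
    have h4 : (gt i j).2 % 5 = 0 := Nat.mod_eq_zero_of_dvd hd
    rw [h4] at h3
    exact absurd h3 (by decide)
  · rw [← hw, ← vl_flatten]
    exact eq_one_of_relB rep h1
  · rw [← hw]
    exact ne_one_of_neB rep h2

theorem pair_rv1 {i j : ℕ} (hi : i < 3) (hj : j < 3) : MPair 5 (⊤ : Subgroup Spor.Co1) (rv i) (rv j) := by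
  rcases le_total i j with h | h
  · exact pair_rv_le1 h hj
  · exact (pair_rv_le1 h hi).symm

theorem exists_nat_pow {G : Type*} [Group G] {x : G} (hx : orderOf x = 5) (n : ℤ) : ∃ m : ℕ, x ^ n = x ^ m := by
  have h : IsOfFinOrder x := orderOf_pos_iff.1 (by rw [hx]; norm_num)
  obtain ⟨m, hm⟩ := (h.mem_powers_iff_mem_zpowers).2 (⟨n, rfl⟩ : x ^ n ∈ Subgroup.zpowers x)
  exact ⟨m, hm.symm⟩

/-- **All pairs of elements of order five of `Co1`.** -/
theorem pair_co1 {x y : Spor.Co1} (hx : orderOf x = 5) (hy : orderOf y = 5) :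
    MPair 5 (⊤ : Subgroup Spor.Co1) x y := by
  obtain ⟨i, hi, n, w, h1⟩ := exists_rep hx
  obtain ⟨j, hj, m, v, h2⟩ := exists_rep hy
  obtain ⟨n', hn⟩ := exists_nat_pow hx n
  obtain ⟨m', hm⟩ := exists_nat_pow hy m
  have h3 := pair_rv1 hi hj
  rw [← h1, ← h2, hn, hm] at h3
  exact MPair.of_pow n' m' ((h3.conj_left (mem_top w)).conj_right (mem_top v))

theorem mrow_co1 (K : Type u) [Group K] [Finite K] [IsSimpleGroup K] (h : Spor.IsoCo1 K) : MRow 5 K := by
  obtain ⟨e⟩ := h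
  have hcard : Nat.card K = 4157776806543360000 := by
    rw [Nat.card_congr e.toEquiv, S0399.result.2]
  refine MRow.of_inner (not_comm_of_card (by rw [hcard]; norm_num)) ?_ ?_
  · intro α _
    obtain ⟨s, hs⟩ := ConwayFacts.AutCo1.inner_of_equiv e α
    exact ⟨s, MulEquiv.ext fun g => by rw [hs, MulAut.conj_apply]⟩
  · intro x y hx hy
    refine MPair.of_hom e.toMonoidHom (T := ⊤) ?_ (pair_co1 ?_ ?_)
    · intro z _
      exact ⟨e.symm z, mem_top _, e.apply_symm_apply z⟩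
    · rw [← hx]
      exact orderOf_injective e.toMonoidHom e.injective x
    · rw [← hy]
      exact orderOf_injective e.toMonoidHom e.injective y

end co1

end Cfsg.Agent.H752.MFiveCo
end

-- part: H461/T5M/McL
section
set_option linter.all false

/-!
# Middle pairs of elements of order 5 in `McL` and the groups between it and `Co0` (helper461)
-/

set_option autoImplicit false
set_option maxRecDepth 100000

namespace Cfsg.Agent.H461.T5

open Subgroup Cfsg Cfsg.Agent.SporadicA Cfsg.Agent.SporadicStructure.Co0Matrix Cfsg.Agent.CoOneType.CoEval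
open Cfsg.Agent.LThreeCo1.Ev Cfsg.Agent.LThreeMB.Fix Cfsg.Agent.H573.Spor.Co0 Cfsg.Agent.H957.T5M

namespace McL

open Cfsg.Agent.H573.Spor.McLFive

/-- one entry of the check -/
theorem chkM_of (i : ℕ) (h : ∀ j < 7, (bif Nat.blt j i then true else neB' Ms (wzp 5 1 i j) []) = true) :
    chkM Ms 5 1 i = true :=
  List.all_eq_true.2 fun j hj => h j (List.mem_range.1 hj)

theorem chkM_zero : chkM Ms 5 1 0 = true := by
  refine chkM_of 0 fun j hj => ?_
  interval_cases j
  · (delta Cfsg.Agent.LThreeCo1.Ev.neB'; rewrite [Cfsg.Agent.CoOneType.CoW.of_eq Cfsg.Agent.LThreeCo1.Ev.foldZ_eq]; decide +kernel)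
  · (delta Cfsg.Agent.LThreeCo1.Ev.neB'; rewrite [Cfsg.Agent.CoOneType.CoW.of_eq Cfsg.Agent.LThreeCo1.Ev.foldZ_eq]; decide +kernel)
  · (delta Cfsg.Agent.LThreeCo1.Ev.neB'; rewrite [Cfsg.Agent.CoOneType.CoW.of_eq Cfsg.Agent.LThreeCo1.Ev.foldZ_eq]; decide +kernel)
  · (delta Cfsg.Agent.LThreeCo1.Ev.neB'; rewrite [Cfsg.Agent.CoOneType.CoW.of_eq Cfsg.Agent.LThreeCo1.Ev.foldZ_eq]; decide +kernel)
  · (delta Cfsg.Agent.LThreeCo1.Ev.neB'; rewrite [Cfsg.Agent.CoOneType.CoW.of_eq Cfsg.Agent.LThreeCo1.Ev.foldZ_eq]; decide +kernel)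
  · (delta Cfsg.Agent.LThreeCo1.Ev.neB'; rewrite [Cfsg.Agent.CoOneType.CoW.of_eq Cfsg.Agent.LThreeCo1.Ev.foldZ_eq]; decide +kernel)
  · (delta Cfsg.Agent.LThreeCo1.Ev.neB'; rewrite [Cfsg.Agent.CoOneType.CoW.of_eq Cfsg.Agent.LThreeCo1.Ev.foldZ_eq]; decide +kernel)

theorem chkM_one : chkM Ms 5 1 1 = true := by
  refine chkM_of 1 fun j hj => ?_
  interval_cases j
  · rfl
  · (delta Cfsg.Agent.LThreeCo1.Ev.neB'; rewrite [Cfsg.Agent.CoOneType.CoW.of_eq Cfsg.Agent.LThreeCo1.Ev.foldZ_eq]; decide +kernel)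
  · (delta Cfsg.Agent.LThreeCo1.Ev.neB'; rewrite [Cfsg.Agent.CoOneType.CoW.of_eq Cfsg.Agent.LThreeCo1.Ev.foldZ_eq]; decide +kernel)
  · (delta Cfsg.Agent.LThreeCo1.Ev.neB'; rewrite [Cfsg.Agent.CoOneType.CoW.of_eq Cfsg.Agent.LThreeCo1.Ev.foldZ_eq]; decide +kernel)
  · (delta Cfsg.Agent.LThreeCo1.Ev.neB'; rewrite [Cfsg.Agent.CoOneType.CoW.of_eq Cfsg.Agent.LThreeCo1.Ev.foldZ_eq]; decide +kernel)
  · (delta Cfsg.Agent.LThreeCo1.Ev.neB'; rewrite [Cfsg.Agent.CoOneType.CoW.of_eq Cfsg.Agent.LThreeCo1.Ev.foldZ_eq]; decide +kernel)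
  · (delta Cfsg.Agent.LThreeCo1.Ev.neB'; rewrite [Cfsg.Agent.CoOneType.CoW.of_eq Cfsg.Agent.LThreeCo1.Ev.foldZ_eq]; decide +kernel)

theorem chkM_two : chkM Ms 5 1 2 = true := by
  refine chkM_of 2 fun j hj => ?_
  interval_cases j
  · rfl
  · rfl
  · (delta Cfsg.Agent.LThreeCo1.Ev.neB'; rewrite [Cfsg.Agent.CoOneType.CoW.of_eq Cfsg.Agent.LThreeCo1.Ev.foldZ_eq]; decide +kernel)
  · (delta Cfsg.Agent.LThreeCo1.Ev.neB'; rewrite [Cfsg.Agent.CoOneType.CoW.of_eq Cfsg.Agent.LThreeCo1.Ev.foldZ_eq]; decide +kernel)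
  · (delta Cfsg.Agent.LThreeCo1.Ev.neB'; rewrite [Cfsg.Agent.CoOneType.CoW.of_eq Cfsg.Agent.LThreeCo1.Ev.foldZ_eq]; decide +kernel)
  · (delta Cfsg.Agent.LThreeCo1.Ev.neB'; rewrite [Cfsg.Agent.CoOneType.CoW.of_eq Cfsg.Agent.LThreeCo1.Ev.foldZ_eq]; decide +kernel)
  · (delta Cfsg.Agent.LThreeCo1.Ev.neB'; rewrite [Cfsg.Agent.CoOneType.CoW.of_eq Cfsg.Agent.LThreeCo1.Ev.foldZ_eq]; decide +kernel)

theorem chkM_three : chkM Ms 5 1 3 = true := by
  refine chkM_of 3 fun j hj => ?_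
  interval_cases j
  · rfl
  · rfl
  · rfl
  · (delta Cfsg.Agent.LThreeCo1.Ev.neB'; rewrite [Cfsg.Agent.CoOneType.CoW.of_eq Cfsg.Agent.LThreeCo1.Ev.foldZ_eq]; decide +kernel)
  · (delta Cfsg.Agent.LThreeCo1.Ev.neB'; rewrite [Cfsg.Agent.CoOneType.CoW.of_eq Cfsg.Agent.LThreeCo1.Ev.foldZ_eq]; decide +kernel)
  · (delta Cfsg.Agent.LThreeCo1.Ev.neB'; rewrite [Cfsg.Agent.CoOneType.CoW.of_eq Cfsg.Agent.LThreeCo1.Ev.foldZ_eq]; decide +kernel)
  · (delta Cfsg.Agent.LThreeCo1.Ev.neB'; rewrite [Cfsg.Agent.CoOneType.CoW.of_eq Cfsg.Agent.LThreeCo1.Ev.foldZ_eq]; decide +kernel)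

theorem chkM_four : chkM Ms 5 1 4 = true := by
  refine chkM_of 4 fun j hj => ?_
  interval_cases j
  · rfl
  · rfl
  · rfl
  · rfl
  · (delta Cfsg.Agent.LThreeCo1.Ev.neB'; rewrite [Cfsg.Agent.CoOneType.CoW.of_eq Cfsg.Agent.LThreeCo1.Ev.foldZ_eq]; decide +kernel)
  · (delta Cfsg.Agent.LThreeCo1.Ev.neB'; rewrite [Cfsg.Agent.CoOneType.CoW.of_eq Cfsg.Agent.LThreeCo1.Ev.foldZ_eq]; decide +kernel)
  · (delta Cfsg.Agent.LThreeCo1.Ev.neB'; rewrite [Cfsg.Agent.CoOneType.CoW.of_eq Cfsg.Agent.LThreeCo1.Ev.foldZ_eq]; decide +kernel)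

theorem chkM_all : ∀ i < 5 + 2, chkM Ms 5 1 i = true := by
  intro i hi
  interval_cases i
  · exact chkM_zero
  · exact chkM_one
  · exact chkM_two
  · exact chkM_three
  · exact chkM_four
  · (delta Cfsg.Agent.H461.T5.chkM Cfsg.Agent.LThreeCo1.Ev.neB'; rewrite [Cfsg.Agent.CoOneType.CoW.of_eq Cfsg.Agent.LThreeCo1.Ev.foldZ_eq]; decide +kernel)
  · (delta Cfsg.Agent.H461.T5.chkM Cfsg.Agent.LThreeCo1.Ev.neB'; rewrite [Cfsg.Agent.CoOneType.CoW.of_eq Cfsg.Agent.LThreeCo1.Ev.foldZ_eq]; decide +kernel)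

/-- **the pairs of elements of order 5** of a subgroup of `Co₀` containing `McL` -/
theorem mpair (X : Subgroup (Equiv.Perm leechLattice)) (hX : X ≤ Co0) (hXM : ∀ g ∈ Spor.McL, g ∈ X)
    (h4 : ¬ 5 ^ 4 ∣ Nat.card X) {x y : X} (hx : orderOf x = 5) (hy : orderOf y = 5) : MPair 5 (⊤ : Subgroup X) x y :=
  have : Fact (Nat.Prime 5) := ⟨by norm_num⟩
  mpair_of_le (e := e) (by norm_num) 1 X hX h4 hM chkM_all gh (hXM _ memA) (hXM _ memB) (hXM _ memC) (hXM _ memG) a_pow
    b_pow c_pow c_ne ac bc ab hx hy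

end McL

end Cfsg.Agent.H461.T5
end

-- part: H461/T5M/HS
section
set_option linter.all false
open scoped Cfsg.Agent.FastGrp

/-!
# Middle pairs of elements of order 5 in `HS` and the groups between it and `Co0` (helper461)
-/

set_option autoImplicit false
set_option maxRecDepth 100000

namespace Cfsg.Agent.H461.T5

open Subgroup Cfsg Cfsg.Agent.SporadicA Cfsg.Agent.SporadicStructure.Co0Matrix Cfsg.Agent.CoOneType.CoEval
open Cfsg.Agent.LThreeCo1.Ev Cfsg.Agent.LThreeMB.Fix Cfsg.Agent.H573.Spor.Co0 Cfsg.Agent.H957.T5M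

namespace HS

open Cfsg.Agent.H573.Spor.HSFive

theorem chkM_of {M : ℕ → List (List ℤ)} {p k i : ℕ}
    (h : ∀ j < p + 2, i ≤ j → neB' M (wzp p k i j) [] = true) : chkM M p k i = true := by
  unfold chkM
  rw [List.all_eq_true]
  intro j hj
  rw [List.mem_range] at hj
  rcases Nat.lt_or_ge j i with h1 | h1
  · have h0 : Nat.blt j i = true := by rw [Nat.blt_eq]; exact h1
    rw [h0, cond_true]
  · rw [h j hj h1]
    cases Nat.blt j i <;> rfl

theorem nn_0_0 : neB' Ms (wzp 5 2 0 0) [] = true := by (delta Cfsg.Agent.LThreeCo1.Ev.neB'; rewrite [Cfsg.Agent.CoOneType.CoW.of_eq Cfsg.Agent.LThreeCo1.Ev.foldZ_eq]; decide +kernel)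

theorem nn_0_1 : neB' Ms (wzp 5 2 0 1) [] = true := by (delta Cfsg.Agent.LThreeCo1.Ev.neB'; rewrite [Cfsg.Agent.CoOneType.CoW.of_eq Cfsg.Agent.LThreeCo1.Ev.foldZ_eq]; decide +kernel)

theorem nn_0_2 : neB' Ms (wzp 5 2 0 2) [] = true := by (delta Cfsg.Agent.LThreeCo1.Ev.neB'; rewrite [Cfsg.Agent.CoOneType.CoW.of_eq Cfsg.Agent.LThreeCo1.Ev.foldZ_eq]; decide +kernel)

theorem nn_0_3 : neB' Ms (wzp 5 2 0 3) [] = true := by (delta Cfsg.Agent.LThreeCo1.Ev.neB'; rewrite [Cfsg.Agent.CoOneType.CoW.of_eq Cfsg.Agent.LThreeCo1.Ev.foldZ_eq]; decide +kernel)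

theorem nn_0_4 : neB' Ms (wzp 5 2 0 4) [] = true := by (delta Cfsg.Agent.LThreeCo1.Ev.neB'; rewrite [Cfsg.Agent.CoOneType.CoW.of_eq Cfsg.Agent.LThreeCo1.Ev.foldZ_eq]; decide +kernel)

theorem nn_0_5 : neB' Ms (wzp 5 2 0 5) [] = true := by (delta Cfsg.Agent.LThreeCo1.Ev.neB'; rewrite [Cfsg.Agent.CoOneType.CoW.of_eq Cfsg.Agent.LThreeCo1.Ev.foldZ_eq]; decide +kernel)

theorem nn_0_6 : neB' Ms (wzp 5 2 0 6) [] = true := by (delta Cfsg.Agent.LThreeCo1.Ev.neB'; rewrite [Cfsg.Agent.CoOneType.CoW.of_eq Cfsg.Agent.LThreeCo1.Ev.foldZ_eq]; decide +kernel)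

theorem nn_1_1 : neB' Ms (wzp 5 2 1 1) [] = true := by (delta Cfsg.Agent.LThreeCo1.Ev.neB'; rewrite [Cfsg.Agent.CoOneType.CoW.of_eq Cfsg.Agent.LThreeCo1.Ev.foldZ_eq]; decide +kernel)

theorem nn_1_2 : neB' Ms (wzp 5 2 1 2) [] = true := by (delta Cfsg.Agent.LThreeCo1.Ev.neB'; rewrite [Cfsg.Agent.CoOneType.CoW.of_eq Cfsg.Agent.LThreeCo1.Ev.foldZ_eq]; decide +kernel)

theorem nn_1_3 : neB' Ms (wzp 5 2 1 3) [] = true := by (delta Cfsg.Agent.LThreeCo1.Ev.neB'; rewrite [Cfsg.Agent.CoOneType.CoW.of_eq Cfsg.Agent.LThreeCo1.Ev.foldZ_eq]; decide +kernel)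

theorem nn_1_4 : neB' Ms (wzp 5 2 1 4) [] = true := by (delta Cfsg.Agent.LThreeCo1.Ev.neB'; rewrite [Cfsg.Agent.CoOneType.CoW.of_eq Cfsg.Agent.LThreeCo1.Ev.foldZ_eq]; decide +kernel)

theorem nn_1_5 : neB' Ms (wzp 5 2 1 5) [] = true := by (delta Cfsg.Agent.LThreeCo1.Ev.neB'; rewrite [Cfsg.Agent.CoOneType.CoW.of_eq Cfsg.Agent.LThreeCo1.Ev.foldZ_eq]; decide +kernel)

theorem nn_1_6 : neB' Ms (wzp 5 2 1 6) [] = true := by (delta Cfsg.Agent.LThreeCo1.Ev.neB'; rewrite [Cfsg.Agent.CoOneType.CoW.of_eq Cfsg.Agent.LThreeCo1.Ev.foldZ_eq]; decide +kernel)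

theorem nn_2_2 : neB' Ms (wzp 5 2 2 2) [] = true := by (delta Cfsg.Agent.LThreeCo1.Ev.neB'; rewrite [Cfsg.Agent.CoOneType.CoW.of_eq Cfsg.Agent.LThreeCo1.Ev.foldZ_eq]; decide +kernel)

theorem nn_2_3 : neB' Ms (wzp 5 2 2 3) [] = true := by (delta Cfsg.Agent.LThreeCo1.Ev.neB'; rewrite [Cfsg.Agent.CoOneType.CoW.of_eq Cfsg.Agent.LThreeCo1.Ev.foldZ_eq]; decide +kernel)

theorem nn_2_4 : neB' Ms (wzp 5 2 2 4) [] = true := by (delta Cfsg.Agent.LThreeCo1.Ev.neB'; rewrite [Cfsg.Agent.CoOneType.CoW.of_eq Cfsg.Agent.LThreeCo1.Ev.foldZ_eq]; decide +kernel)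

theorem nn_2_5 : neB' Ms (wzp 5 2 2 5) [] = true := by (delta Cfsg.Agent.LThreeCo1.Ev.neB'; rewrite [Cfsg.Agent.CoOneType.CoW.of_eq Cfsg.Agent.LThreeCo1.Ev.foldZ_eq]; decide +kernel)

theorem nn_2_6 : neB' Ms (wzp 5 2 2 6) [] = true := by (delta Cfsg.Agent.LThreeCo1.Ev.neB'; rewrite [Cfsg.Agent.CoOneType.CoW.of_eq Cfsg.Agent.LThreeCo1.Ev.foldZ_eq]; decide +kernel)

theorem nn_3_3 : neB' Ms (wzp 5 2 3 3) [] = true := by (delta Cfsg.Agent.LThreeCo1.Ev.neB'; rewrite [Cfsg.Agent.CoOneType.CoW.of_eq Cfsg.Agent.LThreeCo1.Ev.foldZ_eq]; decide +kernel)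

theorem nn_3_4 : neB' Ms (wzp 5 2 3 4) [] = true := by (delta Cfsg.Agent.LThreeCo1.Ev.neB'; rewrite [Cfsg.Agent.CoOneType.CoW.of_eq Cfsg.Agent.LThreeCo1.Ev.foldZ_eq]; decide +kernel)

theorem nn_3_5 : neB' Ms (wzp 5 2 3 5) [] = true := by (delta Cfsg.Agent.LThreeCo1.Ev.neB'; rewrite [Cfsg.Agent.CoOneType.CoW.of_eq Cfsg.Agent.LThreeCo1.Ev.foldZ_eq]; decide +kernel)

theorem nn_3_6 : neB' Ms (wzp 5 2 3 6) [] = true := by (delta Cfsg.Agent.LThreeCo1.Ev.neB'; rewrite [Cfsg.Agent.CoOneType.CoW.of_eq Cfsg.Agent.LThreeCo1.Ev.foldZ_eq]; decide +kernel)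

theorem nn_4_4 : neB' Ms (wzp 5 2 4 4) [] = true := by (delta Cfsg.Agent.LThreeCo1.Ev.neB'; rewrite [Cfsg.Agent.CoOneType.CoW.of_eq Cfsg.Agent.LThreeCo1.Ev.foldZ_eq]; decide +kernel)

theorem nn_4_5 : neB' Ms (wzp 5 2 4 5) [] = true := by (delta Cfsg.Agent.LThreeCo1.Ev.neB'; rewrite [Cfsg.Agent.CoOneType.CoW.of_eq Cfsg.Agent.LThreeCo1.Ev.foldZ_eq]; decide +kernel)

theorem nn_4_6 : neB' Ms (wzp 5 2 4 6) [] = true := by (delta Cfsg.Agent.LThreeCo1.Ev.neB'; rewrite [Cfsg.Agent.CoOneType.CoW.of_eq Cfsg.Agent.LThreeCo1.Ev.foldZ_eq]; decide +kernel)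

theorem nn_5_5 : neB' Ms (wzp 5 2 5 5) [] = true := by (delta Cfsg.Agent.LThreeCo1.Ev.neB'; rewrite [Cfsg.Agent.CoOneType.CoW.of_eq Cfsg.Agent.LThreeCo1.Ev.foldZ_eq]; decide +kernel)

theorem nn_5_6 : neB' Ms (wzp 5 2 5 6) [] = true := by (delta Cfsg.Agent.LThreeCo1.Ev.neB'; rewrite [Cfsg.Agent.CoOneType.CoW.of_eq Cfsg.Agent.LThreeCo1.Ev.foldZ_eq]; decide +kernel)

theorem nn_6_6 : neB' Ms (wzp 5 2 6 6) [] = true := by (delta Cfsg.Agent.LThreeCo1.Ev.neB'; rewrite [Cfsg.Agent.CoOneType.CoW.of_eq Cfsg.Agent.LThreeCo1.Ev.foldZ_eq]; decide +kernel)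

theorem chkM_all : ∀ i < 5 + 2, chkM Ms 5 2 i = true := by
  intro i hi
  interval_cases i
  · refine chkM_of fun j hj hij => ?_
    interval_cases j
    · exact nn_0_0
    · exact nn_0_1
    · exact nn_0_2
    · exact nn_0_3
    · exact nn_0_4
    · exact nn_0_5
    · exact nn_0_6
  · refine chkM_of fun j hj hij => ?_
    interval_cases j
    · exact nn_1_1
    · exact nn_1_2
    · exact nn_1_3
    · exact nn_1_4
    · exact nn_1_5
    · exact nn_1_6
  · refine chkM_of fun j hj hij => ?_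
    interval_cases j
    · exact nn_2_2
    · exact nn_2_3
    · exact nn_2_4
    · exact nn_2_5
    · exact nn_2_6
  · refine chkM_of fun j hj hij => ?_
    interval_cases j
    · exact nn_3_3
    · exact nn_3_4
    · exact nn_3_5
    · exact nn_3_6
  · refine chkM_of fun j hj hij => ?_
    interval_cases j
    · exact nn_4_4
    · exact nn_4_5
    · exact nn_4_6
  · refine chkM_of fun j hj hij => ?_
    interval_cases j
    · exact nn_5_5
    · exact nn_5_6
  · refine chkM_of fun j hj hij => ?_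
    interval_cases j
    · exact nn_6_6

/-- **the pairs of elements of order 5** of a subgroup of `Co₀` containing `HS` -/
theorem mpair (X : Subgroup (Equiv.Perm leechLattice)) (hX : X ≤ Co0) (hXM : ∀ g ∈ Spor.HS, g ∈ X)
    (h4 : ¬ 5 ^ 4 ∣ Nat.card X) {x y : X} (hx : orderOf x = 5) (hy : orderOf y = 5) : MPair 5 (⊤ : Subgroup X) x y :=
  have : Fact (Nat.Prime 5) := ⟨by norm_num⟩
  mpair_of_le (e := e) (by norm_num) 2 X hX h4 hM chkM_all gh (hXM _ memA) (hXM _ memB) (hXM _ memC) (hXM _ memG) a_pow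
    b_pow c_pow c_ne ac bc ab hx hy

end HS

end Cfsg.Agent.H461.T5
end

-- part: H461/T5M/SpA
section
set_option linter.all false
open scoped Cfsg.Agent.FastGrp

/-!
# The middle rows `(HS, 5)`, `(McL, 5)`, `(Ru, 5)` (helper461)

`hs`, `mcl`, `ru` : the rows; the fields of `H143.T5SporM.SporBigM` are `fun K _ _ _ _ h _ => MRows.hs K h` etc.
-/

set_option autoImplicit false

namespace Cfsg.Agent.H461.T5.MRows

open Subgroup Cfsg Cfsg.Agent.H533.T5 Cfsg.Agent.H461.T5 Cfsg.Agent.H957.T5M Cfsg.Agent.H106.MB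

universe u

/-- a row from the pairs in a model, and the automorphisms of odd order -/
theorem mrow_of_oddInn {K H : Type*} [Group K] [Finite K] [IsSimpleGroup K] [Group H] {p : ℕ} (hp : p.Prime) (hp2 : p ≠ 2)
    (hcard : ¬ (Nat.card K).Prime) (hinn : Cfsg.Agent.BpSpor.Inn.OddInn K) (e : K ≃* H)
    (h : ∀ x y : H, orderOf x = p → orderOf y = p → MPair p (⊤ : Subgroup H) x y) : MRow p K := by
  refine MRow.of_inner (not_comm_of_card hcard) (fun a ha => ?_) (Cfsg.Agent.H797.T5.AllM.congr h e)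
  obtain ⟨g, rfl⟩ := hinn p hp hp2 a ha
  exact ⟨g, rfl⟩

theorem hs (K : Type u) [Group K] [Finite K] [IsSimpleGroup K] (h : Spor.IsoHS K) : MRow 5 K := by
  have hc : Nat.card K = 44352000 := (Cfsg.Agent.BpSpor.Row.dat_hs h).card
  have hinn := (Cfsg.Agent.BpSpor.Row.dat_hs h).inn
  obtain ⟨e⟩ := h
  have hc' : Nat.card Spor.HS = 44352000 := by rw [← Nat.card_congr e.toEquiv, hc]
  exact mrow_of_oddInn (by norm_num) (by norm_num) (by rw [hc]; norm_num) hinn e
    fun x y hx hy => HS.mpair Spor.HS (fun _ h => h.1.1) (fun _ h => h) (by rw [hc']; norm_num) hx hy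

theorem mcl (K : Type u) [Group K] [Finite K] [IsSimpleGroup K] (h : Spor.IsoMcL K) : MRow 5 K := by
  obtain ⟨e⟩ := h
  have hc' : Nat.card Spor.McL = 898128000 := Cfsg.Agent.H573.Spor.card_McL
  have hc : Nat.card K = 898128000 := by rw [Nat.card_congr e.toEquiv, hc']
  have hinn : Cfsg.Agent.BpSpor.Inn.OddInn K := Cfsg.Agent.BpSpor.Inn.OddInn.congr e
    (Cfsg.Agent.BpSpor.Inn.of_pow fun α => by
      rw [pow_two]; exact Cfsg.Agent.CpAut.SmallP.McL.sq_inner α)
  exact mrow_of_oddInn (by norm_num) (by norm_num) (by rw [hc]; norm_num) hinn e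
    fun x y hx hy => McL.mpair Spor.McL (fun _ h => h.1.1) (fun _ h => h) (by rw [hc']; norm_num) hx hy

theorem ru (K : Type u) [Group K] [Finite K] [IsSimpleGroup K] (h : Spor.IsoRu K) : MRow 5 K := by
  have hc : Nat.card K = 145926144000 := (Cfsg.Agent.BpSpor.Row.dat_ru h).card
  have hinn := (Cfsg.Agent.BpSpor.Row.dat_ru h).inn
  obtain ⟨e⟩ := h
  exact mrow_of_oddInn (by norm_num) (by norm_num) (by rw [hc]; norm_num) hinn (e.trans RuLat.Main.equiv)
    fun x y hx hy => Ru.mpair hx hy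

end Cfsg.Agent.H461.T5.MRows
end

-- part: H143/T5SporM
section
set_option linter.all false
open scoped Cfsg.Agent.FastGrp

/-!
# The middle rows of the sporadic groups: assembly (helper143)

`SporBigM` : the rows `(S, p)` with `p ^ 3 ∣ |S|`; `rowFam_spor` : all rows of the sporadic groups and of the Tits
group, from these, S5303 and S2120.
-/

set_option autoImplicit false

universe u

namespace Cfsg.Agent.H143.T5SporM

open Cfsg Cfsg.Agent.OrdDiv Cfsg.Agent.H533.T5 Cfsg.Agent.H957.T5M Cfsg.Agent.H106.MB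
  Cfsg.Agent.H106.MT Cfsg.Agent.H106.MAll Cfsg.Agent.H106.InnerAb

/-- one row, given the rows of the smaller groups -/
def R (p : ℕ) (Iso : ∀ (K : Type u) [Group K], Prop) : Prop :=
  ∀ (K : Type u) [Group K] [Finite K] [IsSimpleGroup K], ¬ IsMulCommutative K → Iso K →
    Below.{u} p (Nat.card K) → MRow p K

/-- The middle rows of the sporadic groups whose order is divisible by `p ^ 3`, `p ≥ 5`. -/
structure SporBigM : Prop where
  hs : R.{u} 5 (fun K _ => Spor.IsoHS K)
  mcl : R.{u} 5 (fun K _ => Spor.IsoMcL K)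
  ru : R.{u} 5 (fun K _ => Spor.IsoRu K)
  co3 : R.{u} 5 (fun K _ => Spor.IsoCo3 K)
  co2 : R.{u} 5 (fun K _ => Spor.IsoCo2 K)
  co1 : R.{u} 5 (fun K _ => Spor.IsoCo1 K)
  ly : R.{u} 5 (fun K _ => Spor.IsoLy K)
  th : R.{u} 5 (fun K _ => Spor.IsoTh K)
  hn : R.{u} 5 (fun K _ => Spor.IsoHN K)
  b : R.{u} 5 (fun K _ => Spor.IsoB K)
  m5 : R.{u} 5 (fun K _ => Spor.IsoM K)
  m7 : R.{u} 7 (fun K _ => Spor.IsoM K)
  m13 : R.{u} 13 (fun K _ => Spor.IsoM K)
  on : R.{u} 7 (fun K _ => Spor.IsoON K)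
  he : R.{u} 7 (fun K _ => Spor.IsoHe K)
  fi24 : R.{u} 7 (fun K _ => Spor.IsoFi24' K)
  j4 : R.{u} 11 (fun K _ => Spor.IsoJ4 K)

theorem sz_chk : ∀ x ∈ spor, x.2 ≠ 32537600 := by decide +kernel

theorem ree_chk : ∀ x ∈ spor, x.2 % 16 = 8 → x.2 % 27 ≠ 0 := by decide +kernel

theorem ree_mod (m : ℕ) :
    ((3 ^ (2 * m + 1)) ^ 3 * (3 ^ (2 * m + 1) - 1) * ((3 ^ (2 * m + 1)) ^ 3 + 1)) % 16 = 8 := by
  have h1 : 3 ^ (2 * m + 1) % 16 = 3 ∨ 3 ^ (2 * m + 1) % 16 = 11 := by
    induction m with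
    | zero => left; norm_num
    | succ m ih =>
      have h2 : 3 ^ (2 * (m + 1) + 1) = 3 ^ (2 * m + 1) * 9 := by
        rw [show 2 * (m + 1) + 1 = (2 * m + 1) + 2 by ring, pow_add]; norm_num
      omega
  generalize 3 ^ (2 * m + 1) = q at h1
  obtain ⟨c, hc⟩ : ∃ c, q = c + 1 := ⟨q - 1, by omega⟩
  subst hc
  rw [Nat.add_sub_cancel]
  rcases h1 with h1 | h1
  · have h2 : c % 16 = 2 := by omega
    simp [Nat.mul_mod, Nat.add_mod, Nat.pow_mod, h2]
  · have h2 : c % 16 = 10 := by omega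
    simp [Nat.mul_mod, Nat.add_mod, Nat.pow_mod, h2]

theorem ree_27 (m : ℕ) :
    ((3 ^ (2 * m + 1)) ^ 3 * (3 ^ (2 * m + 1) - 1) * ((3 ^ (2 * m + 1)) ^ 3 + 1)) % 27 = 0 := by
  apply Nat.mod_eq_zero_of_dvd
  apply Dvd.dvd.mul_right
  apply Dvd.dvd.mul_right
  have h : (27 : ℕ) = 3 ^ 3 := by norm_num
  rw [h]
  exact pow_dvd_pow_of_dvd (dvd_pow_self 3 (by omega)) 3

/-- **The rows of the sporadic groups and of the Tits group.** -/
theorem rowFam_of (B : SporBigM.{u}) {p : ℕ} (hp : p.Prime) (h5 : 5 ≤ p) (hAA : AAHyp.{u} p)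
    (hIrr : IrrHyp.{u} p) (hSE : SEHyp.{u} p) :
    RowFam.{u} p (fun S _ => IsSporadicGroup S ∨ Lie.IsoTits S) := by
  intro K _ _ _ hna h hlt
  obtain ⟨x, hx, hr⟩ := H977.T5Spor.exists_real h
  have hc : Nat.card K = x.2 := Cfsg.Agent.OrdDiv.table.spor K x hx hr
  obtain ⟨h71, -, -, hL⟩ := H977.T5Spor.check x hx
  by_cases hd : p ^ 3 ∣ Nat.card K
  · rw [hc] at hd
    have hp71 : p ≤ 71 := (hp.dvd_factorial).1 (hp.dvd_of_dvd_pow (((dvd_pow_self p (by norm_num)).trans hd).trans h71))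
    have hm := hL p (H977.T5Spor.mem_primes hp h5 hp71) hd
    have key : ∀ (g : Grp) (r : ℕ), (x.1, p) = (g, r) → (Real g K → Below.{u} r (Nat.card K) → MRow r K) →
        MRow p K := by
      intro g r he hw
      have h1 : x.1 = g := congrArg Prod.fst he
      have h3 : p = r := congrArg Prod.snd he
      rw [h3]
      exact hw (h1 ▸ hr) (h3 ▸ hlt)
    simp only [H977.T5Spor.L, List.mem_cons, List.not_mem_nil, or_false] at hm
    rcases hm with h | h | h | h | h | h | h | h | h | h | h | h | h | h | h | h | h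
    · exact key _ _ h (B.hs K hna)
    · exact key _ _ h (B.mcl K hna)
    · exact key _ _ h (B.ru K hna)
    · exact key _ _ h (B.co3 K hna)
    · exact key _ _ h (B.co2 K hna)
    · exact key _ _ h (B.co1 K hna)
    · exact key _ _ h (B.ly K hna)
    · exact key _ _ h (B.th K hna)
    · exact key _ _ h (B.hn K hna)
    · exact key _ _ h (B.b K hna)
    · exact key _ _ h (B.m5 K hna)
    · exact key _ _ h (B.m7 K hna)
    · exact key _ _ h (B.m13 K hna)
    · exact key _ _ h (B.on K hna)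
    · exact key _ _ h (B.he K hna)
    · exact key _ _ h (B.fi24 K hna)
    · exact key _ _ h (B.j4 K hna)
  · have := Fact.mk hp
    by_cases hex : Exc p K
    · rcases hex with ⟨F, _, _, hF, ⟨e⟩⟩ | ⟨F, _, _, n, hn, hF, ⟨e⟩⟩ | ⟨F, _, _, m, hm, hF, ⟨e⟩⟩ | h1 |
        ⟨rfl, h1 | ⟨F, _, _, hF, ⟨e⟩⟩ | h1 | h1⟩ | ⟨rfl, h1⟩
      · exact H194.MOwn.mrow_psl_own le_rfl h5 e
      · have hF' : CharP F p := by
          refine charP_of_dvd hp ?_
          rw [hF]
          exact dvd_pow_self p (by omega)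
        exact H106.MOwnU.mrow_psu_own (by rw [hF, ← pow_mul]; congr 1; ring) le_rfl h5 e
      · exfalso
        have h1 := Cfsg.Agent.OrdDiv.table.{0}.ree F m hm hF
        rw [← Nat.card_congr e.toEquiv, hc] at h1
        apply ree_chk x hx
        · rw [h1]; exact ree_mod m
        · rw [h1]; exact ree_27 m
      · obtain ⟨e⟩ := h1
        exact MRow.congr e (H201.T5Alt.mrow_alt (by omega) hp h5)
      · exact H143.T5FiTits.mrow_tits hAA hna h1
      · exfalso
        have h1 := Cfsg.Agent.OrdDiv.table.{0}.sz F 2 (by norm_num) (by rw [hF]; norm_num)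
        have h2 : (2 : ℕ) ^ (2 + 1) = 8 := by norm_num
        rw [h2, ← Nat.card_congr e.toEquiv, hc] at h1
        exact sz_chk x hx (by rw [h1]; norm_num)
      · exact B.mcl K hna h1 hlt
      · exact H143.T5FiTits.mrow_fi22 hAA hna h1
      · exact B.j4 K hna h1 hlt
    · refine MRow.of_inner hna (H143.T5FiTits.inner_range h hp h5) ?_
      obtain ⟨P⟩ : Nonempty (Sylow p K) := inferInstance
      refine inner_of_abelian hAA hIrr hSE hna hex P ?_ hlt
      have hcard : Nat.card ↥(P : Subgroup K) ∣ p ^ 2 := by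
        obtain ⟨k, hk⟩ := IsPGroup.iff_card.1 P.isPGroup'
        have h1 := Subgroup.card_subgroup_dvd_card (P : Subgroup K)
        rw [hk] at h1 ⊢
        apply Nat.pow_dvd_pow
        by_contra h2
        exact hd ((Nat.pow_dvd_pow p (by omega)).trans h1)
      obtain ⟨k, hk, hk'⟩ := (Nat.dvd_prime_pow hp).1 hcard
      have hab : ∀ a b : ↥(P : Subgroup K), a * b = b * a := by
        interval_cases k
        · rw [pow_zero, Nat.card_eq_one_iff_unique] at hk'
          have := hk'.1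
          exact fun a b => Subsingleton.elim _ _
        · rw [pow_one] at hk'
          have := isCyclic_of_prime_card hk'
          let _ := IsCyclic.commGroup (α := ↥(P : Subgroup K))
          exact fun a b => mul_comm a b
        · have := IsPGroup.isMulCommutative_of_card_eq_prime_sq hk'
          exact this.1.1
      intro a ha b hb
      exact congrArg Subtype.val (hab ⟨a, ha⟩ ⟨b, hb⟩)

theorem rowFam_spor (B : SporBigM.{u}) {p : ℕ} (hp : p.Prime) (h5 : 5 ≤ p) (hAA : AAHyp.{u} p)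
    (hIrr : IrrHyp.{u} p) (hSE : SEHyp.{u} p) : RowFam.{u} p (fun S _ => IsSporadicGroup S) :=
  fun K _ _ _ hna h hlt => rowFam_of B hp h5 hAA hIrr hSE K hna (Or.inl h) hlt

end Cfsg.Agent.H143.T5SporM
end

-- part: H106/MSporAll
section
set_option linter.all false

/-!
# The middle rows of the sporadic groups: all of them (only `(M, 13)` as a hypothesis)
-/

set_option autoImplicit false

universe u

namespace Cfsg.Agent.H106.MSporAll

open Cfsg Cfsg.Agent.H533.T5 Cfsg.Agent.H957.T5M Cfsg.Agent.H106.MB Cfsg.Agent.H106.MT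
open Cfsg.Agent.H106.MAll Cfsg.Agent.H143.T5SporM

/-- The rows of the sporadic groups with `p ^ 3 ∣ |S|`. -/
theorem sporBig (hAA : AAHyp.{u} 5) (m13 : R.{u} 13 (fun K _ => Spor.IsoM K)) : SporBigM.{u} where
  hs := fun K _ _ _ _ h _ => H461.T5.MRows.hs K h
  mcl := fun K _ _ _ _ h _ => H461.T5.MRows.mcl K h
  ru := fun K _ _ _ _ h _ => H461.T5.MRows.ru K h
  co3 := fun K _ _ _ _ h _ => H752.MFiveCo.mrow_co3 K h
  co2 := fun K _ _ _ _ h _ => H752.MFiveCo.mrow_co2 K h
  co1 := fun K _ _ _ _ h _ => H752.MFiveCo.mrow_co1 K h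
  ly := fun K _ _ _ _ h _ => by
    have : Fact (Nat.Prime 5) := ⟨by norm_num⟩
    exact H164.FiveMRow.mrow_Ly (H798.T5Untw.mrow_G2 5 le_rfl (ZMod 5)) h
  th := fun K _ _ _ _ h _ => H164.FiveMRow.mrow_Th hAA h
  hn := fun K _ _ _ _ h _ => H536.T5.mrow_hn h
  b := fun K _ _ _ _ h _ => H536.T5.mrow_b h
  m5 := fun K _ _ _ _ h _ => H609.T5.mrow_m_five h
  m7 := fun K _ _ _ _ h _ => H609.T5.mrow_m_seven h
  m13 := m13
  on := fun K _ _ _ _ h _ => H797.T5.HeM.mrow_on h
  he := fun K _ _ _ _ h _ => H797.T5.HeM.mrow_he h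
  fi24 := fun K _ _ _ _ h _ => H797.T5.HeM.mrow_fi24 h
  j4 := fun K _ _ _ hna h _ => H131.M11J4.mrow_j4 K hna h

end Cfsg.Agent.H106.MSporAll
end

-- part: H106/MExc
section
set_option linter.all false
open scoped Cfsg.Agent.FastGrp

/-!
# The middle rows of the exceptional groups in cross characteristic

`Box p` : the black boxes (AA-theorem, S5303, rows of S2120).
-/

set_option autoImplicit false

universe u

namespace Cfsg.Agent.H106.MExc

open Cfsg Cfsg.Agent.H533.T5 Cfsg.Agent.H957.T5M Cfsg.Agent.H106.MB Cfsg.Agent.H106.MT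
open Cfsg.Agent.H106.MAll Cfsg.Agent.H106.InnerAb
open Cfsg.Agent.H193.StrP (LieRow SporRow)
open Cfsg.Agent.H778.Exc Cfsg.Agent.Nodes.RGDChev
open Cfsg.Agent.H28.T5RowsUntw Cfsg.Agent.H28.T5Ok

/-- The black boxes. -/
structure Box (p : ℕ) : Prop where
  aa : AAHyp.{u} p
  irr : IrrHyp.{u} p
  lie : LieRow.{u}

variable {p : ℕ}

/-- Inner pairs of a group of Lie type in cross characteristic with abelian Sylow subgroups. -/
theorem inner_lie (B : Box.{u} p) [hp : Fact p.Prime] (h5 : 5 ≤ p) {r : ℕ} [Fact r.Prime]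
    (hpr : p ≠ r) {S : Type u} [Group S] [Finite S] [IsSimpleGroup S] (hna : ¬ IsMulCommutative S)
    (hS : IsLieTypeChar r S) (hab : ∀ P : Sylow p S, IsMulCommutative (P : Subgroup S))
    (hlt : Below.{u} p (Nat.card S)) :
    ∀ x y : S, orderOf x = p → orderOf y = p → MPair p (⊤ : Subgroup S) x y := by
  refine inner_of_row B.aa B.irr hna ?_ hab hlt
  rcases B.lie r p (by omega) hpr S inferInstance hna hS with h | ⟨h, -⟩
  · exact h
  · omega

/-- The characteristic of a finite field. -/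
theorem exists_char_ne [hp : Fact p.Prime] (F : Type) [Field F] [Fintype F]
    (hF : ¬ p ∣ Fintype.card F) : ∃ (r : ℕ) (_ : Fact r.Prime) (_ : CharP F r), p ≠ r := by
  obtain ⟨n, hr, hn⟩ := FiniteField.card F (ringChar F)
  refine ⟨ringChar F, ⟨hr⟩, inferInstance, ?_⟩
  rintro h
  apply hF
  rw [hn, ← h]
  exact dvd_pow_self _ n.ne_zero

section Untw

variable [hp : Fact p.Prime] (B : Box.{u} p) (h5 : 5 ≤ p) {S : Type u} [Group S] [Finite S]
  [IsSimpleGroup S] (hna : ¬ IsMulCommutative S) {F : Type} [Field F] [Fintype F]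
  (hF : ¬ p ∣ Fintype.card F) (hlt : Below.{u} p (Nat.card S))

include B h5 hna hF hlt

theorem inner_chev (hS : (3 ≤ Fintype.card F ∧ Nonempty (S ≃* Lie.chevG2.group F)) ∨
      Nonempty (S ≃* Lie.chevF4.group F) ∨ Nonempty (S ≃* Lie.chevE6.group F) ∨
      Nonempty (S ≃* Lie.chevE7.group F) ∨ Nonempty (S ≃* Lie.chevE8.group F))
    (hab : ∀ P : Sylow p S, IsMulCommutative (P : Subgroup S)) :
    ∀ x y : S, orderOf x = p → orderOf y = p → MPair p (⊤ : Subgroup S) x y := by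
  obtain ⟨r, _, _, hpr⟩ := exists_char_ne (p := p) F hF
  exact inner_lie B h5 hpr hna (Or.inr (Or.inr (Or.inr (Or.inr (Or.inr (Or.inr (Or.inl
    ⟨F, _, _, inferInstance, hS⟩))))))) hab hlt

theorem mrow_g2 (h3 : 3 ≤ Fintype.card F) (e : S ≃* Lie.chevG2.group F) : MRow p S :=
  H28.T5RowsUntw.mrow_g2 hp.out B.aa h5 h3 hF e (inner_chev B h5 hna hF hlt (Or.inl ⟨h3, ⟨e⟩⟩)
    (fun P => comm_of_weyl type_G2 CoxeterMatrix.G₂.toCoxeterSystem (W_G2 h5) hF
      (e0 := e.toMonoidHom) e.injective P))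

theorem mrow_f4 (e : S ≃* Lie.chevF4.group F) : MRow p S :=
  H28.T5RowsUntw.mrow_f4 hp.out B.aa h5 hF e (inner_chev B h5 hna hF hlt (Or.inr (Or.inl ⟨e⟩))
    (fun P => comm_of_weyl type_F4 CoxeterMatrix.F₄.toCoxeterSystem (W_F4 h5) hF
      (e0 := e.toMonoidHom) e.injective P))

theorem mrow_e6 (h7 : 7 ≤ p) (e : S ≃* Lie.chevE6.group F) : MRow p S :=
  H28.T5RowsUntw.mrow_e6 hp.out B.aa h7 hF e (inner_chev B h5 hna hF hlt
    (Or.inr (Or.inr (Or.inl ⟨e⟩)))
    (fun P => comm_of_weyl type_E6 CoxeterMatrix.E₆.toCoxeterSystem (W_E6 h7) hF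
      (e0 := e.toMonoidHom) e.injective P))

theorem mrow_e7 (h11 : 11 ≤ p) (e : S ≃* Lie.chevE7.group F) : MRow p S :=
  H28.T5RowsUntw.mrow_e7 hp.out B.aa h11 hF e (inner_chev B h5 hna hF hlt
    (Or.inr (Or.inr (Or.inr (Or.inl ⟨e⟩))))
    (fun P => comm_of_weyl type_E7 CoxeterMatrix.E₇.toCoxeterSystem (W_E7 h11) hF
      (e0 := e.toMonoidHom) e.injective P))

theorem mrow_e8 (h11 : 11 ≤ p) (e : S ≃* Lie.chevE8.group F) : MRow p S :=
  H28.T5RowsUntw.mrow_e8 hp.out B.aa h11 hF e (inner_chev B h5 hna hF hlt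
    (Or.inr (Or.inr (Or.inr (Or.inr ⟨e⟩))))
    (fun P => comm_of_weyl type_E8 CoxeterMatrix.E₈.toCoxeterSystem (W_E8 h11) hF
      (e0 := e.toMonoidHom) e.injective P))

end Untw

section Redn

variable (hp : p.Prime) (h5 : 5 ≤ p) {S : Type u} [Group S] {F : Type} [Field F] [Fintype F]

include hp h5

theorem mrow_psl2 (hF : ¬ p ∣ Fintype.card F) :
    MRow p (Matrix.ProjectiveSpecialLinearGroup (Fin 2) F) :=
  H957.T5RowPSL.row_PSL_cross le_rfl hp h5 hF (MulEquiv.refl _)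

theorem mrow_e6_one (hF : ¬ p ∣ Fintype.card F) (hq : p ∣ Fintype.card F - 1)
    (e : S ≃* Lie.chevE6.group F) : MRow p S :=
  MRow.congr e ((H897.T5UntwRow.e6 hp h5 hq).mrow hp (mrow_psl2 hp h5 hF))

theorem mrow_e7_two (hF : ¬ p ∣ Fintype.card F) (hq : p ∣ Fintype.card F ^ 2 - 1)
    (e : S ≃* Lie.chevE7.group F) : MRow p S :=
  MRow.congr e ((H897.T5UntwRow.e7 hp h5 hq).mrow hp (mrow_psl2 hp h5 hF))

theorem mrow_e8_two (hF : ¬ p ∣ Fintype.card F) (hq : p ∣ Fintype.card F ^ 2 - 1)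
    (e : S ≃* Lie.chevE8.group F) : MRow p S :=
  MRow.congr e ((H897.T5UntwRow.e8 hp h5 hq).mrow hp (mrow_psl2 hp h5 hF))

end Redn

section Tw

open Cfsg.Agent.ChevalleyStructure Cfsg.Lie

variable [hp : Fact p.Prime] (B : Box.{u} p) (h5 : 5 ≤ p) {S : Type u} [Group S] [Finite S]
  [IsSimpleGroup S] (hna : ¬ IsMulCommutative S) {K : Type} [Field K] [Fintype K] {q : ℕ}
  (hq : IsPrimePow q) (hK : ¬ p ∣ Fintype.card K) (hlt : Below.{u} p (Nat.card S))

include B h5 hna hq hK hlt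

theorem mrow_twE6 (h7 : 7 ≤ p) (hc : Fintype.card K = q ^ 2) (e : S ≃* Lie.twistedE6 K q) :
    MRow p S := by
  have hpq : ¬ p ∣ q := fun h => hK (by rw [hc]; exact dvd_pow h (by norm_num))
  obtain ⟨r, _, _, hpr⟩ := exists_char_ne (p := p) K hK
  refine H28.T5TwSix.mrow_twE6 hq hc hp.out hpq e B.aa h7 (inner_lie B h5 hpr hna
    (Or.inr (Or.inr (Or.inr (Or.inr (Or.inr (Or.inr (Or.inr (Or.inl
      ⟨K, _, _, inferInstance, q, hq, Or.inl ⟨hc, ⟨e⟩⟩⟩)))))))) (fun P => ?_) hlt)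
  exact comm_of_weyl type_E6 CoxeterMatrix.E₆.toCoxeterSystem (W_E6 h7) hK
    (e0 := (Subgroup.inclusion (genSubgroup_le_group type_E6.inList (e6Words K q))).comp
      e.toMonoidHom)
    ((Subgroup.inclusion_injective (genSubgroup_le_group type_E6.inList (e6Words K q))).comp
      e.injective) P

theorem mrow_twD4 (hc : Fintype.card K = q ^ 3) (e : S ≃* Lie.twistedD4 K q) :
    MRow p S := by
  have hpq : ¬ p ∣ q := fun h => hK (by rw [hc]; exact dvd_pow h (by norm_num))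
  obtain ⟨r, _, _, hpr⟩ := exists_char_ne (p := p) K hK
  refine H28.T5TwFour.mrow_twD4 hq hc hp.out h5 hpq e B.aa (inner_lie B h5 hpr hna
    (Or.inr (Or.inr (Or.inr (Or.inr (Or.inr (Or.inr (Or.inr (Or.inl
      ⟨K, _, _, inferInstance, q, hq, Or.inr ⟨hc, ⟨e⟩⟩⟩)))))))) (fun P => ?_) hlt)
  exact comm_of_weyl type_D4 coxeterD4.toCoxeterSystem (W_D4 h5) hK
    (e0 := (Subgroup.inclusion (genSubgroup_le_group type_D4.inList (d4Words K q))).comp
      e.toMonoidHom)
    ((Subgroup.inclusion_injective (genSubgroup_le_group type_D4.inList (d4Words K q))).comp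
      e.injective) P

end Tw

end Cfsg.Agent.H106.MExc
end

-- part: H106/MExc_mg
section

end
end
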