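import Mathlib
import Cfsg.Agent.H957.Bridge
set_option linter.all false
/-!
# Nonsingular points in characteristic two
-/

set_option autoImplicit false

namespace Cfsg.Agent.H957

open Module QuadraticMap Matrix
open scoped MatrixGroups

section

variable {F : Type*} [Field F]

/-- Squaring is surjective on a finite field of characteristic two. -/
theorem exists_sq [Finite F] (h2 : (2 : F) = 0) (a : F) : ∃ c : F, c * c = a := by
  have : Function.Injective (fun c : F => c * c) := by
    intro a b hab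
    have h : (a - b) ^ 2 = 0 := by
      have : a * a = b * b := hab
      calc (a - b) ^ 2 = a * a - b * b + 2 * (b ^ 2 - a * b) := by ring
        _ = 0 := by rw [this, h2]; ring
    exact sub_eq_zero.1 (pow_eq_zero_iff (two_ne_zero)|>.1 h)
  exact Finite.surjective_of_injective this a

theorem eq_of_sq_eq (h2 : (2 : F) = 0) {a b : F} (hab : a * a = b * b) : a = b := by
  have h : (a - b) ^ 2 = 0 := by
    calc (a - b) ^ 2 = a * a - b * b + 2 * (b ^ 2 - a * b) := by ring
      _ = 0 := by rw [hab, h2]; ring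
  exact sub_eq_zero.1 (pow_eq_zero_iff (two_ne_zero)|>.1 h)

variable {V : Type*} [AddCommGroup V] [Module F V]

/-- The nonsingular points correspond to the vectors with `Q v = 1`. -/
theorem card_points [Finite F] (h2 : (2 : F) = 0) (Q : QuadraticForm F V) :
    Nat.card {W : Submodule F V // finrank F ↥W = 1 ∧ ∃ v ∈ W, Q v ≠ 0} = Nat.card {v : V // Q v = 1} := by
  symm
  refine Nat.card_congr (Equiv.ofBijective
    (fun v => ⟨Submodule.span F {v.1}, ?_, v.1, Submodule.mem_span_singleton_self _, ?_⟩) ⟨?_, ?_⟩)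
  · apply finrank_span_singleton
    rintro h
    have := v.2
    rw [h] at this
    simp at this
  · rw [v.2]; exact one_ne_zero
  · rintro ⟨v, hv⟩ ⟨w, hw⟩ h
    have h1 : Submodule.span F {v} = Submodule.span F {w} := congrArg Subtype.val h
    have h3 : v ∈ Submodule.span F {w} := by rw [← h1]; exact Submodule.mem_span_singleton_self _
    obtain ⟨c, hc⟩ := Submodule.mem_span_singleton.1 h3
    have h4 : c * c = 1 := by
      have : Q (c • w) = 1 := by rw [hc]; exact hv
      rw [QuadraticMap.map_smul, hw] at this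
      simpa using this
    have h5 : c = 1 := eq_of_sq_eq h2 (by rw [h4, one_mul])
    apply Subtype.ext
    rw [h5, one_smul] at hc
    exact hc.symm
  · rintro ⟨W, hW, v, hv, hv0⟩
    obtain ⟨c, hc⟩ := exists_sq h2 (Q v)⁻¹
    have hc0 : c ≠ 0 := by
      rintro rfl
      rw [mul_zero] at hc
      exact inv_ne_zero hv0 hc.symm
    have hv0' : v ≠ 0 := by
      rintro rfl
      simp at hv0
    refine ⟨⟨c • v, ?_⟩, ?_⟩
    · rw [QuadraticMap.map_smul, hc, smul_eq_mul, inv_mul_cancel₀ hv0]
    · apply Subtype.ext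
      change Submodule.span F {c • v} = W
      have hcv : c • v ≠ 0 := smul_ne_zero hc0 hv0'
      have hfd : FiniteDimensional F W := FiniteDimensional.of_finrank_pos (by omega)
      apply Submodule.eq_of_le_of_finrank_eq
      · rw [Submodule.span_singleton_le_iff_mem]; exact W.smul_mem _ hv
      · rw [finrank_span_singleton hcv, hW]

end

section

variable {ι : Type} [Fintype ι] [DecidableEq ι] {F : Type*} [Field F] [Finite F]

/-- The negative direction for odd `r`: an element of order `r` of `Ω` fixing no nonsingular point. -/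
theorem exists_no_point (h2 : (2 : F) = 0) (Q : QuadraticForm F (ι → F)) (hQ : (polarBilin Q).Nondegenerate)
    (hι : 4 < Fintype.card ι) {r : ℕ} [Fact r.Prime] (hr2 : r ≠ 2)
    (hcard : r ∣ Nat.card {W : Submodule F (ι → F) // finrank F ↥W = 1 ∧ ∃ v ∈ W, Q v ≠ 0}) :
    ∃ x : GL ι F, x ∈ Cfsg.Geo.omegaGL (⇑Q) ∧ x ^ r = 1 ∧
      (∀ z : F, (x : Matrix ι ι F) ≠ z • (1 : Matrix ι ι F)) ∧
      ∀ W : Submodule F (ι → F), (∃ v ∈ W, Q v ≠ 0) → finrank F W = 1 →
        ¬ W.map (Matrix.toLin' (x : Matrix ι ι F)) ≤ W := by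
  have hrp : (Fact.out : r.Prime) = (Fact.out : r.Prime) := rfl
  have hchar : CharP F 2 := CharTwo.of_one_ne_zero_of_two_eq_zero one_ne_zero h2
  have hr : (r : F) ≠ 0 := by
    rw [Ne, CharP.cast_eq_zero_iff F 2 r]
    intro h
    exact hr2 ((Nat.prime_dvd_prime_iff_eq Nat.prime_two Fact.out).1 h).symm
  rw [card_points h2] at hcard
  obtain ⟨g, hg, hgr, hgf⟩ := exists_no_fix_quad h2 Q hQ hr hcard
  have hfix : ∀ v, Q v ≠ 0 → ∀ c : F, g v = c • v → False := by
    intro v hv c hc
    have h1 : Q (c • v) = Q v := by rw [← hc]; exact hg v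
    rw [QuadraticMap.map_smul, smul_eq_mul] at h1
    have h3 : c * c = 1 := mul_right_cancel₀ hv (by rw [h1, one_mul])
    have h4 : c = 1 := eq_of_sq_eq h2 (by rw [h3, one_mul])
    rw [h4, one_smul] at hc
    have := hgf v hc
    rw [this] at hv
    simp at hv
  have hrodd : Odd r := (Fact.out : r.Prime).odd_of_ne_two hr2
  have hpow : glOf g ^ r = 1 := by rw [← glOf_pow, hgr, glOf_one]
  obtain ⟨v₀, hv₀⟩ : ∃ v, Q v ≠ 0 := by
    by_contra hcon
    push Not at hcon
    obtain ⟨i⟩ : Nonempty ι := Fintype.card_pos_iff.1 (by omega)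
    have h1 : (Pi.single i (1 : F) : ι → F) = 0 := by
      apply hQ.1
      intro y
      rw [polarBilin_apply_apply, polar, hcon, hcon, hcon]
      ring
    have h3 := congrFun h1 i
    simp at h3
  refine ⟨glOf g, mem_omegaGL_of_odd Q hQ (Or.inr (by omega)) hrodd _ (glOf_mem hg) hpow, hpow, ?_, ?_⟩
  · intro z hz
    apply hfix v₀ hv₀ z
    rw [← glOf_mulVec, hz, Matrix.smul_mulVec, Matrix.one_mulVec]
  · rintro W ⟨v, hv, hv0⟩ hW hmap
    have hv' : v ≠ 0 := by rintro rfl; simp at hv0
    have h1 : (Matrix.toLin' (glOf g : Matrix ι ι F)) v ∈ W := hmap (Submodule.mem_map_of_mem hv)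
    rw [Matrix.toLin'_apply, glOf_mulVec] at h1
    have hne : (⟨v, hv⟩ : W) ≠ 0 := fun h => hv' (congrArg Subtype.val h)
    obtain ⟨c, hc⟩ := (finrank_eq_one_iff_of_nonzero' (⟨v, hv⟩ : W) hne).1 hW ⟨g v, h1⟩
    exact hfix v hv0 c (congrArg Subtype.val hc).symm

omit [Finite F] in
/-- A linear `x` with `x ^ 2` scalar preserving a non-zero quadratic form in characteristic two satisfies
`x ^ 2 = 1`. -/
theorem sq_eq_one_of_scalar (h2 : (2 : F) = 0) (Q : QuadraticForm F (ι → F)) (hQ : ∃ v, Q v ≠ 0)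
    (x : GL ι F) (hx : ∀ v, Q ((x : Matrix ι ι F) *ᵥ v) = Q v) {z : F}
    (hz : ((x ^ 2 : GL ι F) : Matrix ι ι F) = z • (1 : Matrix ι ι F)) : x ^ 2 = 1 := by
  obtain ⟨v, hv⟩ := hQ
  have h1 : Q (((x ^ 2 : GL ι F) : Matrix ι ι F) *ᵥ v) = Q v := by
    rw [pow_two, Units.val_mul, ← Matrix.mulVec_mulVec, hx, hx]
  rw [hz, Matrix.smul_mulVec, Matrix.one_mulVec, QuadraticMap.map_smul, smul_eq_mul] at h1
  have h3 : z * z = 1 := mul_right_cancel₀ hv (by rw [h1, one_mul])
  have h4 : z = 1 := eq_of_sq_eq h2 (by rw [h3, one_mul])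
  apply Units.ext
  rw [hz, h4, one_smul, Units.val_one]

omit [Finite F] in
/-- The fixed space of an involution in characteristic two has dimension at least half. -/
theorem finrank_ker_of_sq (h2 : (2 : F) = 0) {V : Type*} [AddCommGroup V] [Module F V] [FiniteDimensional F V]
    (x : Module.End F V) (hx : x * x = 1) : finrank F V ≤ 2 * finrank F ↥(LinearMap.ker (x - 1)) := by
  have h1 := LinearMap.finrank_range_add_finrank_ker (x - 1)
  have h3 : LinearMap.range (x - 1) ≤ LinearMap.ker (x - 1) := by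
    rintro _ ⟨v, rfl⟩
    rw [LinearMap.mem_ker, ← Module.End.mul_apply]
    have : (x - 1) * (x - 1) = (2 : F) • (1 - x) := by
      have e : (x - 1) * (x - 1) = x * x - x - x + 1 := by noncomm_ring
      rw [e, hx, two_smul]; abel
    rw [this, h2, zero_smul]; rfl
  have h4 := Submodule.finrank_mono h3
  omega

end

end Cfsg.Agent.H957
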